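import Groth.Agent.Hensel.K143.FpColim
import Mathlib.AlgebraicGeometry.Morphisms.FinitePresentation
import Mathlib.AlgebraicGeometry.Limits
import Mathlib.CategoryTheory.Limits.Constructions.Over.Connected
import Mathlib.CategoryTheory.Filtered.Connected

/-! # An affine scheme over an affine scheme is a cofiltered limit of finitely presented ones -/

set_option autoImplicit false
universe w w' u

open CategoryTheory CategoryTheory.Limits AlgebraicGeometry Opposite

namespace K344.FpLimit

open K143.FpColim

variable (A : Type u) [CommRing A] (B : Type u) [CommRing B] [Algebra A B]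

/-- The diagram of spectra of finitely presented algebras over `B`. -/
noncomputable def diag : (Idx A B)ᵒᵖ ⥤ Over (Spec (CommRingCat.of A)) where
  obj i := Over.mk (Spec.map (CommRingCat.ofHom (algebraMap A i.unop.Alg)))
  map {i j} f := Over.homMk (Spec.map (CommRingCat.ofHom f.unop.1.toRingHom)) (by
    show Spec.map _ ≫ Spec.map _ = Spec.map _
    rw [← Spec.map_comp, ← CommRingCat.ofHom_comp]
    congr 2
    ext a
    exact f.unop.1.commutes a)
  map_id i := by
    ext1
    exact Spec.map_id _
  map_comp f g := by
    ext1
    exact Spec.map_comp (CommRingCat.ofHom g.unop.1.toRingHom) (CommRingCat.ofHom f.unop.1.toRingHom)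

/-- The cone with point `Spec B`. -/
noncomputable def cone : Cone (diag A B) where
  pt := Over.mk (Spec.map (CommRingCat.ofHom (algebraMap A B)))
  π :=
    { app := fun i => Over.homMk (Spec.map (CommRingCat.ofHom i.unop.σ.toRingHom)) (by
        show Spec.map _ ≫ Spec.map _ = Spec.map _
        rw [← Spec.map_comp, ← CommRingCat.ofHom_comp]
        congr 2
        ext a
        exact i.unop.σ.commutes a)
      naturality := fun i j f => by
        ext1
        show 𝟙 _ ≫ Spec.map (CommRingCat.ofHom j.unop.σ.toRingHom) =
          Spec.map (CommRingCat.ofHom i.unop.σ.toRingHom) ≫ Spec.map (CommRingCat.ofHom f.unop.1.toRingHom)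
        rw [Category.id_comp, ← Spec.map_comp, ← CommRingCat.ofHom_comp]
        exact congrArg (fun g : j.unop.Alg →ₐ[A] B => Spec.map (CommRingCat.ofHom g.toRingHom)) f.unop.2.symm }

/-- The cone is a limit of schemes. -/
theorem nonempty_isLimit : Nonempty (IsLimit ((Over.forget _).mapCone (cone A B))) := by
  have : IsConnected (Idx A B) := IsFiltered.isConnected _
  have h1 : PreservesColimitsOfShape (Idx A B) (Under.forget (CommRingCat.of A)) :=
    inferInstanceAs (PreservesColimitsOfShape (Idx A B) (StructuredArrow.proj (CommRingCat.of A) (𝟭 CommRingCat.{u})))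
  have h2 : IsColimit ((Under.forget (CommRingCat.of A)).mapCocone (cocone A B)) :=
    isColimitOfPreserves _ (isColimit (A := A) (B := B))
  exact ⟨isLimitOfPreserves Scheme.Spec h2.op⟩

/-- An affine scheme over an affine scheme is a cofiltered limit of affine schemes of finite presentation. -/
theorem exists_limit {X Y : Scheme.{u}} [IsAffine X] [IsAffine Y] (f : X ⟶ Y) :
    ∃ (I : Type u) (_ : SmallCategory I) (_ : IsCofiltered I) (D : I ⥤ Over Y) (c : Cone D)
      (_ : IsLimit ((Over.forget Y).mapCone c)) (_ : c.pt ≅ Over.mk f),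
      (∀ i, IsAffine (D.obj i).left) ∧ ∀ i, LocallyOfFinitePresentation (D.obj i).hom := by
  let A := Γ(Y, ⊤)
  let B := Γ(X, ⊤)
  let _ : Algebra A B := f.appTop.hom.toAlgebra
  obtain ⟨h⟩ := nonempty_isLimit A B
  refine ⟨(Idx A B)ᵒᵖ, inferInstance, inferInstance, diag A B ⋙ Over.map Y.isoSpec.inv,
    (Over.map Y.isoSpec.inv).mapCone (cone A B), h, ?_, ?_, ?_⟩
  · refine Over.isoMk X.isoSpec.symm ?_
    show X.isoSpec.inv ≫ f = Spec.map f.appTop ≫ Y.isoSpec.inv
    rw [Iso.inv_comp_eq, ← Category.assoc, Iso.eq_comp_inv]
    exact Scheme.toSpecΓ_naturality f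
  · intro i
    exact inferInstanceAs (IsAffine (Spec (CommRingCat.of i.unop.Alg)))
  · intro i
    have h1 : LocallyOfFinitePresentation (Spec.map (CommRingCat.ofHom (algebraMap A i.unop.Alg))) := by
      rw [LocallyOfFinitePresentation.SpecMap_iff]
      exact RingHom.finitePresentation_algebraMap.2 (inferInstance : Algebra.FinitePresentation A i.unop.Alg)
    exact inferInstanceAs (LocallyOfFinitePresentation
      (Spec.map (CommRingCat.ofHom (algebraMap A i.unop.Alg)) ≫ Y.isoSpec.inv))

end K344.FpLimit
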