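import Groth.Agent.HTop.K344.VCrit

/-! # The lifting property and cofiltered limits of affine schemes -/

set_option autoImplicit false
universe w w' u

open CategoryTheory CategoryTheory.Limits AlgebraicGeometry HTop

namespace K344.VLimit

open K346.ValLift K344.VCrit

/-- Version of the criterion with the pullback in the other order. -/
theorem hasValLift_singleton_iff' {X Y : Scheme.{u}} (f : X ⟶ Y) [IsAffineHom f] :
    HasValLift (PreZeroHypercover.singleton.{w} f) ↔
      ∀ (V : CommRingCat.{u}) [IsDomain V] [ValuationRing V] (g : Spec V ⟶ Y),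
        Crit (glob V (pullback.snd f g)) := by
  constructor
  · intro h V _ _ g
    obtain ⟨W, i1, i2, φ, hφ, j, g', hg'⟩ := h V g
    have : IsAffine (pullback f g) := isAffine_of_isAffineHom (pullback.snd f g)
    rw [crit_iff]
    exact ⟨W, i1, i2, φ, hφ, pullback.lift g' (Spec.map φ) hg', pullback.lift_snd _ _ _⟩
  · intro h V _ _ g
    have : IsAffine (pullback f g) := isAffine_of_isAffineHom (pullback.snd f g)
    obtain ⟨W, i1, i2, φ, hφ, g', hg'⟩ := (crit_iff V (pullback.snd f g)).1 (h V g)
    refine ⟨W, i1, i2, φ, hφ, PUnit.unit, g' ≫ pullback.fst f g, ?_⟩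
    show (g' ≫ pullback.fst f g) ≫ f = _
    rw [Category.assoc, pullback.condition, ← Category.assoc, hg']

variable {Y : Scheme.{u}} {I : Type u} [SmallCategory I] [IsCofiltered I] (D : I ⥤ Over Y) (c : Cone D)

/-- A cone over `Y` which is a limit of schemes is a limit over `Y` (cofiltered diagrams). -/
theorem nonempty_isLimit_over (hc : IsLimit ((Over.forget Y).mapCone c)) : Nonempty (IsLimit c) := by
  have : IsConnected I := IsCofiltered.isConnected I
  have h1 : CreatesLimitsOfShape I (Over.forget Y) :=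
    inferInstanceAs (CreatesLimitsOfShape I (CostructuredArrow.proj (𝟭 Scheme.{u}) Y))
  exact ⟨isLimitOfReflects (Over.forget Y) hc⟩

/-- The base change of a limit cone. -/
theorem nonempty_isLimit_pullback (hc : IsLimit ((Over.forget Y).mapCone c)) {Z : Scheme.{u}} (g : Z ⟶ Y) :
    Nonempty (IsLimit ((Over.pullback g ⋙ Over.forget Z).mapCone c)) := by
  have : IsConnected I := IsCofiltered.isConnected I
  obtain ⟨hc'⟩ := nonempty_isLimit_over D c hc
  have h1 : PreservesLimitsOfShape I (Over.forget Z) :=
    inferInstanceAs (PreservesLimitsOfShape I (CostructuredArrow.proj (𝟭 Scheme.{u}) Z))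
  have h2 : PreservesLimitsOfShape I (Over.pullback g) := (Over.mapPullbackAdj g).rightAdjoint_preservesLimits.1
  exact ⟨isLimitOfPreserves (Over.pullback g ⋙ Over.forget Z) hc'⟩

/-- The criterion for a cofiltered limit of affine schemes over `Spec V`. -/
theorem crit_of_isLimit (V : CommRingCat.{u}) [IsDomain V] [ValuationRing V] (E : I ⥤ Over (Spec V))
    [hE : ∀ i, IsAffine (E.obj i).left] (e : Cone E) (he : IsLimit ((Over.forget _).mapCone e))
    (h : ∀ i, Crit (glob V (E.obj i).hom)) : Crit (glob V e.pt.hom) := by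
  intro r hr m hm x hx
  have hE' : ∀ i, IsAffine ((E ⋙ Over.forget _).obj i) := hE
  obtain ⟨i, t, ht⟩ := exists_appTop_π_eq_of_isAffine_of_isLimit (E ⋙ Over.forget _) _ he x
  let t' : Γ((E.obj i).left, ⊤) := t
  -- the maps on sections
  have hπ : ∀ v : V, (e.π.app i).left.appTop.hom (glob V (E.obj i).hom v) = glob V e.pt.hom v := by
    intro v
    have e1 : (e.π.app i).left ≫ (E.obj i).hom = e.pt.hom := Over.w (e.π.app i)
    rw [← e1, glob_comp]
    rfl
  have h0 : (e.π.app i).left.appTop.hom (glob V (E.obj i).hom r - glob V (E.obj i).hom (r * m) * t') = 0 := by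
    rw [map_sub, map_mul, hπ, hπ, sub_eq_zero, hx]
    congr 1
    exact ht.symm
  obtain ⟨j, f, hf⟩ := exists_appTop_map_eq_zero_of_isAffine_of_isLimit (E ⋙ Over.forget _) _ he i
    (glob V (E.obj i).hom r - glob V (E.obj i).hom (r * m) * t') h0
  have hf' : (E.map f).left.appTop.hom (glob V (E.obj i).hom r - glob V (E.obj i).hom (r * m) * t') = 0 := hf
  have hπ' : ∀ v : V, (E.map f).left.appTop.hom (glob V (E.obj i).hom v) = glob V (E.obj j).hom v := by
    intro v
    have e1 : (E.map f).left ≫ (E.obj i).hom = (E.obj j).hom := Over.w (E.map f)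
    rw [← e1, glob_comp]
    rfl
  rw [map_sub, map_mul, hπ', hπ', sub_eq_zero] at hf'
  exact h j r hr m hm _ hf'

/-- If every member has the lifting property, so has the limit. -/
theorem hasValLift_of_isLimit [∀ i, IsAffineHom (D.obj i).hom] [IsAffineHom c.pt.hom]
    (hc : IsLimit ((Over.forget Y).mapCone c))
    (h : ∀ i, HasValLift (PreZeroHypercover.singleton.{w} (D.obj i).hom)) :
    HasValLift (PreZeroHypercover.singleton.{w} c.pt.hom) := by
  rw [hasValLift_singleton_iff']
  intro V _ _ g
  obtain ⟨hlim⟩ := nonempty_isLimit_pullback D c hc g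
  have hD : ∀ i, IsAffine ((D ⋙ Over.pullback g).obj i).left := by
    intro i
    have h1 : IsAffineHom (pullback.snd (D.obj i).hom g) := inferInstance
    exact isAffine_of_isAffineHom (pullback.snd (D.obj i).hom g)
  exact crit_of_isLimit V (D ⋙ Over.pullback g) ((Over.pullback g).mapCone c) hlim
    (fun i => (hasValLift_singleton_iff' _).1 (h i) V g)

/-- S7291. -/
theorem isStandardV_singleton_iff [IsAffine Y] [∀ i, IsAffine (D.obj i).left]
    (hc : IsLimit ((Over.forget Y).mapCone c)) :
    IsStandardV (PreZeroHypercover.singleton.{w} c.pt.hom) ↔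
      ∀ i, IsStandardV (PreZeroHypercover.singleton.{w} (D.obj i).hom) := by
  have hD : ∀ i, IsAffine ((D ⋙ Over.forget Y).obj i) := fun i => inferInstanceAs (IsAffine (D.obj i).left)
  have hpt : IsAffine c.pt.left := Scheme.isAffine_of_isLimit _ hc
  have hfin : ∀ {X : Scheme.{u}} (f : X ⟶ Y), Finite (PreZeroHypercover.singleton.{w} f).I₀ := fun f =>
    inferInstanceAs (Finite PUnit)
  constructor
  · intro h i
    refine ⟨inferInstance, hfin _, fun _ => inferInstanceAs (IsAffine (D.obj i).left), ?_⟩
    intro V _ _ g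
    obtain ⟨W, i1, i2, φ, hφ, j, g', hg'⟩ := h.lift V g
    let k : Spec W ⟶ c.pt.left := g'
    let l : c.pt.left ⟶ (D.obj i).left := (c.π.app i).left
    have hk : k ≫ c.pt.hom = Spec.map φ ≫ g := hg'
    have hl : l ≫ (D.obj i).hom = c.pt.hom := Over.w (c.π.app i)
    refine ⟨W, i1, i2, φ, hφ, PUnit.unit, k ≫ l, ?_⟩
    show (k ≫ l) ≫ (D.obj i).hom = _
    rw [Category.assoc, hl, hk]
  · intro h
    refine ⟨inferInstance, hfin _, fun _ => hpt, ?_⟩
    exact hasValLift_of_isLimit D c hc fun i => (h i).lift

end K344.VLimit
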