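import Groth.Agent.HTop.K344.FpLimit
import Groth.Agent.HTop.K344.VLimit
import Groth.Agent.HTop.K346.VStable
import Groth.Agent.HTop.K346.PhBasic

/-! # Standard V coverings by one affine scheme as limits of ph / h coverings -/

set_option autoImplicit false
universe w w' u

open CategoryTheory CategoryTheory.Limits AlgebraicGeometry HTop

namespace K344.VTfae

open K346.ValLift K346.VCover K346.VStable K346.PhBasic K344.VLimit K344.FpLimit

variable {Y : Scheme.{u}}

theorem isStandardV_singleton_iff_hasValLift {X Y : Scheme.{u}} [IsAffine X] [IsAffine Y] (f : X ⟶ Y) :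
    IsStandardV (PreZeroHypercover.singleton.{w} f) ↔ HasValLift (PreZeroHypercover.singleton.{w} f) :=
  ⟨fun h => h.lift, fun h => ⟨inferInstance, inferInstanceAs (Finite PUnit), fun _ => inferInstanceAs (IsAffine X), h⟩⟩

theorem isVCover_singleton_iff {X Y : Scheme.{u}} [IsAffine X] [IsAffine Y] (f : X ⟶ Y) :
    IsVCover (PreZeroHypercover.singleton.{w} f) ↔ IsStandardV (PreZeroHypercover.singleton.{w} f) := by
  rw [isStandardV_singleton_iff_hasValLift]
  constructor
  · exact fun h => IsVCover.hasValLift h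
  · intro h
    have : Finite (PreZeroHypercover.singleton.{w} f).I₀ := inferInstanceAs (Finite PUnit)
    exact isVCover_of_hasValLift _ (fun _ => inferInstanceAs (QuasiCompact f)) h

theorem hasValLift_of_hom {P Q : Over Y} (e : P ⟶ Q) (h : HasValLift (PreZeroHypercover.singleton.{w} P.hom)) :
    HasValLift (PreZeroHypercover.singleton.{w} Q.hom) := by
  intro V _ _ g
  obtain ⟨W, i1, i2, φ, hφ, j, g', hg'⟩ := h V g
  let k : Spec W ⟶ P.left := g'
  have hk : k ≫ P.hom = Spec.map φ ≫ g := hg'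
  refine ⟨W, i1, i2, φ, hφ, PUnit.unit, k ≫ e.left, ?_⟩
  show (k ≫ e.left) ≫ Q.hom = _
  rw [Category.assoc, Over.w e, hk]

theorem tfae {X Y : Scheme.{u}} [IsAffine X] [IsAffine Y] (f : X ⟶ Y)
    (hph : ∀ {X Y : Scheme.{u}} (f : X ⟶ Y), LocallyOfFinitePresentation f →
      IsVCover (PreZeroHypercover.singleton.{w} f) → IsPhCover (PreZeroHypercover.singleton.{w} f)) :
    List.TFAE
      [HTop.IsStandardV (PreZeroHypercover.singleton.{w} f),
       ∃ (I : Type u) (_ : SmallCategory I) (_ : IsCofiltered I) (D : I ⥤ Over Y) (c : Cone D)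
          (_ : IsLimit ((Over.forget Y).mapCone c)) (_ : c.pt ≅ Over.mk f),
          (∀ i, IsAffine (D.obj i).left) ∧ ∀ i, HTop.IsPhCover (PreZeroHypercover.singleton.{w} (D.obj i).hom),
       ∃ (I : Type u) (_ : SmallCategory I) (_ : IsCofiltered I) (D : I ⥤ Over Y) (c : Cone D)
          (_ : IsLimit ((Over.forget Y).mapCone c)) (_ : c.pt ≅ Over.mk f),
          (∀ i, IsAffine (D.obj i).left) ∧ ∀ i, HTop.IsHCover (PreZeroHypercover.singleton.{w} (D.obj i).hom)] := by
  have key : ∀ (I : Type u) [SmallCategory I] [IsCofiltered I] (D : I ⥤ Over Y) (c : Cone D)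
      (_ : IsLimit ((Over.forget Y).mapCone c)) (_ : c.pt ≅ Over.mk f) (_ : ∀ i, IsAffine (D.obj i).left),
      (∀ i, HTop.IsVCover (PreZeroHypercover.singleton.{w} (D.obj i).hom)) →
        HTop.IsStandardV (PreZeroHypercover.singleton.{w} f) := by
    intro I _ _ D c hc e haff h
    have h1 := (isStandardV_singleton_iff D c hc).2 fun i => (isVCover_singleton_iff _).1 (h i)
    rw [isStandardV_singleton_iff_hasValLift]
    exact hasValLift_of_hom (Q := Over.mk f) e.hom h1.lift
  have key2 : HTop.IsStandardV (PreZeroHypercover.singleton.{w} f) →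
      ∃ (I : Type u) (_ : SmallCategory I) (_ : IsCofiltered I) (D : I ⥤ Over Y) (c : Cone D)
          (_ : IsLimit ((Over.forget Y).mapCone c)) (_ : c.pt ≅ Over.mk f),
          (∀ i, IsAffine (D.obj i).left) ∧ ∀ i, LocallyOfFinitePresentation (D.obj i).hom ∧
            HTop.IsVCover (PreZeroHypercover.singleton.{w} (D.obj i).hom) := by
    intro h
    obtain ⟨I, i1, i2, D, c, hc, e, haff, hfp⟩ := exists_limit f
    refine ⟨I, i1, i2, D, c, hc, e, haff, fun i => ⟨hfp i, ?_⟩⟩
    have haff' : ∀ i, IsAffine ((D ⋙ Over.forget Y).obj i) := haff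
    have : IsAffine c.pt.left := Scheme.isAffine_of_isLimit _ hc
    rw [isVCover_singleton_iff]
    refine (isStandardV_singleton_iff D c hc).1 ?_ i
    rw [isStandardV_singleton_iff_hasValLift]
    exact hasValLift_of_hom (P := Over.mk f) e.inv h.lift
  tfae_have 1 → 2 := by
    intro h
    obtain ⟨I, i1, i2, D, c, hc, e, haff, hfp⟩ := key2 h
    exact ⟨I, i1, i2, D, c, hc, e, haff, fun i => hph _ (hfp i).1 (hfp i).2⟩
  tfae_have 1 → 3 := by
    intro h
    obtain ⟨I, i1, i2, D, c, hc, e, haff, hfp⟩ := key2 h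
    exact ⟨I, i1, i2, D, c, hc, e, haff, fun i => ⟨fun _ => (hfp i).1, (hfp i).2⟩⟩
  tfae_have 2 → 1 := by
    rintro ⟨I, i1, i2, D, c, hc, e, haff, h⟩
    exact key I D c hc e haff fun i => isVCover_of_isPhCover _ (h i)
  tfae_have 3 → 1 := by
    rintro ⟨I, i1, i2, D, c, hc, e, haff, h⟩
    exact key I D c hc e haff fun i => (h i).2
  tfae_finish

end K344.VTfae
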