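import Groth.Agent.HTop.K344.SemiLoc
import Mathlib.AlgebraicGeometry.Properties

/-! # Seminormal and absolutely weakly normal schemes: affine opens -/

set_option autoImplicit false
universe u

open CategoryTheory AlgebraicGeometry

namespace K344.SemiScheme

open K344.SemiLoc

/-- A property of rings that passes to localizations `A_f` and is local is, for a scheme, the same on
some affine open cover or on all affine opens. -/
lemma forall_affineOpens_iff (P : ∀ (A : Type u) [CommRing A], Prop)
    (hequiv : ∀ (A B : Type u) [CommRing A] [CommRing B], (A ≃+* B) → P A → P B)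
    (haway : ∀ (A : Type u) [CommRing A] (f : A), P A → P (Localization.Away f))
    (hlocal : ∀ (A : Type u) [CommRing A] (s : Set A), Ideal.span s = ⊤ →
      (∀ f ∈ s, P (Localization.Away f)) → P A) (X : Scheme.{u}) :
    (∀ x : X, ∃ U : X.affineOpens, x ∈ (U : X.Opens) ∧ P Γ(X, U)) ↔
      ∀ U : X.affineOpens, P Γ(X, U) := by
  constructor
  · intro h V
    choose U hxU hU using h
    refine of_affine_open_cover (P := fun V => P Γ(X, V)) U ?_ V ?_ ?_ hU
    · rw [eq_top_iff]
      intro x _
      exact (TopologicalSpace.Opens.mem_iSup).2 ⟨x, hxU x⟩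
    · intro U f hU
      have := U.2.isLocalization_basicOpen f
      exact hequiv _ _ (IsLocalization.algEquiv (Submonoid.powers f)
        (Localization.Away f) Γ(X, X.basicOpen f)).toRingEquiv (haway _ f hU)
    · intro U s hs hU
      refine hlocal _ s hs fun f hf => ?_
      have := U.2.isLocalization_basicOpen f
      exact hequiv _ _ (IsLocalization.algEquiv (Submonoid.powers f)
        Γ(X, X.basicOpen f) (Localization.Away f)).toRingEquiv (hU ⟨f, hf⟩)
  · intro h x
    obtain ⟨U, hU, hxU, -⟩ := exists_isAffineOpen_mem_and_subset (x := x) (U := ⊤) trivial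
    exact ⟨⟨U, hU⟩, hxU, h _⟩

lemma isSeminormal_iff (X : Scheme.{u}) :
    HTop.IsSeminormal X ↔ ∀ U : X.affineOpens, HTop.IsSeminormalRing Γ(X, U) :=
  forall_affineOpens_iff (fun A _ => HTop.IsSeminormalRing A)
    (fun _ _ _ _ e h => isSeminormalRing_of_ringEquiv e h)
    (fun _ _ f h => isSeminormalRing_localization (Submonoid.powers f) h)
    (fun _ _ s hs h => isSeminormalRing_of_span s hs h) X

lemma isAWN_iff (X : Scheme.{u}) :
    HTop.IsAWN X ↔ ∀ U : X.affineOpens, HTop.IsAWNRing Γ(X, U) :=
  forall_affineOpens_iff (fun A _ => HTop.IsAWNRing A)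
    (fun _ _ _ _ e h => isAWNRing_of_ringEquiv e h)
    (fun _ _ f h => isAWNRing_localization (Submonoid.powers f) h)
    (fun _ _ s hs h => isAWNRing_of_span s hs h) X

lemma isReduced_of_isSeminormal (X : Scheme.{u}) (h : HTop.IsSeminormal X) :
    AlgebraicGeometry.IsReduced X := by
  have h1 := (isSeminormal_iff X).1 h
  have : ∀ x : X, _root_.IsReduced (X.presheaf.stalk x) := by
    intro x
    obtain ⟨U, hU, hxU, -⟩ := exists_isAffineOpen_mem_and_subset (x := x) (U := ⊤) trivial
    have h2 : _root_.IsReduced Γ(X, U) := isReduced_of_isSeminormalRing (h1 ⟨U, hU⟩)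
    let _ : Algebra Γ(X, U) (X.presheaf.stalk x) := (X.presheaf.germ U x hxU).hom.toAlgebra
    have h3 : IsLocalization.AtPrime (X.presheaf.stalk x) (hU.primeIdealOf ⟨x, hxU⟩).asIdeal :=
      hU.isLocalization_stalk ⟨x, hxU⟩
    exact isReduced_localization (hU.primeIdealOf ⟨x, hxU⟩).asIdeal.primeCompl
  exact isReduced_of_isReduced_stalk X

end K344.SemiScheme
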