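import Groth.Agent.HTop.K344.AwnComp
import Groth.Agent.HTop.K344.SemiScheme
import Mathlib.AlgebraicGeometry.Morphisms.IsIso
import Mathlib.AlgebraicGeometry.Morphisms.ClosedImmersion
import Mathlib.AlgebraicGeometry.Morphisms.Separated
import Mathlib.AlgebraicGeometry.Morphisms.SchemeTheoreticallyDominant

/-! # Universal homeomorphisms to absolutely weakly normal schemes -/

set_option autoImplicit false
universe u

open CategoryTheory CategoryTheory.Limits AlgebraicGeometry

namespace K344.AwnScheme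

open K344.UH K344.SemiLoc

/-- Morphisms from a reduced scheme to a separated, universally injective `X`-scheme are unique. -/
theorem hom_ext_of_isReduced {T Y X : Scheme.{u}} [AlgebraicGeometry.IsReduced T] (π : Y ⟶ X) [IsSeparated π]
    [UniversallyInjective π] (a b : T ⟶ Y) (h : a ≫ π = b ≫ π) : a = b := by
  let l : T ⟶ pullback π π := pullback.lift a b h
  have hd : Surjective (pullback.diagonal π) := (UniversallyInjective.iff_diagonal π).1 inferInstance
  have hc : IsClosedImmersion (pullback.diagonal π) := IsSeparated.isClosedImmersion_diagonal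
  have h1 : IsClosedImmersion (pullback.fst l (pullback.diagonal π)) := inferInstance
  have h2 : Surjective (pullback.fst l (pullback.diagonal π)) := inferInstance
  have h3 : IsIso (pullback.fst l (pullback.diagonal π)) := isIso_of_isClosedImmersion_of_surjective _
  rw [← cancel_epi (pullback.fst l (pullback.diagonal π))]
  have e1 : pullback.fst l (pullback.diagonal π) ≫ a = pullback.snd l (pullback.diagonal π) := by
    have : a = l ≫ pullback.fst π π := (pullback.lift_fst _ _ _).symm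
    rw [this, pullback.condition_assoc, pullback.diagonal_fst, Category.comp_id]
  have e2 : pullback.fst l (pullback.diagonal π) ≫ b = pullback.snd l (pullback.diagonal π) := by
    have : b = l ≫ pullback.snd π π := (pullback.lift_snd _ _ _).symm
    rw [this, pullback.condition_assoc, pullback.diagonal_snd, Category.comp_id]
  rw [e1, e2]

theorem hom_ext_of_isUnivHomeo {T Y X : Scheme.{u}} [AlgebraicGeometry.IsReduced T] (π : Y ⟶ X)
    (hπ : FlatMor.IsUnivHomeo π) (a b : T ⟶ Y) (h : a ≫ π = b ≫ π) : a = b := by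
  obtain ⟨h1, h2, -⟩ := (Groth.Agent.FlatA.UnivHomeo.isUnivHomeo_iff π).1 hπ
  exact hom_ext_of_isReduced π a b h

/-! ### Stability properties of universal homeomorphisms -/

instance : (FlatMor.IsUnivHomeo.{u}).IsStableUnderBaseChange :=
  MorphismProperty.universally_isStableUnderBaseChange _

instance : (FlatMor.IsUnivHomeo.{u}).RespectsIso :=
  MorphismProperty.IsStableUnderBaseChange.respectsIso

theorem isUnivHomeo_comp {X Y Z : Scheme.{u}} {f : X ⟶ Y} {g : Y ⟶ Z} (hf : FlatMor.IsUnivHomeo f)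
    (hg : FlatMor.IsUnivHomeo g) : FlatMor.IsUnivHomeo (f ≫ g) := by
  rw [Groth.Agent.FlatA.UnivHomeo.isUnivHomeo_iff] at *
  obtain ⟨h1, h2, h3⟩ := hf
  obtain ⟨k1, k2, k3⟩ := hg
  exact ⟨inferInstance, MorphismProperty.comp_mem (W := @UniversallyInjective) f g h2 k2, inferInstance⟩

theorem isUnivHomeo_of_isIso {X Y : Scheme.{u}} (f : X ⟶ Y) [IsIso f] : FlatMor.IsUnivHomeo f := by
  rw [Groth.Agent.FlatA.UnivHomeo.isUnivHomeo_iff] at *
  exact ⟨inferInstance, inferInstance, inferInstance⟩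

theorem isUH_appTop {P Q : Scheme.{u}} [IsAffine P] [IsAffine Q] (g : P ⟶ Q) (hg : FlatMor.IsUnivHomeo g) :
    IsUH g.appTop.hom := by
  rw [← isUnivHomeo_Spec_iff]
  exact ((FlatMor.IsUnivHomeo.{u}).arrow_mk_iso_iff (arrowIsoSpecΓOfIsAffine g)).1 hg

/-- Being absolutely weakly normal for an affine scheme. -/
lemma isAWNRing_top {Q : Scheme.{u}} [IsAffine Q] (hQ : HTop.IsAWN Q) : HTop.IsAWNRing Γ(Q, ⊤) :=
  (SemiScheme.isAWN_iff Q).1 hQ ⟨⊤, isAffineOpen_top Q⟩

/-- Being absolutely weakly normal is local (Zariski opens). -/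
lemma isAWN_of_isOpenImmersion {U X : Scheme.{u}} (f : U ⟶ X) [IsOpenImmersion f] (hX : HTop.IsAWN X) :
    HTop.IsAWN U := by
  rw [SemiScheme.isAWN_iff] at hX ⊢
  intro V
  have hV : IsAffineOpen (f ''ᵁ (V : U.Opens)) := V.2.image_of_isOpenImmersion f
  have h1 := hX ⟨f ''ᵁ (V : U.Opens), hV⟩
  exact isAWNRing_of_ringEquiv (f.appIso (V : U.Opens)).commRingCatIsoToRingEquiv h1

lemma isAWN_of_openCover {X : Scheme.{u}} (𝒰 : X.OpenCover) (h : ∀ i, HTop.IsAWN (𝒰.X i)) : HTop.IsAWN X := by
  intro x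
  obtain ⟨i, y, hy⟩ := 𝒰.exists_eq x
  obtain ⟨V, hyV, hV⟩ := h i y
  refine ⟨⟨𝒰.f i ''ᵁ (V : (𝒰.X i).Opens), V.2.image_of_isOpenImmersion _⟩, ?_, ?_⟩
  · exact ⟨y, hyV, hy⟩
  · exact isAWNRing_of_ringEquiv ((𝒰.f i).appIso (V : (𝒰.X i).Opens)).symm.commRingCatIsoToRingEquiv hV

/-- An absolutely weakly normal scheme is reduced. -/
lemma isReduced_of_isAWN {X : Scheme.{u}} (h : HTop.IsAWN X) : AlgebraicGeometry.IsReduced X := by
  apply SemiScheme.isReduced_of_isSeminormal
  intro x
  obtain ⟨U, hU, hU'⟩ := h x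
  exact ⟨U, hU, hU'.1⟩

/-- **T1**: a universal homeomorphism from a reduced scheme to an absolutely weakly normal scheme is an
isomorphism. -/
theorem isIso_of_isUnivHomeo_of_isAWN {Y X : Scheme.{u}} [AlgebraicGeometry.IsReduced Y] (π : Y ⟶ X)
    (hπ : FlatMor.IsUnivHomeo π) (hX : HTop.IsAWN X) : IsIso π := by
  have haff := Groth.Agent.FlatA.UnivHomeo.isAffineHom_of_isUnivHomeo hπ
  rw [← MorphismProperty.isomorphisms.iff,
    IsZariskiLocalAtTarget.iff_of_iSup_eq_top (P := MorphismProperty.isomorphisms Scheme.{u})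
      (fun U : X.affineOpens => (U : X.Opens)) (iSup_affineOpens_eq_top X)]
  intro U
  have hres : FlatMor.IsUnivHomeo (π ∣_ (U : X.Opens)) :=
    Groth.Agent.FlatA.UnivHomeo.isUnivHomeo_of_isPullback (isPullback_morphismRestrict π U).flip hπ
  have : IsAffine (U : X.Opens) := U.2
  have hP : IsAffine (π ⁻¹ᵁ (U : X.Opens) : Scheme.{u}) := U.2.preimage π
  have h1 : IsIso (π ∣_ (U : X.Opens)).appTop := by
    rw [ConcreteCategory.isIso_iff_bijective]
    have : IsReduced Γ(π ⁻¹ᵁ (U : X.Opens), ⊤) := inferInstance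
    exact K344.AwnBij.bijective_of_isUH (π ∣_ (U : X.Opens)).appTop.hom
      (isAWNRing_top (isAWN_of_isOpenImmersion (U : X.Opens).ι hX)) (isUH_appTop _ hres)
  rw [(MorphismProperty.isomorphisms Scheme.{u}).arrow_mk_iso_iff (arrowIsoSpecΓOfIsAffine (π ∣_ (U : X.Opens))),
    MorphismProperty.isomorphisms.iff]
  infer_instance

end K344.AwnScheme
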