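import Groth.Agent.HTop.K344.AwnFunctor
import Groth.Agent.HTop.K344.AwnSchemeA
import Mathlib.AlgebraicGeometry.Sites.SmallAffineZariski
import Mathlib.AlgebraicGeometry.IdealSheaf.Subscheme

/-! # The absolute weak normalization of a scheme -/

set_option autoImplicit false
universe u

open CategoryTheory CategoryTheory.Limits AlgebraicGeometry Opposite

namespace K344.AwnScheme

open K344.UH K344.SemiLoc K344.AwnRing K344.AwnMain K344.AwnBij K344.AwnComp K344.AwnFunctor
open Scheme.AffineZariskiSite

section Reduction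

/-- The reduction of a scheme is reduced. -/
theorem isReduced_subscheme_nilradical (X : Scheme.{u}) : AlgebraicGeometry.IsReduced X.nilradical.subscheme := by
  have : ∀ i, AlgebraicGeometry.IsReduced (X.nilradical.subschemeCover.openCover.X i) := by
    intro U
    have h1 : _root_.IsReduced (Γ(X, U.1) ⧸ X.nilradical.ideal U) := by
      rw [← Ideal.isRadical_iff_quotient_reduced]
      exact Ideal.radical_isRadical _
    exact inferInstanceAs (AlgebraicGeometry.IsReduced (Spec (CommRingCat.of (Γ(X, U.1) ⧸ X.nilradical.ideal U))))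
  exact AlgebraicGeometry.IsReduced.of_openCover _ X.nilradical.subschemeCover.openCover

/-- The inclusion of the reduction is a universal homeomorphism. -/
theorem isUnivHomeo_subschemeι_nilradical (X : Scheme.{u}) : FlatMor.IsUnivHomeo X.nilradical.subschemeι := by
  rw [Groth.Agent.FlatA.UnivHomeo.isUnivHomeo_iff]
  refine ⟨inferInstance, inferInstance, ⟨?_⟩⟩
  rw [← Set.range_eq_univ, Scheme.IdealSheafData.range_subschemeι, Scheme.support_nilradical]
  rfl

end Reduction

/-- **T2**: an absolutely weakly normal scheme with a universal homeomorphism to `X` is an absolute weak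
normalization of `X`. -/
theorem isAWNormalization_of_isAWN {X' X : Scheme.{u}} (ν : X' ⟶ X) (hν : FlatMor.IsUnivHomeo ν)
    (hX' : HTop.IsAWN X') : HTop.IsAWNormalization ν := by
  have hred : AlgebraicGeometry.IsReduced X' := isReduced_of_isAWN hX'
  refine ⟨hν, fun Y π hπ => ?_⟩
  let P := pullback ν π
  have h1 : FlatMor.IsUnivHomeo (pullback.fst ν π) :=
    Groth.Agent.FlatA.UnivHomeo.isUnivHomeo_of_isPullback (IsPullback.of_hasPullback ν π).flip hπ
  have h2 : FlatMor.IsUnivHomeo (P.nilradical.subschemeι ≫ pullback.fst ν π) :=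
    isUnivHomeo_comp (isUnivHomeo_subschemeι_nilradical P) h1
  have h3 : AlgebraicGeometry.IsReduced P.nilradical.subscheme := isReduced_subscheme_nilradical P
  have h4 : IsIso (P.nilradical.subschemeι ≫ pullback.fst ν π) := isIso_of_isUnivHomeo_of_isAWN _ h2 hX'
  have h5 : (inv (P.nilradical.subschemeι ≫ pullback.fst ν π) ≫ P.nilradical.subschemeι ≫ pullback.snd ν π) ≫ π =
      ν := by
    rw [Category.assoc, Category.assoc, ← pullback.condition, IsIso.inv_comp_eq, Category.assoc]
  refine ⟨_, h5, ?_⟩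
  intro h hh
  exact hom_ext_of_isUnivHomeo π hπ _ _ (hh.trans h5.symm)

section Glue

variable (X : Scheme.{u})

/-- The presheaf of absolute weak normalizations on affine opens. -/
noncomputable def awnPresheaf : X.AffineZariskiSiteᵒᵖ ⥤ CommRingCat.{u} where
  obj U := CommRingCat.of (awn Γ(X, U.unop.1))
  map {U V} i := CommRingCat.ofHom (awnMap (X.presheaf.map ((toOpensFunctor X).op.map i)).hom)
  map_id U := by
    rw [CategoryTheory.Functor.map_id, CategoryTheory.Functor.map_id]
    exact congrArg CommRingCat.ofHom awnMap_id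
  map_comp i j := by
    rw [CategoryTheory.Functor.map_comp, CategoryTheory.Functor.map_comp, ← CommRingCat.ofHom_comp]
    exact congrArg CommRingCat.ofHom (awnMap_comp _ _)

/-- The structure map. -/
noncomputable def awnPresheafMap : (toOpensFunctor X).op ⋙ X.presheaf ⟶ awnPresheaf X where
  app U := CommRingCat.ofHom (algebraMap Γ(X, U.unop.1) (awn Γ(X, U.unop.1)))
  naturality {U V} i := by
    apply CommRingCat.hom_ext
    exact (awnMap_comp_algebraMap (X.presheaf.map ((toOpensFunctor X).op.map i)).hom).symm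

lemma coequifibered_awnPresheafMap : (awnPresheafMap X).Coequifibered := by
  rw [coequifibered_iff_forall_isLocalizationAway]
  intro U f
  exact isLocalization_away_awnMap (X.presheaf.map (homOfLE (X.basicOpen_le f)).op).hom f
    (U.2.isLocalization_basicOpen f)

/-- The gluing data of the absolute weak normalization. -/
noncomputable abbrev glueData := relativeGluingData (coequifibered_awnPresheafMap X)

/-- The absolute weak normalization of a scheme. -/
noncomputable abbrev awnScheme : Scheme.{u} := (glueData X).glued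

/-- The structure morphism of the absolute weak normalization. -/
noncomputable abbrev awnSchemeMap : awnScheme X ⟶ X := (glueData X).toBase

lemma isAWN_Spec {R : Type u} [CommRing R] (h : HTop.IsAWNRing R) : HTop.IsAWN (Spec (CommRingCat.of R)) := by
  intro x
  refine ⟨⟨⊤, isAffineOpen_top _⟩, trivial, ?_⟩
  exact isAWNRing_of_ringEquiv (Scheme.ΓSpecIso (CommRingCat.of R)).symm.commRingCatIsoToRingEquiv h

lemma isAWN_awnScheme : HTop.IsAWN (awnScheme X) := by
  apply isAWN_of_openCover (glueData X).cover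
  intro U
  exact isAWN_Spec (isAWNRing_awn (A := Γ(X, U.1)))

lemma isUnivHomeo_iso_inv {Y Z : Scheme.{u}} (e : Y ≅ Z) : FlatMor.IsUnivHomeo e.inv :=
  isUnivHomeo_of_isIso e.inv

lemma isUnivHomeo_natTrans (U : X.AffineZariskiSite) : FlatMor.IsUnivHomeo ((glueData X).natTrans.app U) := by
  have h1 : (glueData X).natTrans.app U = Spec.map (CommRingCat.ofHom (algebraMap Γ(X, U.1) (awn Γ(X, U.1)))) ≫
      U.2.isoSpec.inv := rfl
  rw [h1]
  exact isUnivHomeo_comp ((isUnivHomeo_Spec_iff _).2 (isUH_awn _)) (isUnivHomeo_iso_inv _)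

lemma isUnivHomeo_snd {Z S T : Scheme.{u}} {f : Z ⟶ S} {g : T ⟶ S} {P : Scheme.{u}} {a : P ⟶ Z} {b : P ⟶ T}
    (h : IsPullback a b f g) (hb : FlatMor.IsUnivHomeo b) : FlatMor.IsUnivHomeo (pullback.snd f g) := by
  rw [← h.isoPullback_inv_snd]
  exact isUnivHomeo_comp (isUnivHomeo_iso_inv _) hb

set_option backward.isDefEq.respectTransparency false in
lemma isUnivHomeo_awnSchemeMap : FlatMor.IsUnivHomeo (awnSchemeMap X) := by
  have key : ∀ U : (directedCover X).I₀, FlatMor.IsUnivHomeo
      (pullback.snd (awnSchemeMap X) ((directedCover X).f U)) := by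
    intro U
    have h1 := (glueData X).isPullback_natTrans_ι_toBase U
    exact isUnivHomeo_snd h1.flip (isUnivHomeo_natTrans X U)
  have key' := fun U => (Groth.Agent.FlatA.UnivHomeo.isUnivHomeo_iff _).1 (key U)
  rw [Groth.Agent.FlatA.UnivHomeo.isUnivHomeo_iff]
  refine ⟨?_, ?_, ?_⟩
  · exact (IsZariskiLocalAtTarget.iff_of_openCover (P := @IsIntegralHom) (directedCover X)).2
      fun U => (key' U).1
  · exact (IsZariskiLocalAtTarget.iff_of_openCover (P := @UniversallyInjective) (directedCover X)).2
      fun U => (key' U).2.1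
  · exact (IsZariskiLocalAtTarget.iff_of_openCover (P := @Surjective) (directedCover X)).2
      fun U => (key' U).2.2

/-- **T3**: every scheme has an absolute weak normalization. -/
theorem exists_isAWNormalization : HTop.IsAWNormalization (awnSchemeMap X) :=
  isAWNormalization_of_isAWN _ (isUnivHomeo_awnSchemeMap X) (isAWN_awnScheme X)

end Glue

/-- **T4**: an absolute weak normalization is absolutely weakly normal. -/
theorem isAWN_of_isAWNormalization {X' X : Scheme.{u}} (ν : X' ⟶ X) (hν : HTop.IsAWNormalization ν) :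
    HTop.IsAWN X' := by
  have h0 := exists_isAWNormalization X
  obtain ⟨a, ha, -⟩ := hν.2 _ _ h0.1
  obtain ⟨b, hb, -⟩ := h0.2 _ _ hν.1
  have h1 : a ≫ b = 𝟙 _ := by
    obtain ⟨c, -, hc⟩ := hν.2 _ _ hν.1
    rw [hc (a ≫ b) (by show (a ≫ b) ≫ ν = ν; rw [Category.assoc, hb, ha]), hc (𝟙 _) (Category.id_comp _)]
  have h2 : b ≫ a = 𝟙 _ := by
    obtain ⟨c, -, hc⟩ := h0.2 _ _ h0.1
    rw [hc (b ≫ a) (by show (b ≫ a) ≫ awnSchemeMap X = _; rw [Category.assoc, ha, hb]),
      hc (𝟙 _) (Category.id_comp _)]
  have : IsIso a := ⟨b, h1, h2⟩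
  exact isAWN_of_isOpenImmersion a (isAWN_awnScheme X)

theorem isAWNormalization_iff {X' X : Scheme.{u}} (ν : X' ⟶ X) :
    HTop.IsAWNormalization ν ↔ FlatMor.IsUnivHomeo ν ∧ HTop.IsAWN X' :=
  ⟨fun h => ⟨h.1, isAWN_of_isAWNormalization ν h⟩, fun h => isAWNormalization_of_isAWN ν h.1 h.2⟩

theorem comparison_isIso_iff {X X' Y : Scheme.{u}} (ν : X' ⟶ X)
    (hν : HTop.IsAWNormalization ν) (π : Y ⟶ X) (hπ : FlatMor.IsUnivHomeo π) (h : X' ⟶ Y) (hh : h ≫ π = ν) :
    IsIso h ↔ HTop.IsAWN Y := by
  have hX' := isAWN_of_isAWNormalization ν hν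
  constructor
  · intro hi
    exact isAWN_of_isOpenImmersion (inv h) hX'
  · intro hY
    have : AlgebraicGeometry.IsReduced X' := isReduced_of_isAWN hX'
    refine isIso_of_isUnivHomeo_of_isAWN h ?_ hY
    refine Groth.Agent.FlatA.UnivHomeo.isUnivHomeo_of_postcomp h π ?_ hπ
    rw [hh]
    exact hν.1

end K344.AwnScheme
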