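import Groth.Agent.HTop.K344.AwnMain

/-! # A reduced universal homeomorphism over an absolutely weakly normal ring is an isomorphism -/

set_option autoImplicit false
universe u

open CategoryTheory AlgebraicGeometry

namespace K344.AwnBij

open K344.UH K344.SemiLoc

section

variable {B W : Type u} [CommRing B] [CommRing W]

lemma IsUH.injective_comap {f : B →+* W} (h : IsUH f) : Function.Injective (PrimeSpectrum.comap f) := by
  have h1 := Groth.Agent.FlatA.UnivHomeo.isHomeomorph_of_isUnivHomeo ((isUnivHomeo_Spec_iff f).2 h)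
  exact h1.injective

lemma mem_range_of_pow_two_three [IsReduced W] (f : B →+* W) (hf : Function.Injective f)
    (hB : HTop.IsSeminormalRing B) (w : W) (h2 : w ^ 2 ∈ f.range) (h3 : w ^ 3 ∈ f.range) : w ∈ f.range := by
  obtain ⟨x, hx⟩ := h2
  obtain ⟨y, hy⟩ := h3
  obtain ⟨a, ⟨ha1, ha2⟩, -⟩ := hB x y (hf (by rw [map_pow, map_pow, hx, hy]; ring))
  refine ⟨a, eq_of_sq_eq_of_cube_eq ?_ ?_⟩
  · rw [← map_pow, ← ha1, hx]
  · rw [← map_pow, ← ha2, hy]

lemma mem_range_of_pow_prime [IsReduced W] (f : B →+* W) (hf : Function.Injective f)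
    (hB : HTop.IsAWNRing B) {p : ℕ} (hp : p.Prime) (w : W) (h2 : w ^ p ∈ f.range)
    (h3 : (p : W) * w ∈ f.range) : w ∈ f.range := by
  obtain ⟨x, hx⟩ := h2
  obtain ⟨y, hy⟩ := h3
  obtain ⟨a, ⟨ha1, ha2⟩, -⟩ := hB.2 p hp x y (hf (by
    rw [map_pow, map_mul, map_pow, map_natCast, hx, hy, mul_pow]))
  refine ⟨a, eq_of_pow_eq hp ?_ ?_⟩
  · rw [← map_pow, ← ha1, hx]
  · rw [← map_natCast f, ← map_mul, ← ha2, hy, map_natCast]

/-- The conductor of a ring map. -/
def conductor (f : B →+* W) : Ideal B where
  carrier := {b | ∀ w : W, f b * w ∈ f.range}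
  add_mem' := by
    intro a b ha hb w
    rw [map_add, add_mul]
    exact f.range.add_mem (ha w) (hb w)
  zero_mem' := by
    intro w
    rw [map_zero, zero_mul]
    exact f.range.zero_mem
  smul_mem' := by
    intro c b hb w
    rw [smul_eq_mul, map_mul, mul_assoc]
    exact f.range.mul_mem ⟨c, rfl⟩ (hb w)

lemma mem_conductor {f : B →+* W} {b : B} : b ∈ conductor f ↔ ∀ w : W, f b * w ∈ f.range := Iff.rfl

lemma isRadical_conductor [IsReduced W] (f : B →+* W) (hf : Function.Injective f)
    (hB : HTop.IsSeminormalRing B) : (conductor f).IsRadical := by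
  rw [Ideal.isRadical_iff_pow_one_lt 2 (by norm_num)]
  intro b hb w
  apply mem_range_of_pow_two_three f hf hB
  · rw [mul_pow, ← map_pow]
    exact hb _
  · have h1 := f.range.mul_mem ⟨b, rfl⟩ (hb (w ^ 3))
    have h2 : (f b * w) ^ 3 = f b * (f (b ^ 2) * w ^ 3) := by
      rw [map_pow]; ring
    rw [h2]
    exact h1

/-- The local case: the maximal ideal times `W` is contained in `B`. -/
lemma surjective_of_isLocalRing [IsLocalRing B] [IsReduced W] (f : B →+* W) (hf : Function.Injective f)
    (hB : HTop.IsAWNRing B) (h : IsUH f) (hm : IsLocalRing.maximalIdeal B ≤ conductor f) :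
    Function.Surjective f := by
  classical
  set m := IsLocalRing.maximalIdeal B with hmdef
  have hmmax : m.IsMaximal := IsLocalRing.maximalIdeal.isMaximal B
  set J : Ideal W := m.map f with hJ
  have hJr' : ∀ w ∈ J, ∀ v : W, w * v ∈ f.range := by
    intro w hw
    refine Submodule.span_induction (p := fun w _ => ∀ v : W, w * v ∈ f.range) ?_ ?_ ?_ ?_ hw
    · rintro x ⟨b, hb, rfl⟩ v
      exact hm hb v
    · intro v
      rw [zero_mul]
      exact f.range.zero_mem
    · intro x y _ _ hx hy v
      rw [add_mul]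
      exact f.range.add_mem (hx v) (hy v)
    · intro a x _ hx v
      rw [smul_eq_mul, mul_comm a x, mul_assoc]
      exact hx _
  have hJr : ∀ w ∈ J, w ∈ f.range := by
    intro w hw
    simpa using hJr' w hw 1
  obtain ⟨n, hn⟩ := h.surjective_comap ⟨m, hmmax.isPrime⟩
  have hn' : n.asIdeal.comap f = m := congrArg PrimeSpectrum.asIdeal hn
  have hJn : J ≤ n.asIdeal := Ideal.map_le_iff_le_comap.2 hn'.ge
  have hJrad : J.IsRadical := by
    rw [Ideal.isRadical_iff_pow_one_lt 2 (by norm_num)]
    intro w hw
    obtain ⟨b, rfl⟩ := mem_range_of_pow_two_three f hf hB.1 w (hJr _ hw) (by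
      rw [pow_succ]; exact hJr' _ hw w)
    have h1 : f b ∈ n.asIdeal := n.2.mem_of_pow_mem 2 (hJn hw)
    have h2 : b ∈ m := by rw [← hn']; exact h1
    exact Ideal.mem_map_of_mem f h2
  have hnJ : n.asIdeal ≤ J := by
    rw [← hJrad.radical, Ideal.radical_eq_sInf]
    refine le_sInf ?_
    rintro Q ⟨hQ, hQp⟩
    have h1 : m ≤ Q.comap f := Ideal.map_le_iff_le_comap.1 hQ
    have h2 : m = Q.comap f := hmmax.eq_of_le (Ideal.comap_ne_top _ hQp.ne_top) h1
    have h3 : PrimeSpectrum.comap f ⟨Q, hQp⟩ = PrimeSpectrum.comap f n := by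
      rw [hn]
      exact PrimeSpectrum.ext h2.symm
    rw [← IsUH.injective_comap h h3]
  have hnr : ∀ w ∈ n.asIdeal, w ∈ f.range := fun w hw => hJr w (hnJ hw)
  -- residue fields
  let _ : Field (B ⧸ m) := Ideal.Quotient.field m
  have hnmax : n.asIdeal.IsMaximal := by
    let _ : Algebra B W := f.toAlgebra
    have : Algebra.IsIntegral B W := ⟨h.isIntegral⟩
    refine Ideal.isMaximal_of_isIntegral_of_isMaximal_comap (R := B) n.asIdeal ?_
    show (n.asIdeal.comap f).IsMaximal
    rw [hn']
    exact hmmax
  let _ : Field (W ⧸ n.asIdeal) := Ideal.Quotient.field n.asIdeal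
  let F : B ⧸ m →+* W ⧸ n.asIdeal := Ideal.quotientMap n.asIdeal f hn'.ge
  let _ : Algebra (B ⧸ m) (W ⧸ n.asIdeal) := F.toAlgebra
  have hF : ∀ b : B, F (Ideal.Quotient.mk m b) = Ideal.Quotient.mk n.asIdeal (f b) := fun b =>
    Ideal.quotientMap_mk
  have hpi : IsPurelyInseparable (B ⧸ m) (W ⧸ n.asIdeal) := by
    have : Nonempty ((W ⧸ n.asIdeal) →+* AlgebraicClosure (W ⧸ n.asIdeal)) := ⟨algebraMap _ _⟩
    apply IsPurelyInseparable.of_injective_comp_algebraMap (F := B ⧸ m) (E := W ⧸ n.asIdeal)
      (AlgebraicClosure (W ⧸ n.asIdeal))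
    intro g₁ g₂ h12
    apply Ideal.Quotient.ringHom_ext
    apply h.eq_of_comp_eq
    ext b
    have h3 := congrArg (fun g => g (Ideal.Quotient.mk m b)) h12
    exact h3
  obtain ⟨q, hq⟩ := ExpChar.exists (B ⧸ m)
  have key : ∀ w : W, ∃ k : ℕ, w ^ q ^ k ∈ f.range := by
    intro w
    obtain ⟨k, x, hx⟩ := IsPurelyInseparable.pow_mem (B ⧸ m) q (Ideal.Quotient.mk n.asIdeal w)
    obtain ⟨b, rfl⟩ := Ideal.Quotient.mk_surjective x
    refine ⟨k, ?_⟩
    have h1 : Ideal.Quotient.mk n.asIdeal (f b) = Ideal.Quotient.mk n.asIdeal (w ^ q ^ k) := by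
      rw [map_pow, ← hx]
      exact (hF b).symm
    rw [Ideal.Quotient.eq] at h1
    have h2 : w ^ q ^ k = f b - (f b - w ^ q ^ k) := by ring
    rw [h2]
    exact f.range.sub_mem ⟨b, rfl⟩ (hnr _ h1)
  intro w
  obtain ⟨k, hk⟩ := key w
  rcases hq with _ | ⟨hqp⟩
  · rw [one_pow, pow_one] at hk
    exact hk
  · have hqm : ((q : ℕ) : B) ∈ m := by
      rw [← Ideal.Quotient.eq_zero_iff_mem, map_natCast]
      exact CharP.cast_eq_zero _ _
    induction k with
    | zero => simpa using hk
    | succ k ih =>
      apply ih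
      apply mem_range_of_pow_prime f hf hB hqp
      · rw [← pow_mul, ← pow_succ]
        exact hk
      · have := hm hqm (w ^ q ^ k)
        rwa [map_natCast] at this

/-- Localization of a universal homeomorphism. -/
lemma isUH_localization (f : B →+* W) (h : IsUH f) (hf : Function.Injective f) (M : Submonoid B) :
    IsUH (IsLocalization.map (Localization (M.map f)) f M.le_comap_map :
      Localization M →+* Localization (M.map f)) := by
  have hinj : Function.Injective (IsLocalization.map (Localization (M.map f)) f M.le_comap_map :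
      Localization M →+* Localization (M.map f)) :=
    IsLocalization.map_injective_of_injective M _ _ hf
  refine ⟨isIntegral_localization' h.isIntegral M, ?_, ?_⟩
  · intro x hx
    have : x = 0 := hinj (by rw [RingHom.mem_ker.1 hx, map_zero])
    rw [this]
    exact Ideal.zero_mem _
  · intro K _ g₁ g₂ h12
    apply IsLocalization.ringHom_ext (M.map f)
    apply h.eq_of_comp_eq
    ext b
    have h3 := congrArg (fun g => g (algebraMap B (Localization M) b)) h12
    dsimp only [RingHom.comp_apply] at h3
    rw [IsLocalization.map_eq] at h3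
    exact h3

/-- The finite case. -/
lemma surjective_of_finite [IsReduced W] (f : B →+* W) (hf : Function.Injective f)
    (hfin : f.Finite) (hB : HTop.IsAWNRing B) (h : IsUH f) : Function.Surjective f := by
  classical
  by_contra hns
  have htop : conductor f ≠ ⊤ := by
    intro h1
    apply hns
    intro w
    have h2 : (1 : B) ∈ conductor f := by rw [h1]; trivial
    have h3 := h2 w
    rw [map_one, one_mul] at h3
    exact h3
  obtain ⟨p, hp⟩ := Ideal.nonempty_minimalPrimes htop
  have hpp : p.IsPrime := hp.1.1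
  have hIp : conductor f ≤ p := hp.1.2
  set S := p.primeCompl with hS
  set fp : Localization S →+* Localization (S.map f) :=
    IsLocalization.map (Localization (S.map f)) f
      S.le_comap_map with hfp
  have hfpb : ∀ b : B, fp (algebraMap B (Localization S) b) = algebraMap W _ (f b) := fun b =>
    IsLocalization.map_eq _ _
  have hfpUH : IsUH fp := isUH_localization f h hf S
  have hfpinj : Function.Injective fp := IsLocalization.map_injective_of_injective S _ _ hf
  have hBp : HTop.IsAWNRing (Localization S) := isAWNRing_localization S hB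
  have : IsReduced (Localization (S.map f)) :=
    isReduced_localization (S.map f)
  have : IsLocalRing (Localization S) := inferInstanceAs (IsLocalRing (Localization.AtPrime p))
  -- the conductor of `f` maps to the conductor of `fp`
  have hcond : ∀ b ∈ conductor f, algebraMap B (Localization S) b ∈ conductor fp := by
    intro b hb w
    obtain ⟨⟨v, ⟨_, s, hs, rfl⟩⟩, hv⟩ := IsLocalization.surj (S.map f) w
    obtain ⟨c, hc⟩ := hb v
    refine ⟨IsLocalization.mk' (Localization S) c ⟨s, hs⟩, ?_⟩
    have hu : IsUnit (algebraMap W (Localization (S.map f)) (f s)) :=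
      IsLocalization.map_units _ (⟨f s, s, hs, rfl⟩ : S.map f)
    apply hu.mul_left_injective
    dsimp only
    have hv' : w * algebraMap W (Localization (S.map f)) (f s) = algebraMap W _ v := hv
    have e1 : IsLocalization.mk' (Localization S) c ⟨s, hs⟩ * algebraMap B (Localization S) s =
        algebraMap B (Localization S) c := IsLocalization.mk'_spec (Localization S) c ⟨s, hs⟩
    rw [← hfpb, ← map_mul, e1, hfpb, hc, hfpb, map_mul, mul_assoc, hfpb, hv']
  have hrad : (conductor fp).IsRadical := isRadical_conductor fp hfpinj hBp.1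
  have hmle : IsLocalRing.maximalIdeal (Localization S) ≤ conductor fp := by
    have h1 : IsLocalRing.maximalIdeal (Localization S) = p.map (algebraMap B (Localization S)) :=
      (Localization.AtPrime.map_eq_maximalIdeal (I := p)).symm
    rw [h1, Ideal.map_le_iff_le_comap]
    intro x hx
    rw [Ideal.mem_comap]
    -- some `t x^n` with `t ∉ p` is in the conductor
    have h2 : ¬ Disjoint (conductor f : Set B) ((S ⊔ Submonoid.powers x : Submonoid B) : Set B) := by
      intro hd
      obtain ⟨q, hq, hIq, hqS⟩ := Ideal.exists_le_prime_disjoint _ _ hd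
      have hqp : q ≤ p := by
        intro y hy
        by_contra hyp
        exact Set.disjoint_left.1 hqS hy ((le_sup_left : S ≤ S ⊔ Submonoid.powers x) hyp)
      have hpq : p ≤ q := hp.2 ⟨hq, hIq⟩ hqp
      exact Set.disjoint_left.1 hqS (hpq hx)
        ((le_sup_right : Submonoid.powers x ≤ S ⊔ Submonoid.powers x) (Submonoid.mem_powers x))
    rw [Set.not_disjoint_iff] at h2
    obtain ⟨z, hz, hz'⟩ := h2
    obtain ⟨t, ht, y, ⟨n, rfl⟩, rfl⟩ := Submonoid.mem_sup.1 hz'
    have h3 := hcond _ hz
    rw [map_mul] at h3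
    have hu : IsUnit (algebraMap B (Localization S) t) := IsLocalization.map_units _ (⟨t, ht⟩ : S)
    have h4 : algebraMap B (Localization S) (x ^ n) ∈ conductor fp :=
      (Ideal.unit_mul_mem_iff_mem _ hu).1 h3
    rw [map_pow] at h4
    exact hrad ⟨n, h4⟩
  have hsurj := surjective_of_isLocalRing fp hfpinj hBp hfpUH hmle
  -- each `w` has a multiple `f s * w` in the range, `s ∉ p`
  have h5 : ∀ w : W, ∃ s ∉ p, f s * w ∈ f.range := by
    intro w
    obtain ⟨z, hz⟩ := hsurj (algebraMap W _ w)
    obtain ⟨⟨b, s⟩, hb⟩ := IsLocalization.surj S z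
    have h6 : algebraMap W (Localization (S.map f)) (f s * w) = algebraMap W _ (f b) := by
      rw [map_mul, ← hfpb, ← hz, ← map_mul, mul_comm, hb, hfpb]
    obtain ⟨⟨_, t, ht, rfl⟩, hc⟩ := (IsLocalization.eq_iff_exists (S.map f) _).1 h6
    refine ⟨t * s, fun h7 => (hpp.mem_or_mem h7).elim ht s.2, ⟨t * b, ?_⟩⟩
    rw [map_mul, map_mul, mul_assoc]
    exact hc.symm
  -- a common `s`
  let _ : Algebra B W := f.toAlgebra
  have hfinM : Module.Finite B W := hfin
  obtain ⟨T, hT⟩ := hfinM.fg_top
  have h6 : ∀ T : Finset W, ∃ s ∉ p, ∀ w ∈ T, f s * w ∈ f.range := by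
    intro T
    induction T using Finset.induction_on with
    | empty => exact ⟨1, fun h => hpp.ne_top ((Ideal.eq_top_iff_one _).2 h), by simp⟩
    | insert w T _ ih =>
      obtain ⟨s, hs, hsT⟩ := ih
      obtain ⟨t, ht, htw⟩ := h5 w
      refine ⟨s * t, fun h7 => (hpp.mem_or_mem h7).elim hs ht, ?_⟩
      intro v hv
      rcases Finset.mem_insert.1 hv with rfl | hv
      · rw [map_mul, mul_assoc]
        exact f.range.mul_mem ⟨s, rfl⟩ htw
      · rw [map_mul, mul_comm (f s), mul_assoc]
        exact f.range.mul_mem ⟨t, rfl⟩ (hsT v hv)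
  obtain ⟨s, hs, hsT⟩ := h6 T
  apply hs
  apply hIp
  intro w
  have hw : w ∈ Submodule.span B (T : Set W) := by rw [hT]; trivial
  refine Submodule.span_induction (p := fun w _ => f s * w ∈ f.range) ?_ ?_ ?_ ?_ hw
  · exact fun x hx => hsT x hx
  · rw [mul_zero]; exact f.range.zero_mem
  · intro x y _ _ hx hy
    rw [mul_add]
    exact f.range.add_mem hx hy
  · intro a x _ hx
    have h8 : f s * (a • x) = f a * (f s * x) := by
      rw [Algebra.smul_def]
      show f s * (f a * x) = _
      ring
    rw [h8]
    exact f.range.mul_mem ⟨a, rfl⟩ hx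

/-- A subalgebra of a universal homeomorphism is a universal homeomorphism. -/
lemma isUH_subalgebra [Algebra B W] (h : IsUH (algebraMap B W)) (S : Subalgebra B W) :
    IsUH (algebraMap B S) := by
  have hint : Algebra.IsIntegral B W := ⟨h.isIntegral⟩
  refine ⟨?_, ?_, ?_⟩
  · intro x
    have h2 : IsIntegral B (x : W) := h.isIntegral x
    exact (isIntegral_algHom_iff S.val Subtype.val_injective).1 h2
  · intro b hb
    apply h.ker_le
    rw [RingHom.mem_ker] at hb ⊢
    exact congrArg S.val hb
  · intro K _ g₁ g₂ h12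
    have hint' : S.val.toRingHom.IsIntegral := by
      intro x
      have h2 : IsIntegral B x := h.isIntegral x
      have h3 : IsIntegral S x := h2.tower_top
      exact h3
    have hinj : Function.Injective S.val.toRingHom := Subtype.val_injective
    have hs : Function.Surjective (PrimeSpectrum.comap S.val.toRingHom) :=
      surjective_comap_of _ hint' (by
        intro x hx
        have : x = 0 := hinj (by rw [RingHom.mem_ker.1 hx, map_zero])
        rw [this]; exact Ideal.zero_mem _)
    have hext : ∀ g : S →+* K, ∃ G : W →+* AlgebraicClosure K, G.comp S.val.toRingHom =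
        (algebraMap K (AlgebraicClosure K)).comp g := by
      intro g
      have hp : (RingHom.ker ((algebraMap K (AlgebraicClosure K)).comp g)).IsPrime := RingHom.ker_isPrime _
      obtain ⟨q, hq⟩ := hs ⟨_, hp⟩
      obtain ⟨G, hG, -⟩ := exists_hom S.val.toRingHom hint' _ q (congrArg PrimeSpectrum.asIdeal hq)
      exact ⟨G, hG⟩
    obtain ⟨G₁, hG₁⟩ := hext g₁
    obtain ⟨G₂, hG₂⟩ := hext g₂
    have h3 : G₁ = G₂ := by
      apply h.eq_of_comp_eq
      ext b
      have e1 := congrArg (fun g => g (algebraMap B S b)) hG₁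
      have e2 := congrArg (fun g => g (algebraMap B S b)) hG₂
      have e3 := congrArg (fun g => algebraMap K (AlgebraicClosure K) (g b)) h12
      exact (e1.trans e3).trans e2.symm
    ext x
    apply (algebraMap K (AlgebraicClosure K)).injective
    have e1 := congrArg (fun g => g x) hG₁
    have e2 := congrArg (fun g => g x) hG₂
    rw [h3] at e1
    exact e1.symm.trans e2

/-- **Main theorem**: a universal homeomorphism from an absolutely weakly normal ring to a reduced ring
is an isomorphism. -/
theorem bijective_of_isUH [IsReduced W] (f : B →+* W) (hB : HTop.IsAWNRing B) (h : IsUH f) :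
    Function.Bijective f := by
  have hBred := isReduced_of_isSeminormalRing hB.1
  have hf : Function.Injective f := by
    rw [injective_iff_map_eq_zero]
    intro b hb
    have := h.ker_le (RingHom.mem_ker.2 hb)
    rw [nilradical_eq_zero] at this
    exact this
  refine ⟨hf, ?_⟩
  intro w
  let _ : Algebra B W := f.toAlgebra
  have hw : IsIntegral B w := h.isIntegral w
  let S := Algebra.adjoin B {w}
  have hfin : (algebraMap B S).Finite := by
    have := Algebra.finite_adjoin_simple_of_isIntegral hw
    exact RingHom.finite_algebraMap.2 this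
  have hinj : Function.Injective (algebraMap B S) := by
    intro a b hab
    exact hf (congrArg S.val hab)
  have : IsReduced S := isReduced_of_injective S.val.toRingHom Subtype.val_injective
  obtain ⟨b, hb⟩ := surjective_of_finite (algebraMap B S) hinj hfin hB (isUH_subalgebra h S)
    ⟨w, Algebra.subset_adjoin rfl⟩
  exact ⟨b, congrArg S.val hb⟩

end

end K344.AwnBij
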