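import Groth.Agent.HTop.K344.AwnRing
import Groth.Agent.HTop.K344.AwnBij

/-! # Comparison with the absolute weak normalization of a ring -/

set_option autoImplicit false
universe u

open CategoryTheory AlgebraicGeometry

namespace K344.AwnComp

open K344.UH K344.SemiLoc K344.AwnRing K344.AwnMain K344.AwnBij

variable {A B W : Type u} [CommRing A] [CommRing B] [CommRing W]

theorem comparison_bijective_iff (φ : A →+* W) (hφ : HTop.IsRingAWN φ) (ψ : A →+* B)
    (hψ : FlatMor.IsUnivHomeo (Spec.map (CommRingCat.ofHom ψ))) (χ : B →+* W) (hχ : χ.comp ψ = φ) :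
    Function.Bijective χ ↔ HTop.IsAWNRing B := by
  have hW := isAWNRing_of_isRingAWN hφ
  constructor
  · intro h
    exact isAWNRing_of_ringEquiv (RingEquiv.ofBijective χ h).symm hW
  · intro hB
    have : IsReduced W := isReduced_of_isSeminormalRing hW.1
    refine bijective_of_isUH χ hB ?_
    refine IsUH.of_comp (φ := ψ) ?_ ((isUnivHomeo_Spec_iff ψ).1 hψ)
    rw [hχ]
    exact (isUnivHomeo_Spec_iff φ).1 hφ.1

/-- Transport of `IsRingAWN` along an isomorphism. -/
theorem isRingAWN_of_bijective {φ : A →+* W} (hφ : HTop.IsRingAWN φ) {ψ : A →+* B} (χ : B →+* W)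
    (hb : Function.Bijective χ) (hχ : χ.comp ψ = φ) : HTop.IsRingAWN ψ := by
  let e := RingEquiv.ofBijective χ hb
  have he : ∀ x, e x = χ x := fun _ => rfl
  have hψ : ψ = (e.symm : W →+* B).comp φ := by
    rw [← hχ]
    ext a
    simp only [RingHom.comp_apply]
    rw [← he]
    simp
  refine ⟨?_, ?_⟩
  · rw [isUnivHomeo_Spec_iff, hψ]
    exact ((isUnivHomeo_Spec_iff φ).1 hφ.1).comp (IsUH.of_ringEquiv e.symm)
  · intro C _ θ hθ
    obtain ⟨r, hr, hr'⟩ := hφ.2 C θ hθ
    refine ⟨(e.symm : W →+* B).comp r, ?_, ?_⟩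
    · show ((e.symm : W →+* B).comp r).comp θ = ψ
      rw [RingHom.comp_assoc, hr, hψ]
    · intro r' hr''
      have h1 := hr' (χ.comp r') (by
        show (χ.comp r').comp θ = φ
        rw [RingHom.comp_assoc, hr'', hχ])
      rw [← h1]
      ext c
      simp only [RingHom.comp_apply]
      rw [← he]
      simp

/-- An absolutely weakly normal universal homeomorphism over `A` is an absolute weak normalization. -/
theorem isRingAWN_of_isAWNRing {ψ : A →+* B} (hψ : IsUH ψ) (hB : HTop.IsAWNRing B) : HTop.IsRingAWN ψ := by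
  have h1 := isRingAWN_awn (A := A)
  obtain ⟨χ, hχ, -⟩ := h1.2 B ψ ((isUnivHomeo_Spec_iff ψ).2 hψ)
  exact isRingAWN_of_bijective h1 χ
    ((comparison_bijective_iff _ h1 ψ ((isUnivHomeo_Spec_iff ψ).2 hψ) χ hχ).2 hB) hχ

/-- A universal homeomorphism over `A` is an absolute weak normalization iff its target is absolutely
weakly normal. -/
theorem isRingAWN_iff {ψ : A →+* B} : HTop.IsRingAWN ψ ↔ IsUH ψ ∧ HTop.IsAWNRing B :=
  ⟨fun h => ⟨(isUnivHomeo_Spec_iff ψ).1 h.1, isAWNRing_of_isRingAWN h⟩,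
    fun h => isRingAWN_of_isAWNRing h.1 h.2⟩

end K344.AwnComp
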