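import Groth.Agent.HTop.K344.AwnComp
import Mathlib.AlgebraicGeometry.Pullbacks

/-! # Functoriality of the absolute weak normalization of a ring; compatibility with localization -/

set_option autoImplicit false
universe u

open CategoryTheory CategoryTheory.Limits AlgebraicGeometry

namespace K344.AwnFunctor

open K344.UH K344.SemiLoc K344.AwnRing K344.AwnMain K344.AwnBij K344.AwnComp

variable {A B C : Type u} [CommRing A] [CommRing B] [CommRing C]

/-- Maps from a universal homeomorphism to a reduced ring are determined by their restriction. -/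
lemma hom_ext_of_isReduced [IsReduced B] {φ : A →+* C} (hφ : IsUH φ) (g₁ g₂ : C →+* B)
    (h : g₁.comp φ = g₂.comp φ) : g₁ = g₂ := by
  ext c
  rw [← sub_eq_zero]
  have h1 : IsNilpotent (g₁ c - g₂ c) := by
    rw [nilpotent_iff_mem_prime]
    intro q hq
    have h2 := hφ.eq_of_comp_eq q.ResidueField ((algebraMap B q.ResidueField).comp g₁)
      ((algebraMap B q.ResidueField).comp g₂) (by rw [RingHom.comp_assoc, h, RingHom.comp_assoc])
    rw [← Ideal.algebraMap_residueField_eq_zero, map_sub, sub_eq_zero]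
    exact congrArg (fun f => f c) h2
  exact h1.eq_zero

instance : IsReduced (awn A) := isReduced_of_isSeminormalRing (isAWNRing_of_isRingAWN isRingAWN_awn).1

lemma isAWNRing_awn : HTop.IsAWNRing (awn A) := isAWNRing_of_isRingAWN isRingAWN_awn

lemma awn_hom_ext [IsReduced B] (g₁ g₂ : awn A →+* B)
    (h : g₁.comp (algebraMap A (awn A)) = g₂.comp (algebraMap A (awn A))) : g₁ = g₂ :=
  hom_ext_of_isReduced (isUH_awn A) g₁ g₂ h

/-- Functoriality of the absolute weak normalization. -/
lemma exists_awnMap (g : A →+* B) : ∃ r : awn A →+* awn B,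
    r.comp (algebraMap A (awn A)) = (algebraMap B (awn B)).comp g := by
  let φ : CommRingCat.of A ⟶ CommRingCat.of (awn A) := CommRingCat.ofHom (algebraMap A (awn A))
  let γ : CommRingCat.of A ⟶ CommRingCat.of B := CommRingCat.ofHom g
  have h1 := isPullback_SpecMap_pushout φ γ
  have h2 : FlatMor.IsUnivHomeo (Spec.map (pushout.inr φ γ)) :=
    Groth.Agent.FlatA.UnivHomeo.isUnivHomeo_of_isPullback h1
      ((isUnivHomeo_Spec_iff (algebraMap A (awn A))).2 (isUH_awn A))
  obtain ⟨χ, hχ, -⟩ := (isRingAWN_awn (A := B)).2 _ (pushout.inr φ γ).hom h2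
  refine ⟨χ.comp (pushout.inl φ γ).hom, ?_⟩
  have h3 : (pushout.inl φ γ).hom.comp (algebraMap A (awn A)) = (pushout.inr φ γ).hom.comp g :=
    congrArg CommRingCat.Hom.hom (pushout.condition (f := φ) (g := γ))
  rw [RingHom.comp_assoc, h3, ← RingHom.comp_assoc, hχ]

/-- The map induced on absolute weak normalizations. -/
noncomputable def awnMap (g : A →+* B) : awn A →+* awn B := (exists_awnMap g).choose

lemma awnMap_comp_algebraMap (g : A →+* B) :
    (awnMap g).comp (algebraMap A (awn A)) = (algebraMap B (awn B)).comp g := (exists_awnMap g).choose_spec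

lemma awnMap_algebraMap (g : A →+* B) (a : A) :
    awnMap g (algebraMap A (awn A) a) = algebraMap B (awn B) (g a) :=
  congrArg (fun f => f a) (awnMap_comp_algebraMap g)

lemma awnMap_id : awnMap (RingHom.id A) = RingHom.id (awn A) :=
  awn_hom_ext _ _ (by rw [awnMap_comp_algebraMap]; rfl)

lemma awnMap_comp (g : A →+* B) (h : B →+* C) : awnMap (h.comp g) = (awnMap h).comp (awnMap g) :=
  awn_hom_ext _ _ (by
    rw [awnMap_comp_algebraMap, RingHom.comp_assoc, awnMap_comp_algebraMap, ← RingHom.comp_assoc,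
      ← RingHom.comp_assoc, awnMap_comp_algebraMap])

/-- Localization of a universal homeomorphism, general form. -/
lemma isUH_of_isLocalization {A' C' : Type u} [CommRing A'] [CommRing C'] [Algebra A A'] [Algebra C C']
    (φ : A →+* C) (h : IsUH φ) (M : Submonoid A) [IsLocalization M A'] [IsLocalization (M.map φ) C']
    (ψ : A' →+* C') (hψ : ψ.comp (algebraMap A A') = (algebraMap C C').comp φ) : IsUH ψ := by
  have hψa : ∀ a : A, ψ (algebraMap A A' a) = algebraMap C C' (φ a) := fun a => congrArg (fun f => f a) hψ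
  refine ⟨?_, ?_, ?_⟩
  · intro x
    obtain ⟨⟨c, ⟨_, m, hm, rfl⟩⟩, hx⟩ := IsLocalization.surj (M.map φ) x
    have hu : IsUnit (algebraMap A A' m) := IsLocalization.map_units A' (⟨m, hm⟩ : M)
    obtain ⟨w, hw⟩ := hu
    have h1 : x = algebraMap C C' c * ψ (↑w⁻¹ : A') := by
      have h2 : x * algebraMap C C' (φ m) = algebraMap C C' c := hx
      rw [← h2, ← hψa, ← hw, mul_assoc, ← map_mul, Units.mul_inv, map_one, mul_one]
    rw [h1]
    refine RingHom.IsIntegralElem.mul ψ ?_ (RingHom.isIntegralElem_map ψ)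
    obtain ⟨P, hP, hP'⟩ := h.isIntegral c
    refine ⟨P.map (algebraMap A A'), hP.map _, ?_⟩
    rw [Polynomial.eval₂_map, hψ, ← Polynomial.hom_eval₂, hP', map_zero]
  · intro x hx
    obtain ⟨⟨a, m⟩, hm⟩ := IsLocalization.surj M x
    have h1 : algebraMap C C' (φ a) = 0 := by
      rw [← hψa, ← hm, map_mul, RingHom.mem_ker.1 hx, zero_mul]
    obtain ⟨⟨_, c, hc, rfl⟩, hc'⟩ := (IsLocalization.map_eq_zero_iff (M.map φ) C' _).1 h1
    have h2 : φ (c * a) = 0 := by rw [map_mul]; exact hc'
    obtain ⟨n, hn⟩ := mem_nilradical.1 (h.ker_le (RingHom.mem_ker.2 h2))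
    rw [mem_nilradical]
    refine ⟨n, ?_⟩
    have h3 : (algebraMap A A' c) ^ n * (algebraMap A A' a) ^ n = 0 := by
      rw [← mul_pow, ← map_mul, ← map_pow, hn, map_zero]
    have hu : IsUnit (algebraMap A A' c) := IsLocalization.map_units A' (⟨c, hc⟩ : M)
    rw [(hu.pow n).mul_right_eq_zero] at h3
    have hm' : x * algebraMap A A' m = algebraMap A A' a := hm
    rw [← hm', mul_pow] at h3
    exact ((IsLocalization.map_units A' m).pow n).mul_left_eq_zero.1 h3
  · intro K _ g₁ g₂ h12
    apply IsLocalization.ringHom_ext (M.map φ)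
    apply h.eq_of_comp_eq
    rw [RingHom.comp_assoc, RingHom.comp_assoc, ← hψ, ← RingHom.comp_assoc, ← RingHom.comp_assoc, h12]

/-- `(A_f)^awn` is the localization of `A^awn` at `f`. -/
theorem isLocalization_away_awnMap {A' : Type u} [CommRing A'] (g : A →+* A') (f : A)
    (hloc : letI := g.toAlgebra; IsLocalization.Away f A') :
    letI := (awnMap g).toAlgebra
    IsLocalization.Away (algebraMap A (awn A) f) (awn A') := by
  let _ : Algebra A A' := g.toAlgebra
  have hloc' : IsLocalization.Away f A' := hloc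
  let _ : Algebra (awn A) (awn A') := (awnMap g).toAlgebra
  let Wf := Localization.Away (algebraMap A (awn A) f)
  let ψ : A' →+* Wf := IsLocalization.Away.lift (S := A') f (g := (algebraMap (awn A) Wf).comp (algebraMap A (awn A)))
    (IsLocalization.Away.algebraMap_isUnit (S := Wf) (algebraMap A (awn A) f))
  have hψ : ψ.comp (algebraMap A A') = (algebraMap (awn A) Wf).comp (algebraMap A (awn A)) :=
    IsLocalization.Away.lift_comp (S := A') f _
  have hmap : (Submonoid.powers f).map (algebraMap A (awn A)) = Submonoid.powers (algebraMap A (awn A) f) :=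
    Submonoid.map_powers _ _
  have : IsLocalization ((Submonoid.powers f).map (algebraMap A (awn A))) Wf := by
    rw [hmap]; infer_instance
  have hUH : IsUH ψ := isUH_of_isLocalization (algebraMap A (awn A)) (isUH_awn A) (Submonoid.powers f) ψ hψ
  have hAWN : HTop.IsAWNRing Wf :=
    isAWNRing_localization (Submonoid.powers (algebraMap A (awn A) f)) isAWNRing_awn
  obtain ⟨χ, hχ, -⟩ := (isRingAWN_awn (A := A')).2 Wf ψ ((isUnivHomeo_Spec_iff _).2 hUH)
  have hbij : Function.Bijective χ :=
    (comparison_bijective_iff _ isRingAWN_awn ψ ((isUnivHomeo_Spec_iff _).2 hUH) χ hχ).2 hAWN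
  have hcomp : χ.comp (algebraMap (awn A) Wf) = awnMap g := by
    apply awn_hom_ext
    rw [RingHom.comp_assoc, ← hψ, ← RingHom.comp_assoc, hχ, awnMap_comp_algebraMap]
    rfl
  let e : Wf ≃ₐ[awn A] awn A' := AlgEquiv.ofRingEquiv (f := RingEquiv.ofBijective χ hbij)
    (fun a => congrArg (fun f => f a) hcomp)
  exact IsLocalization.isLocalization_of_algEquiv (Submonoid.powers (algebraMap A (awn A) f)) e

end K344.AwnFunctor
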