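import Groth.Prelude.Def_HTop2
import Mathlib.RingTheory.Localization.Away.Basic
import Mathlib.RingTheory.Nilpotent.Lemmas
import Mathlib.RingTheory.Localization.AtPrime.Basic

/-! # Seminormal and absolutely weakly normal rings: reducedness, localization, locality -/

set_option autoImplicit false
universe u v

namespace K344.SemiLoc

/-- In a reduced ring `a^2 = b^2` and `a^3 = b^3` imply `a = b`. -/
lemma eq_of_sq_eq_of_cube_eq {A : Type u} [CommRing A] [IsReduced A] {a b : A}
    (h1 : a ^ 2 = b ^ 2) (h2 : a ^ 3 = b ^ 3) : a = b := by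
  have h : (a - b) ^ 3 = 0 := by
    linear_combination 4 * h2 - 3 * b * h1 - 3 * a * h1
  exact sub_eq_zero.1 (eq_zero_of_pow_eq_zero h)

/-- `a^p = b^p` and `p a = p b` imply that `a - b` is nilpotent. -/
lemma isNilpotent_sub_of_pow_eq {A : Type u} [CommRing A] {p : ℕ} (hp : p.Prime) {a b : A}
    (h1 : a ^ p = b ^ p) (h2 : (p : A) * a = (p : A) * b) : IsNilpotent (a - b) := by
  rw [nilpotent_iff_mem_prime]
  intro q hq
  by_cases hpq : (p : A) ∈ q
  · have hchar : CharP (A ⧸ q) p := by
      have : Nontrivial (A ⧸ q) := Ideal.Quotient.nontrivial_iff.2 hq.ne_top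
      have h0 : ((p : ℕ) : A ⧸ q) = 0 := by
        rw [← map_natCast (Ideal.Quotient.mk q)]
        exact Ideal.Quotient.eq_zero_iff_mem.2 hpq
      exact (CharP.charP_iff_prime_eq_zero hp).2 h0
    have := Fact.mk hp
    rw [← Ideal.Quotient.eq_zero_iff_mem]
    have h3 : (Ideal.Quotient.mk q (a - b)) ^ p = 0 := by
      rw [map_sub, sub_pow_char, ← map_pow, ← map_pow, h1, sub_self]
    exact eq_zero_of_pow_eq_zero h3
  · have h3 : (p : A) * (a - b) ∈ q := by
      rw [mul_sub, h2, sub_self]
      exact q.zero_mem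
    exact (hq.mem_or_mem h3).resolve_left hpq

lemma eq_of_pow_eq {A : Type u} [CommRing A] [IsReduced A] {p : ℕ} (hp : p.Prime) {a b : A}
    (h1 : a ^ p = b ^ p) (h2 : (p : A) * a = (p : A) * b) : a = b :=
  sub_eq_zero.1 (isNilpotent_sub_of_pow_eq hp h1 h2).eq_zero

/-- A seminormal ring is reduced. -/
lemma isReduced_of_isSeminormalRing {A : Type u} [CommRing A] (h : HTop.IsSeminormalRing A) :
    IsReduced A := by
  rw [isReduced_iff_pow_one_lt 2 (by norm_num)]
  intro x hx
  obtain ⟨a, -, ha⟩ := h 0 0 (by ring)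
  have h1 := ha x ⟨hx.symm, by rw [pow_succ, hx, zero_mul]⟩
  have h2 := ha 0 ⟨by ring, by ring⟩
  rw [h1, ← h2]

/-- A reduced ring in which the existence part holds is seminormal. -/
lemma isSeminormalRing_of_isReduced {A : Type u} [CommRing A] [IsReduced A]
    (h : ∀ x y : A, x ^ 3 = y ^ 2 → ∃ a : A, x = a ^ 2 ∧ y = a ^ 3) : HTop.IsSeminormalRing A := by
  intro x y hxy
  obtain ⟨a, h1, h2⟩ := h x y hxy
  refine ⟨a, ⟨h1, h2⟩, ?_⟩
  rintro b ⟨hb1, hb2⟩
  exact eq_of_sq_eq_of_cube_eq (hb1.symm.trans h1) (hb2.symm.trans h2)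

/-- A reduced ring in which the existence part of the `p`-conditions holds satisfies them. -/
lemma existsUnique_of_isReduced {A : Type u} [CommRing A] [IsReduced A] {p : ℕ} (hp : p.Prime) {x y : A}
    (h : ∃ a : A, x = a ^ p ∧ y = (p : A) * a) : ∃! a : A, x = a ^ p ∧ y = (p : A) * a := by
  obtain ⟨a, h1, h2⟩ := h
  refine ⟨a, ⟨h1, h2⟩, ?_⟩
  rintro b ⟨hb1, hb2⟩
  exact eq_of_pow_eq hp (hb1.symm.trans h1) (hb2.symm.trans h2)

section Loc

variable {A : Type u} {S : Type v} [CommRing A] [CommRing S] [Algebra A S] (M : Submonoid A)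
  [IsLocalization M S]

include M

lemma isReduced_localization [IsReduced A] : IsReduced S := by
  rw [isReduced_iff_pow_one_lt 2 (by norm_num)]
  intro x hx
  obtain ⟨⟨a, m⟩, h⟩ := IsLocalization.surj M x
  have h1 : algebraMap A S (a ^ 2) = 0 := by
    rw [map_pow, ← h, mul_pow, hx, zero_mul]
  obtain ⟨c, hc⟩ := (IsLocalization.map_eq_zero_iff M S _).1 h1
  have h2 : (c : A) * a = 0 := by
    have : ((c : A) * a) ^ 2 = 0 := by
      rw [mul_pow, sq (c : A), mul_assoc, hc, mul_zero]
    exact eq_zero_of_pow_eq_zero this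
  have h3 : algebraMap A S a = 0 := (IsLocalization.map_eq_zero_iff M S _).2 ⟨c, h2⟩
  rw [h3] at h
  exact (IsUnit.mul_left_eq_zero (IsLocalization.map_units S m)).1 h

/-- A localization of a seminormal ring is seminormal. -/
lemma isSeminormalRing_localization (hA : HTop.IsSeminormalRing A) : HTop.IsSeminormalRing S := by
  have := isReduced_of_isSeminormalRing hA
  have : IsReduced S := isReduced_localization M
  apply isSeminormalRing_of_isReduced
  intro x y hxy
  obtain ⟨a, b, m, h1, h2⟩ := IsLocalization.surj₂ M S x y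
  -- `x m = a`, `y m = b`
  set μ := algebraMap A S m with hμ
  have hμu : IsUnit μ := IsLocalization.map_units S m
  have h3 : algebraMap A S ((a * m) ^ 3) = algebraMap A S ((b * m ^ 2) ^ 2) := by
    simp only [map_pow, map_mul, ← h1, ← h2, ← hμ]
    linear_combination μ ^ 6 * hxy
  obtain ⟨c, hc⟩ := (IsLocalization.eq_iff_exists M S).1 h3
  have h4 : ((c : A) ^ 2 * (a * m)) ^ 3 = ((c : A) ^ 3 * (b * m ^ 2)) ^ 2 := by
    linear_combination (c : A) ^ 5 * hc
  obtain ⟨t, ⟨ht1, ht2⟩, -⟩ := hA _ _ h4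
  -- `t / (c m)`
  have hcu : IsUnit (algebraMap A S (c * m)) := IsLocalization.map_units S (c * m)
  obtain ⟨w, hw⟩ := hcu
  refine ⟨algebraMap A S t * ↑(w⁻¹), ?_, ?_⟩
  · have h5 : x * (w : S) ^ 2 = (algebraMap A S t) ^ 2 := by
      rw [hw, ← map_pow _ t, ← ht1]
      simp only [map_mul, map_pow, ← h1, ← hμ]
      ring
    rw [mul_pow, ← h5, mul_assoc, ← mul_pow, Units.mul_inv, one_pow, mul_one]
  · have h5 : y * (w : S) ^ 3 = (algebraMap A S t) ^ 3 := by
      rw [hw, ← map_pow _ t, ← ht2]
      simp only [map_mul, map_pow, ← h2, ← hμ]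
      ring
    rw [mul_pow, ← h5, mul_assoc, ← mul_pow, Units.mul_inv, one_pow, mul_one]

/-- A localization of an absolutely weakly normal ring is absolutely weakly normal. -/
lemma isAWNRing_localization (hA : HTop.IsAWNRing A) : HTop.IsAWNRing S := by
  have := isReduced_of_isSeminormalRing hA.1
  have : IsReduced S := isReduced_localization M
  refine ⟨isSeminormalRing_localization M hA.1, ?_⟩
  intro p hp x y hxy
  apply existsUnique_of_isReduced hp
  obtain ⟨a, b, m, h1, h2⟩ := IsLocalization.surj₂ M S x y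
  set μ := algebraMap A S m with hμ
  obtain ⟨k, rfl⟩ : ∃ k, p = k + 1 := ⟨p - 1, by have := hp.one_lt; omega⟩
  have h3 : algebraMap A S (((k + 1 : ℕ) : A) ^ (k + 1) * (a * m ^ k)) = algebraMap A S (b ^ (k + 1)) := by
    simp only [map_pow, map_mul, ← h1, ← h2, ← hμ, map_natCast]
    rw [mul_pow, ← hxy]
    ring
  obtain ⟨c, hc⟩ := (IsLocalization.eq_iff_exists M S).1 h3
  have h4 : ((k + 1 : ℕ) : A) ^ (k + 1) * ((c : A) ^ (k + 1) * (a * m ^ k)) = ((c : A) * b) ^ (k + 1) := by
    rw [mul_pow, pow_succ (c : A)]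
    linear_combination (c : A) ^ k * hc
  obtain ⟨t, ⟨ht1, ht2⟩, -⟩ := hA.2 _ hp _ _ h4
  have hcu : IsUnit (algebraMap A S (c * m)) := IsLocalization.map_units S (c * m)
  obtain ⟨w, hw⟩ := hcu
  refine ⟨algebraMap A S t * ↑(w⁻¹), ?_, ?_⟩
  · have h5 : x * (w : S) ^ (k + 1) = (algebraMap A S t) ^ (k + 1) := by
      rw [hw, ← map_pow _ t, ← ht1]
      simp only [map_mul, map_pow, ← h1, ← hμ, mul_pow]
      ring
    rw [mul_pow, ← h5, mul_assoc, ← mul_pow, Units.mul_inv, one_pow, mul_one]
  · have h5 : y * (w : S) = ((k + 1 : ℕ) : S) * algebraMap A S t := by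
      rw [hw, ← map_natCast (algebraMap A S), ← map_mul, ← ht2]
      simp only [map_mul, ← h2, ← hμ]
      ring
    rw [← mul_assoc, ← h5, mul_assoc, Units.mul_inv, mul_one]

end Loc

section Equiv

variable {A : Type u} {S : Type v} [CommRing A] [CommRing S]

lemma isSeminormalRing_of_ringEquiv (e : A ≃+* S) (hA : HTop.IsSeminormalRing A) :
    HTop.IsSeminormalRing S := by
  let _ : Algebra A S := e.toRingHom.toAlgebra
  have : IsLocalization (⊥ : Submonoid A) A := IsLocalization.self (by simp)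
  have : IsLocalization (⊥ : Submonoid A) S :=
    IsLocalization.isLocalization_of_algEquiv (⊥ : Submonoid A)
      (AlgEquiv.ofRingEquiv (f := e) (fun _ => rfl) : A ≃ₐ[A] S)
  exact isSeminormalRing_localization (⊥ : Submonoid A) hA

lemma isAWNRing_of_ringEquiv (e : A ≃+* S) (hA : HTop.IsAWNRing A) :
    HTop.IsAWNRing S := by
  let _ : Algebra A S := e.toRingHom.toAlgebra
  have : IsLocalization (⊥ : Submonoid A) A := IsLocalization.self (by simp)
  have : IsLocalization (⊥ : Submonoid A) S :=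
    IsLocalization.isLocalization_of_algEquiv (⊥ : Submonoid A)
      (AlgEquiv.ofRingEquiv (f := e) (fun _ => rfl) : A ≃ₐ[A] S)
  exact isAWNRing_localization (⊥ : Submonoid A) hA

end Equiv

section Local

open Localization IsLocalization

/-- Local to global, for the family of localizations at a set generating the unit ideal. -/
lemma exists_of_span {A : Type u} [CommRing A] (s : Set A) (hs : Ideal.span s = ⊤)
    (P : ∀ (B : Type u) [CommRing B] [Algebra A B], B → Prop)
    (hmap : ∀ (B C : Type u) [CommRing B] [CommRing C] [Algebra A B] [Algebra A C] (g : B →ₐ[A] C) (b : B), P B b → P C (g b))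
    (huniq : ∀ (f g : A), f ∈ s → g ∈ s → ∀ b b' : Localization.Away (f * g), P _ b → P _ b' → b = b')
    (hloc : ∀ f ∈ s, ∃ b : Localization.Away f, P _ b) :
    ∃ a : A, ∀ f ∈ s, P (Localization.Away f) (algebraMap A _ a) := by
  choose b hb using hloc
  obtain ⟨r, hr, -⟩ := existsUnique_algebraMap_eq_of_span_eq_top s hs (fun a => b a.1 a.2) (by
    intro f g
    let gr : Localization.Away f.1 →ₐ[A] Localization.Away (f.1 * g.1) :=
      { Away.awayToAwayRight (P := Localization.Away (f.1 * g.1 : A)) f.1 g.1 with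
        commutes' := fun a => Away.awayToAwayRight_eq (P := Localization.Away (f.1 * g.1 : A)) f.1 g.1 a }
    let gl : Localization.Away g.1 →ₐ[A] Localization.Away (f.1 * g.1) :=
      { Away.awayToAwayLeft (P := Localization.Away (f.1 * g.1 : A)) g.1 f.1 with
        commutes' := fun a => Away.awayToAwayLeft_eq (P := Localization.Away (f.1 * g.1 : A)) g.1 f.1 a }
    exact huniq f g f.2 g.2 _ _ (hmap _ _ gr _ (hb f.1 f.2)) (hmap _ _ gl _ (hb g.1 g.2)))
  refine ⟨r, fun f hf => ?_⟩
  rw [hr ⟨f, hf⟩]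
  exact hb f hf

lemma isReduced_of_span {A : Type u} [CommRing A] (s : Set A) (hs : Ideal.span s = ⊤)
    (h : ∀ f ∈ s, IsReduced (Localization.Away f)) : IsReduced A := by
  have hinj := algebraMap_injective_of_span_eq_top s hs
  have : ∀ f : s, IsReduced (Localization.Away f.1) := fun f => h f.1 f.2
  exact isReduced_of_injective _ hinj

lemma eq_of_span {A : Type u} [CommRing A] (s : Set A) (hs : Ideal.span s = ⊤) {x y : A}
    (h : ∀ f ∈ s, algebraMap A (Localization.Away f) x = algebraMap A (Localization.Away f) y) : x = y :=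
  algebraMap_injective_of_span_eq_top s hs (funext fun f => h f.1 f.2)

/-- Seminormality is local. -/
lemma isSeminormalRing_of_span {A : Type u} [CommRing A] (s : Set A) (hs : Ideal.span s = ⊤)
    (h : ∀ f ∈ s, HTop.IsSeminormalRing (Localization.Away f)) : HTop.IsSeminormalRing A := by
  have : IsReduced A := isReduced_of_span s hs fun f hf => isReduced_of_isSeminormalRing (h f hf)
  apply isSeminormalRing_of_isReduced
  intro x y hxy
  obtain ⟨a, ha⟩ := exists_of_span s hs
    (fun B _ _ b => algebraMap A B x = b ^ 2 ∧ algebraMap A B y = b ^ 3)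
    (fun B C _ _ _ _ g b hb => ⟨by rw [← map_pow, ← hb.1, AlgHom.commutes],
      by rw [← map_pow, ← hb.2, AlgHom.commutes]⟩)
    (fun f g hf hg b b' hb hb' => by
      have : IsReduced (Localization.Away (f * g)) := isReduced_localization (Submonoid.powers (f * g))
      exact eq_of_sq_eq_of_cube_eq (hb.1.symm.trans hb'.1) (hb.2.symm.trans hb'.2))
    (fun f hf => by
      obtain ⟨b, hb, -⟩ := h f hf (algebraMap A _ x) (algebraMap A _ y) (by rw [← map_pow, ← map_pow, hxy])
      exact ⟨b, hb⟩)
  refine ⟨a, eq_of_span s hs fun f hf => ?_, eq_of_span s hs fun f hf => ?_⟩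
  · rw [map_pow]; exact (ha f hf).1
  · rw [map_pow]; exact (ha f hf).2

/-- Absolute weak normality is local. -/
lemma isAWNRing_of_span {A : Type u} [CommRing A] (s : Set A) (hs : Ideal.span s = ⊤)
    (h : ∀ f ∈ s, HTop.IsAWNRing (Localization.Away f)) : HTop.IsAWNRing A := by
  have : IsReduced A := isReduced_of_span s hs fun f hf => isReduced_of_isSeminormalRing (h f hf).1
  refine ⟨isSeminormalRing_of_span s hs fun f hf => (h f hf).1, ?_⟩
  intro p hp x y hxy
  apply existsUnique_of_isReduced hp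
  obtain ⟨a, ha⟩ := exists_of_span s hs
    (fun B _ _ b => algebraMap A B x = b ^ p ∧ algebraMap A B y = (p : B) * b)
    (fun B C _ _ _ _ g b hb => ⟨by rw [← map_pow, ← hb.1, AlgHom.commutes],
      by rw [← map_natCast g, ← map_mul, ← hb.2, AlgHom.commutes]⟩)
    (fun f g hf hg b b' hb hb' => by
      have : IsReduced (Localization.Away (f * g)) := isReduced_localization (Submonoid.powers (f * g))
      exact eq_of_pow_eq hp (hb.1.symm.trans hb'.1) (hb.2.symm.trans hb'.2))
    (fun f hf => by
      obtain ⟨b, hb, -⟩ := (h f hf).2 p hp (algebraMap A _ x) (algebraMap A _ y)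
        (by rw [← map_natCast (algebraMap A _), ← map_pow, ← map_mul, ← map_pow, hxy])
      exact ⟨b, hb⟩)
  refine ⟨a, eq_of_span s hs fun f hf => ?_, eq_of_span s hs fun f hf => ?_⟩
  · rw [map_pow]; exact (ha f hf).1
  · rw [map_mul, map_natCast]; exact (ha f hf).2

end Local

end K344.SemiLoc
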