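import Groth.Agent.HTop.K344.UnivHomeoRing
import Groth.Agent.HTop.K344.SemiLoc
import Mathlib.FieldTheory.PurelyInseparable.Basic
import Mathlib.RingTheory.Ideal.MinimalPrime.Localization
import Mathlib.RingTheory.Localization.Integral

/-! # Absolutely weakly normal rings have no nontrivial reduced universal homeomorphisms -/

set_option autoImplicit false
universe u

open CategoryTheory AlgebraicGeometry

namespace K344.AwnMain

open K344.UH K344.SemiLoc Polynomial

section Points

variable {A C : Type u} [CommRing A] [CommRing C]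

/-- Criterion for a universal homeomorphism by points in algebraically closed fields. -/
lemma isUH_of_points (φ : A →+* C) (hint : φ.IsIntegral)
    (hex : ∀ (K : Type u) [Field K] [IsAlgClosed K] (f : A →+* K), ∃ g : C →+* K, g.comp φ = f)
    (huniq : ∀ (K : Type u) [Field K] (g₁ g₂ : C →+* K), g₁.comp φ = g₂.comp φ → g₁ = g₂) : IsUH φ := by
  refine ⟨hint, ?_, huniq⟩
  intro a ha
  rw [nilradical_eq_sInf, Ideal.mem_sInf]
  intro q hq
  have hq' : q.IsPrime := hq
  obtain ⟨g, hg⟩ := hex (AlgebraicClosure q.ResidueField) (algebraMap A _)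
  have h1 : algebraMap A (AlgebraicClosure q.ResidueField) a = 0 := by
    rw [← hg, RingHom.comp_apply, RingHom.mem_ker.1 ha, map_zero]
  rw [IsScalarTower.algebraMap_apply A q.ResidueField (AlgebraicClosure q.ResidueField),
    map_eq_zero_iff _ (RingHom.injective _)] at h1
  exact Ideal.algebraMap_residueField_eq_zero.1 h1

end Points

section RootAlg

variable {B : Type u} [CommRing B] (F G : B[X])

/-- `B[t]/(F, G)`. -/
abbrev RootAlg : Type u := B[X] ⧸ Ideal.span ({F, G} : Set B[X])

/-- The class of `t` in `B[t]/(F, G)`. -/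
noncomputable def root : RootAlg F G := Ideal.Quotient.mk _ X

lemma eval₂_root_eq_zero_left : eval₂ (algebraMap B (RootAlg F G)) (root F G) F = 0 := by
  have h : eval₂ (algebraMap B (RootAlg F G)) (root F G) F = Ideal.Quotient.mk _ F := by
    have := Polynomial.hom_eval₂ F (C : B →+* B[X]) (Ideal.Quotient.mk (Ideal.span ({F, G} : Set B[X]))) X
    rw [eval₂_C_X] at this
    exact this.symm
  rw [h]
  exact Ideal.Quotient.eq_zero_iff_mem.2 (Ideal.subset_span (by simp))

lemma eval₂_root_eq_zero_right : eval₂ (algebraMap B (RootAlg F G)) (root F G) G = 0 := by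
  have h : eval₂ (algebraMap B (RootAlg F G)) (root F G) G = Ideal.Quotient.mk _ G := by
    have := Polynomial.hom_eval₂ G (C : B →+* B[X]) (Ideal.Quotient.mk (Ideal.span ({F, G} : Set B[X]))) X
    rw [eval₂_C_X] at this
    exact this.symm
  rw [h]
  exact Ideal.Quotient.eq_zero_iff_mem.2 (Ideal.subset_span (by simp))

variable {F G}

lemma lift_aux {K : Type u} [CommRing K] (f : B →+* K) (t : K) (hF : eval₂ f t F = 0) (hG : eval₂ f t G = 0)
    (a : B[X]) (ha : a ∈ Ideal.span ({F, G} : Set B[X])) : eval₂RingHom f t a = 0 := by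
  have h : Ideal.span ({F, G} : Set B[X]) ≤ RingHom.ker (eval₂RingHom f t) := by
    rw [Ideal.span_le]
    rintro x (rfl | rfl)
    · exact hF
    · exact hG
  exact h ha

/-- Maps out of `B[t]/(F, G)`. -/
noncomputable def lift {K : Type u} [CommRing K] (f : B →+* K) (t : K) (hF : eval₂ f t F = 0)
    (hG : eval₂ f t G = 0) : RootAlg F G →+* K :=
  Ideal.Quotient.lift _ (eval₂RingHom f t) (lift_aux f t hF hG)

lemma lift_comp {K : Type u} [CommRing K] (f : B →+* K) (t : K) (hF : eval₂ f t F = 0)
    (hG : eval₂ f t G = 0) : (lift f t hF hG).comp (algebraMap B (RootAlg F G)) = f := by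
  ext b
  show (lift f t hF hG) (Ideal.Quotient.mk _ (C b)) = f b
  rw [lift, Ideal.Quotient.lift_mk, coe_eval₂RingHom, eval₂_C]

lemma lift_root {K : Type u} [CommRing K] (f : B →+* K) (t : K) (hF : eval₂ f t F = 0)
    (hG : eval₂ f t G = 0) : lift f t hF hG (root F G) = t := by
  show (lift f t hF hG) (Ideal.Quotient.mk _ X) = t
  rw [lift, Ideal.Quotient.lift_mk, coe_eval₂RingHom, eval₂_X]

lemma hom_ext {K : Type u} [CommRing K] (g₁ g₂ : RootAlg F G →+* K)
    (h : g₁.comp (algebraMap B (RootAlg F G)) = g₂.comp (algebraMap B (RootAlg F G)))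
    (ht : g₁ (root F G) = g₂ (root F G)) : g₁ = g₂ := by
  apply Ideal.Quotient.ringHom_ext
  apply Polynomial.ringHom_ext
  · intro b
    exact congrArg (fun f => f b) h
  · exact ht

lemma isIntegral_rootAlg (hF : F.Monic) : (algebraMap B (RootAlg F G)).IsIntegral := by
  have ht : IsIntegral B (root F G) := ⟨F, hF, eval₂_root_eq_zero_left F G⟩
  intro x
  obtain ⟨P, rfl⟩ := Ideal.Quotient.mk_surjective x
  have h : Ideal.Quotient.mk (Ideal.span ({F, G} : Set B[X])) P = aeval (root F G) P := by
    have := Polynomial.hom_eval₂ P (C : B →+* B[X]) (Ideal.Quotient.mk (Ideal.span ({F, G} : Set B[X]))) X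
    rw [eval₂_C_X] at this
    exact this
  rw [h]
  exact adjoin_le_integralClosure ht (aeval_mem_adjoin_singleton B (root F G))

end RootAlg

lemma root_pow_left {B : Type u} [CommRing B] (n : ℕ) (x : B) (G : B[X]) :
    root (X ^ n - C x) G ^ n = algebraMap B _ x := by
  have e1 := eval₂_root_eq_zero_left (X ^ n - C x) G
  rwa [eval₂_sub, eval₂_X_pow, eval₂_C, sub_eq_zero] at e1

lemma root_pow_right {B : Type u} [CommRing B] (n : ℕ) (x : B) (F : B[X]) :
    root F (X ^ n - C x) ^ n = algebraMap B _ x := by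
  have e1 := eval₂_root_eq_zero_right F (X ^ n - C x)
  rwa [eval₂_sub, eval₂_X_pow, eval₂_C, sub_eq_zero] at e1

lemma mul_root_right {B : Type u} [CommRing B] (a y : B) (F : B[X]) :
    algebraMap B _ a * root F (C a * X - C y) = algebraMap B _ y := by
  have e2 := eval₂_root_eq_zero_right F (C a * X - C y)
  rwa [eval₂_sub, eval₂_mul, eval₂_C, eval₂_C, eval₂_X, sub_eq_zero] at e2

/-- `B → B[t]/(t^2 - x, t^3 - y)` is a universal homeomorphism if `x^3 = y^2`. -/
lemma isUH_two_three {B : Type u} [CommRing B] {x y : B} (h : x ^ 3 = y ^ 2) :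
    IsUH (algebraMap B (RootAlg (X ^ 2 - C x) (X ^ 3 - C y))) := by
  apply isUH_of_points
  · exact isIntegral_rootAlg (monic_X_pow_sub_C x (by norm_num))
  · intro K _ _ f
    by_cases hx : f x = 0
    · have hy : f y = 0 := by
        have : f y ^ 2 = 0 := by rw [← map_pow, ← h, map_pow, hx]; ring
        exact eq_zero_of_pow_eq_zero this
      exact ⟨lift f 0 (by simp [hx]) (by simp [hy]), lift_comp _ _ _ _⟩
    · refine ⟨lift f (f y / f x) ?_ ?_, lift_comp _ _ _ _⟩
      · rw [eval₂_sub, eval₂_X_pow, eval₂_C, div_pow, ← map_pow, ← h, map_pow]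
        field_simp
        ring
      · rw [eval₂_sub, eval₂_X_pow, eval₂_C, div_pow, ← map_pow f x, h, map_pow]
        have hy : f y ≠ 0 := by
          intro hy
          apply hx
          have : f x ^ 3 = 0 := by rw [← map_pow, h, map_pow, hy]; ring
          exact eq_zero_of_pow_eq_zero this
        field_simp
        ring
  · intro K _ g₁ g₂ h12
    refine hom_ext _ _ h12 ?_
    have e1 := root_pow_left 2 x (X ^ 3 - C y)
    have e2 := root_pow_right 3 y (X ^ 2 - C x)
    apply eq_of_sq_eq_of_cube_eq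
    · rw [← map_pow, ← map_pow, e1]
      exact congrArg (fun f => f x) h12
    · rw [← map_pow, ← map_pow, e2]
      exact congrArg (fun f => f y) h12

/-- `B → B[t]/(t^p - x, p t - y)` is a universal homeomorphism if `p^p x = y^p`. -/
lemma isUH_prime {B : Type u} [CommRing B] {p : ℕ} (hp : p.Prime) {x y : B} (h : (p : B) ^ p * x = y ^ p) :
    IsUH (algebraMap B (RootAlg (X ^ p - C x) (C (p : B) * X - C y))) := by
  apply isUH_of_points
  · exact isIntegral_rootAlg (monic_X_pow_sub_C x hp.ne_zero)
  · intro K _ _ f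
    by_cases hpK : (p : K) = 0
    · obtain ⟨t, ht⟩ := IsAlgClosed.exists_pow_nat_eq (f x) hp.pos
      have hy : f y = 0 := by
        have : f y ^ p = 0 := by
          rw [← map_pow, ← h, map_mul, map_pow, map_natCast, hpK, zero_pow hp.ne_zero, zero_mul]
        exact eq_zero_of_pow_eq_zero this
      exact ⟨lift f t (by simp [ht]) (by simp [hy, hpK]), lift_comp _ _ _ _⟩
    · refine ⟨lift f (f y / p) ?_ ?_, lift_comp _ _ _ _⟩
      · rw [eval₂_sub, eval₂_X_pow, eval₂_C, div_pow, ← map_pow, ← h, map_mul, map_pow, map_natCast]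
        field_simp
        ring
      · rw [eval₂_sub, eval₂_mul, eval₂_C, eval₂_C, eval₂_X, map_natCast]
        field_simp
        ring
  · intro K _ g₁ g₂ h12
    refine hom_ext _ _ h12 ?_
    have e1 := root_pow_left p x (C (p : B) * X - C y)
    have e2 := mul_root_right (p : B) y (X ^ p - C x)
    apply eq_of_pow_eq hp
    · rw [← map_pow, ← map_pow, e1]
      exact congrArg (fun f => f x) h12
    · have e3 := congrArg g₁ e2
      have e4 := congrArg g₂ e2
      have e5 : g₁ (algebraMap B _ (p : B)) = (p : K) := map_natCast (g₁.comp (algebraMap B _)) p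
      have e6 : g₂ (algebraMap B _ (p : B)) = (p : K) := map_natCast (g₂.comp (algebraMap B _)) p
      rw [map_mul, e5] at e3
      rw [map_mul, e6] at e4
      rw [e3, e4]
      exact congrArg (fun f => f y) h12

/-- The target of an absolute weak normalization is absolutely weakly normal. -/
theorem isAWNRing_of_isRingAWN {A W : Type u} [CommRing A] [CommRing W] {φ : A →+* W}
    (hφ : HTop.IsRingAWN φ) : HTop.IsAWNRing W := by
  have hφ1 : IsUH φ := (isUnivHomeo_Spec_iff φ).1 hφ.1
  have key : ∀ (C : Type u) [CommRing C] (ι : W →+* C), IsUH ι → ∃! r : C →+* W, r.comp ι = RingHom.id W := by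
    intro C _ ι hι
    obtain ⟨r, hr, hr'⟩ := hφ.2 C (ι.comp φ) ((isUnivHomeo_Spec_iff _).2 (hφ1.comp hι))
    refine ⟨r, ?_, ?_⟩
    · obtain ⟨s, -, hs'⟩ := hφ.2 W φ hφ.1
      rw [hs' (r.comp ι) hr, hs' (RingHom.id W) (RingHom.id_comp φ)]
    · intro r' hr''
      apply hr'
      show r'.comp (ι.comp φ) = φ
      rw [← RingHom.comp_assoc, hr'', RingHom.id_comp]
  refine ⟨?_, ?_⟩
  · intro x y hxy
    obtain ⟨r, hr, hr'⟩ := key _ _ (isUH_two_three hxy)
    have e1 := root_pow_left 2 x (X ^ 3 - C y)
    have e2 := root_pow_right 3 y (X ^ 2 - C x)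
    refine ⟨r (root _ _), ⟨?_, ?_⟩, ?_⟩
    · rw [← map_pow, e1]
      exact (congrArg (fun f => f x) hr).symm
    · rw [← map_pow, e2]
      exact (congrArg (fun f => f y) hr).symm
    · rintro b ⟨hb1, hb2⟩
      have h1 := hr' (lift (F := X ^ 2 - C x) (G := X ^ 3 - C y) (RingHom.id W) b (by simp [hb1]) (by simp [hb2]))
        (lift_comp _ _ _ _)
      rw [← h1]
      exact (lift_root _ _ _ _).symm
  · intro p hp x y hxy
    obtain ⟨r, hr, hr'⟩ := key _ _ (isUH_prime hp hxy)
    have e1 := root_pow_left p x (C (p : W) * X - C y)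
    have e2 := mul_root_right (p : W) y (X ^ p - C x)
    refine ⟨r (root _ _), ⟨?_, ?_⟩, ?_⟩
    · rw [← map_pow, e1]
      exact (congrArg (fun f => f x) hr).symm
    · have e3 := congrArg r e2
      have e5 : r (algebraMap W _ (p : W)) = (p : W) := map_natCast (r.comp (algebraMap W _)) p
      rw [map_mul, e5] at e3
      rw [e3]
      exact (congrArg (fun f => f y) hr).symm
    · rintro b ⟨hb1, hb2⟩
      have h1 := hr' (lift (F := X ^ p - C x) (G := C (p : W) * X - C y) (RingHom.id W) b (by simp [hb1]) (by simp [hb2]))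
        (lift_comp _ _ _ _)
      rw [← h1]
      exact (lift_root _ _ _ _).symm

end K344.AwnMain
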