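import Groth.Agent.HTop.K344.UnivHomeoRing

/-! # The absolute weak normalization of a ring -/

set_option autoImplicit false
universe u

open CategoryTheory AlgebraicGeometry

namespace K344.AwnRing

open K344.UH

variable (A : Type u) [CommRing A]

/-- The product of algebraic closures of all residue fields of `A`. -/
abbrev GeomProd : Type u := ∀ p : PrimeSpectrum A, AlgebraicClosure p.asIdeal.ResidueField

/-- The point of `GeomProd`. -/
noncomputable def pt (p : PrimeSpectrum A) : GeomProd A →+* AlgebraicClosure p.asIdeal.ResidueField :=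
  Pi.evalRingHom _ p

lemma ker_algebraMap_geomProd : RingHom.ker (algebraMap A (GeomProd A)) ≤ nilradical A := by
  intro a ha
  rw [nilradical_eq_sInf, Ideal.mem_sInf]
  intro q hq
  have hq' : q.IsPrime := hq
  have h1 : algebraMap A (GeomProd A) a ⟨q, hq'⟩ = 0 := by
    rw [RingHom.mem_ker.1 ha]; rfl
  have h2 : algebraMap A (AlgebraicClosure q.ResidueField) a = 0 := h1
  rw [IsScalarTower.algebraMap_apply A q.ResidueField (AlgebraicClosure q.ResidueField),
    map_eq_zero_iff _ (RingHom.injective _)] at h2
  exact Ideal.algebraMap_residueField_eq_zero.1 h2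

/-- The absolute weak normalization of `A`, as a subalgebra of the product of algebraic closures of the
residue fields: the supremum of all subalgebras which are universal homeomorphisms over `A`. -/
noncomputable def awn : Subalgebra A (GeomProd A) := sSup {S : Subalgebra A (GeomProd A) | IsUH (algebraMap A S)}

lemma ker_le_nilradical (S : Subalgebra A (GeomProd A)) : RingHom.ker (algebraMap A S) ≤ nilradical A := by
  refine le_trans ?_ (ker_algebraMap_geomProd A)
  intro a ha
  rw [RingHom.mem_ker] at ha ⊢
  exact congrArg (S.val) ha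

theorem isUH_awn : IsUH (algebraMap A (awn A)) := by
  refine ⟨?_, ker_le_nilradical A _, ?_⟩
  · have h1 : awn A ≤ integralClosure A (GeomProd A) := by
      refine sSup_le fun S hS x hx => ?_
      have h2 : IsIntegral A (⟨x, hx⟩ : S) := hS.isIntegral ⟨x, hx⟩
      exact h2.map S.val
    intro x
    have h2 : IsIntegral A (x : GeomProd A) := h1 x.2
    exact (isIntegral_algHom_iff (awn A).val Subtype.val_injective).1 h2
  · intro K _ g₁ g₂ h
    let _ : Algebra A K := (g₁.comp (algebraMap A (awn A))).toAlgebra
    let G₁ : awn A →ₐ[A] K := { g₁ with commutes' := fun a => rfl }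
    let G₂ : awn A →ₐ[A] K := { g₂ with commutes' := fun a => (congrArg (fun f => f a) h).symm }
    have h1 : awn A ≤ (AlgHom.equalizer G₁ G₂).map (awn A).val := by
      refine sSup_le fun S hS x hx => ?_
      have hle : S ≤ awn A := le_sSup hS
      have h2 : (G₁.comp (Subalgebra.inclusion hle)).toRingHom = (G₂.comp (Subalgebra.inclusion hle)).toRingHom := by
        apply hS.eq_of_comp_eq
        ext a
        exact (AlgHom.commutes (G₁.comp (Subalgebra.inclusion hle)) a).trans
          (AlgHom.commutes (G₂.comp (Subalgebra.inclusion hle)) a).symm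
      refine ⟨⟨x, hle hx⟩, ?_, rfl⟩
      exact congrArg (fun f => f ⟨x, hx⟩) h2
    ext x
    obtain ⟨y, hy, hyx⟩ := h1 x.2
    have h3 : y = x := Subtype.ext hyx
    subst h3
    exact hy

variable {A}

/-- Every universal homeomorphism `A → C` maps to `GeomProd A`, in a unique way. -/
theorem exists_algHom_geomProd {C : Type u} [CommRing C] {ψ : A →+* C} (hψ : IsUH ψ) :
    ∃ χ : C →+* GeomProd A, χ.comp ψ = algebraMap A (GeomProd A) := by
  choose c hc _ using fun p : PrimeSpectrum A =>
    hψ.existsUnique_point (algebraMap A (AlgebraicClosure p.asIdeal.ResidueField))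
  refine ⟨RingHom.pi c, ?_⟩
  ext a p
  exact congrArg (fun f => f a) (hc p)

theorem unique_geomProd {C : Type u} [CommRing C] {ψ : A →+* C} (hψ : IsUH ψ)
    {B : Type u} [CommRing B] (ι : ∀ i : PrimeSpectrum A, B →+* AlgebraicClosure i.asIdeal.ResidueField)
    (hι : ∀ x y : B, (∀ i, ι i x = ι i y) → x = y)
    (χ₁ χ₂ : C →+* B) (h : χ₁.comp ψ = χ₂.comp ψ) : χ₁ = χ₂ := by
  ext x
  apply hι
  intro i
  exact congrArg (fun f => f x) (hψ.eq_of_comp_eq _ ((ι i).comp χ₁) ((ι i).comp χ₂) (by
    rw [RingHom.comp_assoc, RingHom.comp_assoc, h]))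

/-- The range of a ring map out of a universal homeomorphism lies in `awn A`. -/
theorem mem_awn_of_isUH {C : Type u} [CommRing C] {ψ : A →+* C} (hψ : IsUH ψ)
    (χ : C →+* GeomProd A) (hχ : χ.comp ψ = algebraMap A (GeomProd A)) (c : C) : χ c ∈ awn A := by
  let _ : Algebra A C := ψ.toAlgebra
  let X : C →ₐ[A] GeomProd A := { χ with commutes' := fun a => congrArg (fun f => f a) hχ }
  have h1 : IsUH (algebraMap A X.range) := by
    refine ⟨?_, ker_le_nilradical A _, ?_⟩
    · intro x
      obtain ⟨c, hc⟩ := X.rangeRestrict_surjective x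
      rw [← hc]
      have h3 : IsIntegral A c := hψ.isIntegral c
      exact h3.map X.rangeRestrict
    · intro K _ g₁ g₂ h
      have h2 := hψ.eq_of_comp_eq K (g₁.comp X.rangeRestrict.toRingHom) (g₂.comp X.rangeRestrict.toRingHom) (by
        ext a
        have h3 : X.rangeRestrict.toRingHom (ψ a) = algebraMap A X.range a := X.rangeRestrict.commutes a
        show g₁ (X.rangeRestrict.toRingHom (ψ a)) = g₂ (X.rangeRestrict.toRingHom (ψ a))
        rw [h3]
        exact congrArg (fun f => f a) h)
      ext x
      obtain ⟨c, rfl⟩ := X.rangeRestrict_surjective x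
      exact congrArg (fun f => f c) h2
  exact (le_sSup h1 : X.range ≤ awn A) ⟨c, rfl⟩

/-- `A → awn A` is an absolute weak normalization. -/
theorem isRingAWN_awn : HTop.IsRingAWN (algebraMap A (awn A)) := by
  refine ⟨(isUnivHomeo_Spec_iff _).2 (isUH_awn A), ?_⟩
  intro C _ ψ hψ
  rw [isUnivHomeo_Spec_iff] at hψ
  obtain ⟨χ, hχ⟩ := exists_algHom_geomProd hψ
  refine ⟨χ.codRestrict (awn A) (mem_awn_of_isUH hψ χ hχ), ?_, ?_⟩
  · refine RingHom.ext fun a => Subtype.ext ?_
    exact congrArg (fun f => f a) hχ
  · intro χ' hχ'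
    refine unique_geomProd hψ (fun i => (pt A i).comp (awn A).val.toRingHom) ?_ _ _ ?_
    · intro x y h
      exact Subtype.ext (funext h)
    · rw [hχ']
      refine RingHom.ext fun a => Subtype.ext ?_
      exact congrArg (fun f => f a) hχ.symm

end K344.AwnRing
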