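import Groth.Agent.FibDesc.K290.Hyp
import Mathlib.CategoryTheory.MorphismProperty.Comma

/-!
# One-member coverings for a topology on schemes; augmented simplicial schemes over a base

* `covW K`: the class of morphisms `f` such that the sieve generated by `f` is covering for `K`.
* `lhw_lift`: an augmented simplicial object of `C` which is locally fillable for `W` gives an augmented simplicial
  object of `Over S` which is locally fillable for `W.over`.
-/

set_option autoImplicit false
set_option backward.isDefEq.respectTransparency false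
set_option backward.isDefEq.respectTransparency.types false

universe u v w

open CategoryTheory CategoryTheory.Limits Opposite

namespace K344.DescCov

open K781.Desc K290.LocEx K290.Hyp

section

variable {C : Type u} [Category.{v} C]

/-- Morphisms generating a covering sieve. -/
def covW (K : GrothendieckTopology C) : MorphismProperty C := fun _ _ f =>
  Sieve.generate (Presieve.singleton f) ∈ K _

variable (K : GrothendieckTopology C)

theorem covW_of_mem {X T : C} (f : X ⟶ T) (R : Sieve T) (hR : R ∈ K T) (h : ∀ ⦃Z : C⦄ (g : Z ⟶ T), R g →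
    ∃ l : Z ⟶ X, l ≫ f = g) : covW K f := by
  refine K.superset_covering ?_ hR
  intro Z g hg
  obtain ⟨l, hl⟩ := h g hg
  exact ⟨X, l, f, ⟨⟩, hl⟩

theorem mem_of_covW {X T : C} (f : X ⟶ T) (hf : covW K f) (R : Sieve T) (hR : R f) : R ∈ K T := by
  refine K.superset_covering ?_ hf
  rintro Z g ⟨_, l, _, ⟨⟩, hl⟩
  rw [← hl]
  exact R.downward_closed hR l

instance : (covW K).IsMultiplicative where
  id_mem X := by
    refine covW_of_mem K (𝟙 X) ⊤ (K.top_mem X) ?_
    intro Z g _
    exact ⟨g, Category.comp_id _⟩
  comp_mem {X Y Z} f g hf hg := by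
    change Sieve.generate (Presieve.singleton (f ≫ g)) ∈ K Z
    refine K.transitive hg _ ?_
    rintro T k ⟨_, l, _, ⟨⟩, hl⟩
    rw [← hl, Sieve.pullback_comp]
    apply K.pullback_stable
    refine K.superset_covering ?_ hf
    rintro W m ⟨_, n, _, ⟨⟩, hn⟩
    refine ⟨X, n, f ≫ g, ⟨⟩, ?_⟩
    rw [← hn, Category.assoc]

instance [HasPullbacks C] : (covW K).IsStableUnderBaseChange where
  of_isPullback {X Y Y' S f g f' g'} sq hg := by
    have h := K.pullback_stable f hg
    refine covW_of_mem K g' _ h ?_
    rintro Z k ⟨_, l, _, ⟨⟩, hl⟩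
    exact ⟨sq.lift l k hl, sq.lift_snd _ _ _⟩

end

section lift

variable {C : Type u} [Category.{v} C] (W : MorphismProperty C) {S : C} (τ : Dpᵒᵖ ⥤ C)
  (π : τ.obj (op .star) ⟶ S)

/-- An augmented simplicial object as a diagram over `S`. -/
@[simps]
def lift : Dpᵒᵖ ⥤ Over S where
  obj i := Over.mk (τ.map (init i.unop).op ≫ π)
  map {i j} f := Over.homMk (τ.map f) (by
    dsimp
    rw [← Category.assoc, ← τ.map_comp]
    congr 1)
  map_id i := by ext; exact τ.map_id i
  map_comp f g := by ext; exact τ.map_comp f g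

/-- Lifting of an augmented simplicial object to `Over S`. -/
abbrev lft : Dp ⥤ (Over S)ᵒᵖ := (lift τ π).rightOp

theorem str_ob_succ (n : ℕ) (i : Fin (n + 2)) :
    fc (τ.rightOp) i ≫ (pt (lft τ π) (ob n)).hom = (pt (lft τ π) (ob (n + 1))).hom :=
  Over.w (fc (lft τ π) i)

theorem str_ob_zero :
    ag (τ.rightOp) ≫ (pt (lft τ π) WithInitial.star).hom = (pt (lft τ π) (ob 0)).hom :=
  Over.w (ag (lft τ π))

theorem lhw_lift (h : LHW W τ.rightOp) : LHW W.over (lft τ π) where
  zero V e := by
    obtain ⟨V', g, hg, z, hz⟩ := h.zero e.left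
    have hz' : z ≫ ag (τ.rightOp) = g ≫ e.left := hz
    let V'' : Over S := Over.mk (g ≫ V.hom)
    refine ⟨V'', Over.homMk g, hg, Over.homMk z ?_, ?_⟩
    · rw [← str_ob_zero]
      refine (Category.assoc _ _ _).symm.trans ?_
      refine (congrArg (fun t => t ≫ _) hz').trans ?_
      refine (Category.assoc _ _ _).trans ?_
      exact congrArg (fun t => g ≫ t) (Over.w e)
    · ext
      exact hz
  one V y₀ y₁ hy := by
    obtain ⟨V', g, hg, z, hz0, hz1⟩ := h.one y₀.left y₁.left (congrArg CommaMorphism.left hy)
    have hz' : z ≫ fc (τ.rightOp) (0 : Fin 2) = g ≫ y₀.left := hz0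
    let V'' : Over S := Over.mk (g ≫ V.hom)
    refine ⟨V'', Over.homMk g, hg, Over.homMk z ?_, ?_, ?_⟩
    · rw [← str_ob_succ τ π 0 0]
      refine (Category.assoc _ _ _).symm.trans ?_
      refine (congrArg (fun t => t ≫ _) hz').trans ?_
      refine (Category.assoc _ _ _).trans ?_
      exact congrArg (fun t => g ≫ t) (Over.w y₀)
    · ext
      exact hz0
    · ext
      exact hz1
  succ n V y hy := by
    obtain ⟨V', g, hg, z, hz⟩ := h.succ (fun i => (y i).left) (fun i j hij => congrArg CommaMorphism.left (hy i j hij))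
    have hz' : z ≫ fc (τ.rightOp) (0 : Fin (n + 3)) = g ≫ (y 0).left := hz 0
    let V'' : Over S := Over.mk (g ≫ V.hom)
    refine ⟨V'', Over.homMk g, hg, Over.homMk z ?_, ?_⟩
    · rw [← str_ob_succ τ π (n + 1) 0]
      refine (Category.assoc _ _ _).symm.trans ?_
      refine (congrArg (fun t => t ≫ _) hz').trans ?_
      refine (Category.assoc _ _ _).trans ?_
      exact congrArg (fun t => g ≫ t) (Over.w (y 0))
    · intro i
      ext
      exact hz i

end lift

end K344.DescCov
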