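import Groth.Agent.FibDesc.K290.Hyp
import Mathlib.CategoryTheory.Sites.Abelian

/-!
# Exactness of the coaugmented cosimplicial group of an injective sheaf

`W` a class of morphisms of a category `C : Type (u+1)` with morphisms in `Type u`, stable under base change and
multiplicative, `K` a topology for which the morphisms in `W` are coverings.

* `ex_of_lhw`: if `σ` is an augmented simplicial object, locally fillable for `W` (`K290.Hyp.LHW`; Cech nerves of
  morphisms in `W`, `W`-hypercoverings), and `I` is an injective abelian `K`-sheaf, then the coaugmented cosimplicial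
  group `I(σ)` is exact.
-/

set_option autoImplicit false
set_option backward.isDefEq.respectTransparency false
set_option backward.isDefEq.respectTransparency.types false

universe u v w

open CategoryTheory CategoryTheory.Limits Opposite

namespace K344.DescSite

open K781.Desc K290.LocEx K290.Hyp

variable {C : Type (u + 1)} [Category.{u} C]

section

variable [HasPullbacks C] (W : MorphismProperty C) [W.IsStableUnderBaseChange] [W.IsMultiplicative]
  (K : GrothendieckTopology C)

/-- `K`-sheaves are sheaves for the topology defined by `W` on the universe lift. -/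
theorem isSheaf_topW (hK : ∀ {X T : C} (f : X ⟶ T), W f → ∀ R : Sieve T, R f → R ∈ K T)
    (P : Cᵒᵖ ⥤ AddCommGrpCat.{u + 1}) (hP : Presheaf.IsSheaf K P) :
    Presheaf.IsSheaf (topW W) ((dnF C).op ⋙ P) := by
  rw [Presheaf.isSheaf_iff_isSheaf_forget (topW W) _ (forget AddCommGrpCat.{u + 1}),
    isSheaf_iff_isSheaf_of_type]
  have hP' : Presieve.IsSheaf K (P ⋙ forget AddCommGrpCat.{u + 1}) :=
    (isSheaf_iff_isSheaf_of_type _ _).1 (Presheaf.isSheaf_comp_of_isSheaf K P (forget AddCommGrpCat.{u + 1}) hP)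
  rintro T R ⟨X, f, hf, hR⟩
  let R' : Sieve T.objDown :=
    { arrows := fun Z g => R.arrows (⟨g⟩ : ULiftHom.objUp Z ⟶ T)
      downward_closed := fun {Y Z g} hg k => R.downward_closed hg (⟨k⟩ : ULiftHom.objUp Z ⟶ ULiftHom.objUp Y) }
  intro x hx
  let x' : Presieve.FamilyOfElements (P ⋙ forget AddCommGrpCat.{u + 1}) R'.arrows := fun Z g hg => x _ hg
  have hx' : x'.Compatible := by
    intro Y₁ Y₂ Z g₁ g₂ f₁ f₂ h₁ h₂ h
    exact hx (⟨g₁⟩ : ULiftHom.objUp Z ⟶ ULiftHom.objUp Y₁) (⟨g₂⟩ : ULiftHom.objUp Z ⟶ ULiftHom.objUp Y₂) h₁ h₂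
      (ULift.ext _ _ h)
  obtain ⟨t, ht, ht'⟩ := hP' R' (hK f hf R' hR) x' hx'
  exact ⟨t, fun Z g hg => ht g.down hg, fun y hy => ht' y (fun Z g hg => hy _ hg)⟩

variable {K}

omit [HasPullbacks C] in
theorem injective_val [HasSheafify K AddCommGrpCat.{u + 1}] (I : Sheaf K AddCommGrpCat.{u + 1}) [Injective I] :
    Injective I.obj :=
  Injective.injective_of_adjoint (sheafificationAdjunction K AddCommGrpCat.{u + 1}) I

omit [HasPullbacks C] in
theorem injective_lift (P : Cᵒᵖ ⥤ AddCommGrpCat.{u + 1}) [hP : Injective P] : Injective ((dnF C).op ⋙ P) :=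
  ((ULiftHom.equiv : C ≌ ULiftHom.{u + 1} C).op.congrLeft.map_injective_iff P).2 hP

/-- Exactness for injective sheaves. -/
theorem ex_of_lhw [HasSheafify K AddCommGrpCat.{u + 1}]
    (hK : ∀ {X T : C} (f : X ⟶ T), W f → ∀ R : Sieve T, R f → R ∈ K T)
    (I : Sheaf K AddCommGrpCat.{u + 1}) [Injective I] {σ : Dp ⥤ Cᵒᵖ} (hσ : LHW W σ) : Ex (σ ⋙ I.obj) := by
  have h1 := injective_val I
  have h2 : Injective ((dnF C).op ⋙ I.obj) := injective_lift I.obj
  exact (hσ.lh).ex ((dnF C).op ⋙ I.obj) (isSheaf_topW W K hK I.obj I.property)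

end

end K344.DescSite
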