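import Groth.Agent.HTop.K344.DescSS
import Groth.Agent.HTop.K344.DescSite
import Groth.Agent.HTop.K344.DescCov
import Groth.Agent.HTop.K343.Van
import Groth.Agent.EtpbcB.GammaRpush

/-!
# The descent spectral sequence in étale cohomology

`K` a topology on schemes, finer than the étale topology, such that small étale sheaves give `K`-sheaves.  `F` an
abelian sheaf on the small étale site of `Y` such that the restriction functors `(-)|_T` from `K`-sheaves on `Y` to
small étale sheaves on `T` have `R^q (a⁻¹ F) = 0` for `q > 0` (`Acy K F`).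

* `nonempty_H_iso`: an injective resolution of `a⁻¹ F` computes the étale cohomology of all `Y`-schemes.
* `exists_ss`: the descent spectral sequence for augmented simplicial schemes over `Y` which are locally fillable for
  `K`-coverings.
* `exists_ss_cech`: the case of the Cech nerve of a `K`-covering `X ⟶ Y`.
-/

set_option autoImplicit false

universe w u

open CategoryTheory CategoryTheory.Limits AlgebraicGeometry Opposite ComplexShape

noncomputable section

namespace K344.DescEt

open Groth.Agent.Etrest Groth.Agent.Etrest.BigEtSite Groth.Agent.Etrest.BigPush K343.Basic K343.Res K343.Push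
open K781.Desc K290.LocEx K290.Hyp K344.DescSS K344.DescSite K344.DescCov
open Groth.Agent.EtpbcB.GammaRpush Groth.Agent.EtpbcB.SepClosedPoint

attribute [local instance] isGrothendieckAbelian_AbK

variable (K : GrothendieckTopology Scheme.{u}) [Good K] {Y : Scheme.{u}} [ContK K Y]

/-- `R^q (-|_T) (a⁻¹ F) = 0` for all `T` over `Y`, `q > 0`. -/
def Acy (F : EtCoh.Ab Y) : Prop :=
  ∀ (T : Scheme.{u}) (t : T ⟶ Y) (q : ℕ), 0 < q → IsZero (((uResK K t).rightDerived q).obj ((aPullK K Y).obj F))

omit [Good K] [ContK K Y] in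
variable (Y) in
/-- Sections over a `Y`-scheme. -/
abbrev secF (T : Over Y) : AbK K Y ⥤ AddCommGrpCat.{u + 1} :=
  sheafToPresheaf (K.over Y) AddCommGrpCat.{u + 1} ⋙ (evaluation _ AddCommGrpCat.{u + 1}).obj (op T)

/-- The final object of the small site. -/
def topIso {T : Scheme.{u}} (t : T ⟶ Y) : (uf t).obj (EtCoh.top T) ≅ Over.mk t :=
  Over.isoMk (Iso.refl _) (by
    change 𝟙 T ≫ t = 𝟙 T ≫ t
    rfl)

/-- Sections in terms of small étale sites. -/
def secIso {T : Scheme.{u}} (t : T ⟶ Y) : secF K Y (Over.mk t) ≅ uResK K t ⋙ Γtop T :=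
  NatIso.ofComponents (fun H => H.obj.mapIso (topIso t).op) (fun {H H'} φ => by
    exact (φ.hom.naturality (topIso t).hom.op).symm)

instance (T : Over Y) : (secF K Y T).Additive where

/-- Isomorphic objects have isomorphic sections. -/
def secCongr {T T' : Over Y} (e : T ≅ T') : secF K Y T ≅ secF K Y T' :=
  NatIso.ofComponents (fun H => H.obj.mapIso e.symm.op) (fun {H H'} φ => by
    exact (φ.hom.naturality e.inv.op).symm)

/-- An injective resolution of `a⁻¹ F` computes the étale cohomology of all `Y`-schemes. -/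
theorem nonempty_H_mk {F : EtCoh.Ab Y} (hF : Acy K F) (I : InjectiveResolution ((aPullK K Y).obj F))
    {T : Scheme.{u}} (t : T ⟶ Y) (q : ℕ) :
    Nonempty ((((secF K Y (Over.mk t)).mapHomologicalComplex (up ℕ)).obj I.cocomplex).homology q ≅
      AddCommGrpCat.of (EtCoh.H T ((EtCoh.pull t).obj F) q)) := by
  let J := RAcyc.mapResolution (uResK K t) I (fun J hJ => injective_uResK K t J)
    (fun n => RAcyc.exactAt_of_isZero_rightDerived (uResK K t) I (n + 1) (hF T t (n + 1) n.succ_pos))
  let e₁ : (((secF K Y (Over.mk t)).mapHomologicalComplex (up ℕ)).obj I.cocomplex).homology q ≅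
      (((uResK K t ⋙ Γtop T).mapHomologicalComplex (up ℕ)).obj I.cocomplex).homology q :=
    (HomologicalComplex.homologyFunctor _ _ q).mapIso
      ((NatIso.mapHomologicalComplex (secIso K t) (up ℕ)).app I.cocomplex)
  let e₂ : (((uResK K t ⋙ Γtop T).mapHomologicalComplex (up ℕ)).obj I.cocomplex).homology q ≅
      ((Γtop T).rightDerived q).obj ((uResK K t).obj ((aPullK K Y).obj F)) :=
    (J.isoRightDerivedObj (Γtop T) q).symm
  let e₃ : ((Γtop T).rightDerived q).obj ((uResK K t).obj ((aPullK K Y).obj F)) ≅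
      ((Γtop T).rightDerived q).obj ((EtCoh.pull t).obj F) :=
    ((Γtop T).rightDerived q).mapIso ((pullIsoK K t).app F)
  obtain ⟨e₄⟩ := H_rightDerived T ((EtCoh.pull t).obj F) q
  exact ⟨e₁ ≪≫ e₂ ≪≫ e₃ ≪≫ (AddEquiv.toAddCommGrpIso e₄).symm⟩

theorem nonempty_H_iso {F : EtCoh.Ab Y} (hF : Acy K F) (I : InjectiveResolution ((aPullK K Y).obj F))
    {T T' : Over Y} (e : T ≅ T') (q : ℕ) :
    Nonempty ((((secF K Y T).mapHomologicalComplex (up ℕ)).obj I.cocomplex).homology q ≅
      AddCommGrpCat.of (EtCoh.H T'.left ((EtCoh.pull T'.hom).obj F) q)) := by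
  obtain ⟨e₁⟩ := nonempty_H_mk K hF I T'.hom q
  exact ⟨(HomologicalComplex.homologyFunctor _ _ q).mapIso
      ((NatIso.mapHomologicalComplex (secCongr K e) (up ℕ)).app I.cocomplex) ≪≫ e₁⟩

theorem nonempty_H_top {F : EtCoh.Ab Y} (hF : Acy K F) (I : InjectiveResolution ((aPullK K Y).obj F))
    {T : Over Y} (e : T ≅ Over.mk (𝟙 Y)) (q : ℕ) :
    Nonempty ((((secF K Y T).mapHomologicalComplex (up ℕ)).obj I.cocomplex).homology q ≅
      AddCommGrpCat.of (EtCoh.H Y F q)) := by
  obtain ⟨e₁⟩ := nonempty_H_iso K hF I e q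
  let e₂ : EtCoh.H Y ((EtCoh.pull (𝟙 Y)).obj F) q ≃+ EtCoh.H Y F q :=
    ((Abelian.extFunctorObj _ q).mapIso ((FppfUnit.pullId Y).app F)).addCommGroupIsoToAddEquiv
  exact ⟨e₁ ≪≫ AddEquiv.toAddCommGrpIso e₂⟩

/-- The coaugmented cosimplicial complex of sections of an injective resolution. -/
abbrev cpx (σ : Dp ⥤ (Over Y)ᵒᵖ) (I : CochainComplex (AbK K Y) ℕ) :
    CochainComplex (Dp ⥤ AddCommGrpCat.{u + 1}) ℕ :=
  ((sheafToPresheaf (K.over Y) AddCommGrpCat.{u + 1} ⋙ (Functor.whiskeringLeft _ _ AddCommGrpCat.{u + 1}).obj σ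
    ).mapHomologicalComplex (up ℕ)).obj I

/-- **The descent spectral sequence** for augmented simplicial schemes over `Y` which are locally fillable for
`K`-coverings. -/
theorem exists_ss {F : EtCoh.Ab Y} (hF : Acy K F) (W : MorphismProperty (Over Y)) [W.IsStableUnderBaseChange]
    [W.IsMultiplicative] (hW : ∀ {X T : Over Y} (f : X ⟶ T), W f → covW K f.left) {σ : Dp ⥤ (Over Y)ᵒᵖ}
    (hσ : LHW W σ) (e₀ : pt σ WithInitial.star ≅ Over.mk (𝟙 Y)) (T : ℕ → Over Y)
    (e : ∀ p, Nonempty (pt σ (ob p) ≅ T p)) :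
    ∃ (E : CohomologicalSpectralSequence AddCommGrpCat.{u + 1} 1)
      (a : SpSeq.Abutment E (fun n : ℤ =>
        if 0 ≤ n then AddCommGrpCat.of (EtCoh.H Y F n.toNat) else AddCommGrpCat.of PUnit.{u + 2})),
      (∀ n, a.IsFinite n) ∧ SpSeq.IsBounded E ∧
      ∀ p q : ℤ, Nonempty ((E.page 1 le_rfl).X (p, q) ≅
        (if 0 ≤ p ∧ 0 ≤ q then
          AddCommGrpCat.of (EtCoh.H (T p.toNat).left ((EtCoh.pull (T p.toNat).hom).obj F) q.toNat)
         else AddCommGrpCat.of PUnit.{u + 2})) := by
  let I := InjectiveResolution.of ((aPullK K Y).obj F)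
  have hEx : ∀ q, Ex ((cpx K σ I.cocomplex).X q) := by
    intro q
    have : Injective (I.cocomplex.X q) := I.injective q
    refine ex_of_lhw W (K := K.over Y) ?_ (I.cocomplex.X q) hσ
    intro X T f hf R hR
    rw [GrothendieckTopology.mem_over_iff]
    apply mem_of_covW K f.left (hW f hf)
    rw [Sieve.overEquiv_iff]
    let k : Over.mk (f.left ≫ T.hom) ⟶ X := Over.homMk (𝟙 X.left) ((Category.id_comp _).trans (Over.w f).symm)
    have hk : (Over.homMk f.left : Over.mk (f.left ≫ T.hom) ⟶ T) = k ≫ f := by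
      ext
      exact (Category.id_comp _).symm
    rw [hk]
    exact R.downward_closed hR k
  exact exists_ss_nat (cpx K σ I.cocomplex) hEx (fun n => AddCommGrpCat.of (EtCoh.H Y F n))
    (fun p q => AddCommGrpCat.of (EtCoh.H (T p).left ((EtCoh.pull (T p).hom).obj F) q))
    (fun n => nonempty_H_top K hF I e₀ n)
    (fun p q => by
      obtain ⟨e'⟩ := e p
      exact nonempty_H_iso K hF I e' q)

section cech

instance {C : Type*} [Category* C] (W : MorphismProperty C) [W.IsStableUnderBaseChange] (S : C) :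
    (W.over (X := S)).IsStableUnderBaseChange where
  of_isPullback {X Y Y' T f g f' g'} sq hg := by
    have h := sq.map (Over.forget S)
    exact W.of_isPullback h hg

instance {C : Type*} [Category* C] (W : MorphismProperty C) [W.IsMultiplicative] (S : C) :
    (W.over (X := S)).IsMultiplicative where
  id_mem X := W.id_mem X.left
  comp_mem f g hf hg := W.comp_mem f.left g.left hf hg

omit [ContK K Y] in
/-- The augmented Cech nerve over `Y`. -/
abbrev sgm {X : Scheme.{u}} (f : X ⟶ Y) : Dp ⥤ (Over Y)ᵒᵖ :=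
  lft (AugmentedSimplexCategory.equivAugmentedSimplicialObject.inverse.obj (Arrow.mk f).augmentedCechNerve) (𝟙 Y)

/-- The descent spectral sequence of a `K`-covering. -/
theorem exists_ss_cech {F : EtCoh.Ab Y} (hF : Acy K F) {X : Scheme.{u}} (f : X ⟶ Y) (hf : covW K f) :
    ∃ (E : CohomologicalSpectralSequence AddCommGrpCat.{u + 1} 1)
      (a : SpSeq.Abutment E (fun n : ℤ =>
        if 0 ≤ n then AddCommGrpCat.of (EtCoh.H Y F n.toNat) else AddCommGrpCat.of PUnit.{u + 2})),
      (∀ n, a.IsFinite n) ∧ SpSeq.IsBounded E ∧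
      ∀ p q : ℤ, Nonempty ((E.page 1 le_rfl).X (p, q) ≅
        (if 0 ≤ p ∧ 0 ≤ q then
          AddCommGrpCat.of (EtCoh.H (widePullback Y (fun _ : Fin (p.toNat + 1) => X) (fun _ => f))
            ((EtCoh.pull (WidePullback.base (fun _ : Fin (p.toNat + 1) => f) :
              widePullback Y (fun _ : Fin (p.toNat + 1) => X) (fun _ => f) ⟶ Y)).obj F) q.toNat)
         else AddCommGrpCat.of PUnit.{u + 2})) := by
  have h1 : LHW (covW K) (cech f) := lhw_cech (covW K) hf
  have h2 : LHW (covW K).over (sgm f) := lhw_lift (covW K) _ (𝟙 Y) h1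
  have e0 : (AugmentedSimplexCategory.equivAugmentedSimplicialObject.inverse.obj
      (Arrow.mk f).augmentedCechNerve).map (init WithInitial.star).op = 𝟙 Y := by
    have h3 : (init WithInitial.star : (WithInitial.star : Dp) ⟶ WithInitial.star) = 𝟙 _ :=
      WithInitial.starInitial.hom_ext _ _
    rw [h3, op_id]
    exact CategoryTheory.Functor.map_id _ _
  have e1 : ∀ p : ℕ, (AugmentedSimplexCategory.equivAugmentedSimplicialObject.inverse.obj
      (Arrow.mk f).augmentedCechNerve).map (init (ob p)).op = (WidePullback.base (fun _ : Fin (p + 1) => f) :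
              widePullback Y (fun _ : Fin (p + 1) => X) (fun _ => f) ⟶ Y) := by
    intro p
    rfl
  exact exists_ss K hF (covW K).over (fun f hf => hf) h2 (Over.isoMk (Iso.refl _) (by
      refine (Category.id_comp _).trans (Eq.trans ?_ (Category.comp_id _).symm)
      exact e0.symm))
    (fun p => Over.mk (WidePullback.base (fun _ : Fin (p + 1) => f) :
              widePullback Y (fun _ : Fin (p + 1) => X) (fun _ => f) ⟶ Y))
    (fun p => ⟨Over.isoMk (Iso.refl _) (by
      refine (Category.id_comp _).trans (Eq.trans ?_ (Category.comp_id _).symm)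
      exact (e1 p).symm)⟩)

end cech

end K344.DescEt
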