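import Groth.Agent.EtDesc.K224.DC
import Groth.Agent.FibDesc.K781.Extra
import Groth.Agent.Cohder.MapExtend

/-!
# The descent spectral sequence of a coaugmented cosimplicial complex

* `exists_ss`: for a bounded below complex `A` of functors `Dp ⥤ C` (coaugmented cosimplicial complexes) satisfying
  descent (`K781.Desc.IsDesc`), there is a convergent spectral sequence `E₁^{p,q} = H^q(A([p])) ⇒ H^{p+q}(A_{-1})`.
* `exists_ss_nat`: the same for a complex in degrees `≥ 0` of abelian groups, all of whose rows are exact, in the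
  form of the statements of `EtDesc` and `CohTop`.
-/

set_option autoImplicit false
set_option backward.isDefEq.respectTransparency false
set_option backward.isDefEq.respectTransparency.types false

universe u v w

open CategoryTheory CategoryTheory.Limits HomologicalComplex₂ ComplexShape

namespace K344.DescSS

open K781.Desc Groth.Agent.Htor.H253.TotalRow

variable {C : Type u} [Category.{v} C] [Abelian C]

/-- Evaluation of a complex of coaugmented cosimplicial objects. -/
noncomputable abbrev evC {ι : Type*} (c : ComplexShape ι) (A : HomologicalComplex (Dp ⥤ C) c) (x : Dp) :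
    HomologicalComplex C c :=
  (((evaluation Dp C).obj x).mapHomologicalComplex c).obj A

/-- The natural isomorphism for the columns. -/
noncomputable def colNat (n : ℕ) (j : ℤ) (h : (n : ℤ) = j) :
    (evaluation Dp C).obj (ob n) ≅ rF C ⋙ cf C ⋙ HomologicalComplex.eval C (up ℤ) j :=
  NatIso.ofComponents (fun P => (θ ((rF C).obj P) n j h).symm) (fun {P Q} f => by
    have h1 := θ_naturality ((rF C).map f) n j h
    have h2 : (θ ((rF C).obj P) n j h).inv ≫ ((cf C).map ((rF C).map f)).f j =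
        ((rF C).map f).app (SimplexCategory.mk n) ≫ (θ ((rF C).obj Q) n j h).inv := by
      rw [Iso.inv_comp_eq, ← Category.assoc, ← h1, Category.assoc, Iso.hom_inv_id, Category.comp_id]
    exact h2.symm)

/-- The columns of the double complex. -/
noncomputable def colIso (A : CochainComplex (Dp ⥤ C) ℤ) (n : ℕ) (j : ℤ) (h : (n : ℤ) = j) :
    evC (up ℤ) A (ob n) ≅ (DC A).flip.X j :=
  (NatIso.mapHomologicalComplex (colNat n j h) (up ℤ)).app A

variable [∀ D : HomologicalComplex₂ C (up ℤ) (up ℤ), D.HasTotal (up ℤ)]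

theorem nonempty_total_iso (A : CochainComplex (Dp ⥤ C) ℤ) (hd : IsDesc A) (n : ℤ) :
    Nonempty (((DC A).flip.total (up ℤ)).homology n ≅ (evC (up ℤ) A WithInitial.star).homology n) := by
  have h1 : QuasiIso (total.map (α A) (up ℤ)) := hd
  let r := rowIso (((eF C).mapHomologicalComplex (up ℤ)).obj A)
  let e₁ : ((DC A).flip.total (up ℤ)).homology n ≅ ((DC A).total (up ℤ)).homology n :=
    (HomologicalComplex.homologyFunctor C (up ℤ) n).mapIso ((DC A).totalFlipIso (up ℤ))
  let e₂ : ((E0 A).total (up ℤ)).homology n ≅ ((DC A).total (up ℤ)).homology n :=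
    asIso (HomologicalComplex.homologyMap (total.map (α A) (up ℤ)) n)
  let e₃ : (evC (up ℤ) A WithInitial.star).homology n ≅ ((E0 A).total (up ℤ)).homology n :=
    (HomologicalComplex.homologyFunctor C (up ℤ) n).mapIso r
  exact ⟨e₁ ≪≫ e₂.symm ≪≫ e₃.symm⟩

/-- **The descent spectral sequence.** -/
theorem exists_ss (A : CochainComplex (Dp ⥤ C) ℤ) (hA : BB A) (hd : IsDesc A) (H : ℤ → C)
    (e : ∀ n, Nonempty ((evC (up ℤ) A WithInitial.star).homology n ≅ H n)) :
    ∃ (E : CohomologicalSpectralSequence C 1) (a : SpSeq.Abutment E H), (∀ n, a.IsFinite n) ∧ SpSeq.IsBounded E ∧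
      ∀ p q : ℤ, (∀ n : ℕ, (n : ℤ) = p →
        Nonempty ((E.page 1 le_rfl).X (p, q) ≅ (evC (up ℤ) A (ob n)).homology q)) ∧
        (p < 0 → IsZero ((E.page 1 le_rfl).X (p, q))) := by
  obtain ⟨a₀, ha₀⟩ := hA
  have hz : ∀ p q : ℤ, p < 0 ∨ q < a₀ → IsZero (((DC A).flip.X p).X q) := by
    intro p q hpq
    rcases hpq with hp | hq
    · exact isZero_neg _ p hp
    · exact isZero_of_isZero _ ((rF C).map_isZero (ha₀ q hq)) p
  obtain ⟨E, a, h1, h2, h3⟩ := K224.DC.exists_E₁ (DC A).flip 0 a₀ hz H (fun n => by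
    obtain ⟨e₁⟩ := nonempty_total_iso A hd n
    obtain ⟨e₂⟩ := e n
    exact ⟨e₁ ≪≫ e₂⟩)
  refine ⟨E, a, h1, h2, fun p q => ⟨fun n hn => ?_, fun hp => ?_⟩⟩
  · obtain ⟨e₁⟩ := h3 p q
    exact ⟨e₁ ≪≫ (HomologicalComplex.homologyFunctor C (up ℤ) q).mapIso (colIso A n p hn).symm⟩
  · obtain ⟨e₁⟩ := h3 p q
    refine IsZero.of_iso ?_ e₁
    exact K224.DC.isZero_homology_of_X _ _ (hz p q (Or.inl hp))

section Nat

variable (A : CochainComplex (Dp ⥤ C) ℕ) (x : Dp)

/-- The extension of a complex in degrees `≥ 0`. -/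
noncomputable abbrev ext : CochainComplex (Dp ⥤ C) ℤ := A.extend embeddingUpNat

omit [∀ D : HomologicalComplex₂ C (up ℤ) (up ℤ), D.HasTotal (up ℤ)]

/-- Homology of the extension. -/
noncomputable def extIso (n : ℕ) (j : ℤ) (h : (n : ℤ) = j) :
    (evC (up ℤ) (ext A) x).homology j ≅ (evC (up ℕ) A x).homology n :=
  (HomologicalComplex.homologyFunctor C (up ℤ) j).mapIso
      (Groth.Agent.Cohder.MapExtend.mapExtendIso ((evaluation Dp C).obj x) A embeddingUpNat) ≪≫
    HomologicalComplex.extendHomologyIso _ embeddingUpNat h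

theorem isZero_ext (j : ℤ) (h : j < 0) : IsZero ((evC (up ℤ) (ext A) x).homology j) := by
  apply K224.DC.isZero_homology_of_X
  exact ((evaluation Dp C).obj x).map_isZero (HomologicalComplex.isZero_extend_X _ embeddingUpNat j (fun i => by
    change (i : ℤ) ≠ j
    lia))

theorem bb_ext : BB (ext A) := ⟨0, fun j h => HomologicalComplex.isZero_extend_X _ embeddingUpNat j (fun i => by
    change (i : ℤ) ≠ j
    lia)⟩

theorem augExact_of_isZero (F : Dp ⥤ C) (hF : IsZero F) : AugExact F := by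
  have h1 : ∀ i, IsZero (((eF C ⋙ HomologicalComplex.single C (up ℤ) 0).obj F).X i) := fun i =>
    (HomologicalComplex.eval C (up ℤ) i).map_isZero ((eF C ⋙ HomologicalComplex.single C (up ℤ) 0).map_isZero hF)
  have h2 : ∀ i, IsZero (((rF C ⋙ cf C).obj F).X i) := fun i =>
    isZero_of_isZero _ ((rF C).map_isZero hF) i
  exact quasiIso_of_isZero _ h1 h2

theorem augExact_of_iso {F G : Dp ⥤ C} (e : F ≅ G) (h : AugExact F) : AugExact G := by
  have h' : QuasiIso ((aug C).app F) := h
  have h1 : (aug C).app G = ((eF C ⋙ HomologicalComplex.single C (up ℤ) 0).mapIso e).inv ≫ (aug C).app F ≫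
      ((rF C ⋙ cf C).mapIso e).hom := by
    rw [Functor.mapIso_inv, Functor.mapIso_hom, ← (aug C).naturality e.hom, ← Functor.map_comp_assoc, e.inv_hom_id,
      CategoryTheory.Functor.map_id, Category.id_comp]
  change QuasiIso _
  rw [h1]
  infer_instance

theorem augExact_ext (h : ∀ q, AugExact (A.X q)) (j : ℤ) : AugExact ((ext A).X j) := by
  by_cases hj : 0 ≤ j
  · obtain ⟨n, hn⟩ := Int.eq_ofNat_of_zero_le hj
    exact augExact_of_iso (A.extendXIso embeddingUpNat (i := n) hn.symm).symm (h n)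
  · exact augExact_of_isZero _ (HomologicalComplex.isZero_extend_X _ embeddingUpNat j (fun i => by
      change (i : ℤ) ≠ j
      lia))

end Nat

section Ab

variable (A : CochainComplex (Dp ⥤ AddCommGrpCat.{w}) ℕ)

/-- **The descent spectral sequence** of a coaugmented cosimplicial complex of abelian groups in degrees `≥ 0` with
exact rows, in the form of the statements. -/
theorem exists_ss_nat (h : ∀ q, Ex (A.X q)) (B : ℕ → AddCommGrpCat.{w}) (M : ℕ → ℕ → AddCommGrpCat.{w})
    (eB : ∀ n : ℕ, Nonempty ((evC (up ℕ) A WithInitial.star).homology n ≅ B n))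
    (eM : ∀ p q : ℕ, Nonempty ((evC (up ℕ) A (ob p)).homology q ≅ M p q)) :
    ∃ (E : CohomologicalSpectralSequence AddCommGrpCat.{w} 1)
      (a : SpSeq.Abutment E (fun n : ℤ => if 0 ≤ n then B n.toNat else AddCommGrpCat.of PUnit.{w + 1})),
      (∀ n, a.IsFinite n) ∧ SpSeq.IsBounded E ∧
      ∀ p q : ℤ, Nonempty ((E.page 1 le_rfl).X (p, q) ≅
        (if 0 ≤ p ∧ 0 ≤ q then M p.toNat q.toNat else AddCommGrpCat.of PUnit.{w + 1})) := by
  have hd : IsDesc (ext A) := isDesc_of_augExact (bb_ext A) (augExact_ext A fun q => augExact_of_ex (h q))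
  have hP : IsZero (AddCommGrpCat.of PUnit.{w + 1}) := AddCommGrpCat.isZero_of_subsingleton _
  obtain ⟨E, a, h1, h2, h3⟩ := exists_ss (ext A) (bb_ext A) hd
    (fun n : ℤ => if 0 ≤ n then B n.toNat else AddCommGrpCat.of PUnit.{w + 1}) (fun n => by
      by_cases hn : 0 ≤ n
      · rw [if_pos hn]
        obtain ⟨e⟩ := eB n.toNat
        exact ⟨extIso A WithInitial.star n.toNat n (Int.toNat_of_nonneg hn) ≪≫ e⟩
      · rw [if_neg hn]
        exact ⟨(isZero_ext A WithInitial.star n (not_le.1 hn)).iso hP⟩)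
  refine ⟨E, a, h1, h2, fun p q => ?_⟩
  by_cases hp : 0 ≤ p
  · obtain ⟨e₁⟩ := (h3 p q).1 p.toNat (Int.toNat_of_nonneg hp)
    by_cases hq : 0 ≤ q
    · rw [if_pos ⟨hp, hq⟩]
      obtain ⟨e⟩ := eM p.toNat q.toNat
      exact ⟨e₁ ≪≫ extIso A (ob p.toNat) q.toNat q (Int.toNat_of_nonneg hq) ≪≫ e⟩
    · rw [if_neg (fun h => hq h.2)]
      exact ⟨e₁ ≪≫ (isZero_ext A (ob p.toNat) q (not_le.1 hq)).iso hP⟩
  · rw [if_neg (fun h => hp h.1)]
    exact ⟨((h3 p q).2 (not_le.1 hp)).iso hP⟩

end Ab

end K344.DescSS
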