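import Groth.Agent.HTop.K343.Van
import Groth.Agent.HTop.K343.EtLe
import Groth.Agent.HTop.K344.DescEt

/-!
# Topologies generated by Zariski coverings and a class of surjective morphisms

`P` a class of surjective morphisms of schemes stable under base change; `GenP P K`: the topology `K` on schemes is
finer than the étale topology and generated by Zariski coverings and the one-member coverings in `P`.

* `good_of_gen`: if the morphisms in `P` satisfy base change in degree zero then small étale sheaves give `K`-sheaves.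
* `acy_of_ext`: if moreover `Ext^n (Qf f, π⁻¹ F) = 0` for all `f ∈ P` (over `Y`), then `R^q (-|_T) (a⁻¹ F) = 0`.

Adapted from `K343.GenTop` and `K343.Van` (proper surjective morphisms).
-/

set_option autoImplicit false
universe w u
open CategoryTheory CategoryTheory.Limits AlgebraicGeometry Opposite
open CategoryTheory.Abelian (Ext)

noncomputable section

namespace K344.GenP

open Groth.Agent.Etrest Groth.Agent.Etrest.BigEtSite Groth.Agent.Etrest.BigPush K343.Basic K343.Res K343.Push
open K343.BigAdj K343.ExtVan K343.Glue K343.Topo K343.GenTop K343.Van K344.DescEt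

attribute [local instance] isGrothendieckAbelian_AbK

variable (P : MorphismProperty Scheme.{u})

/-- `K` is finer than the étale topology, and generated by Zariski coverings and the morphisms in `P`. -/
class GenP (K : GrothendieckTopology Scheme.{u}) : Prop where
  le : Scheme.etaleTopology ≤ K
  surj : ∀ {V U : Scheme.{u}} (f : V ⟶ U), P f → Surjective f
  mem : ∀ {V U : Scheme.{u}} (f : V ⟶ U), P f → Sieve.generate (Presieve.singleton f) ∈ K U
  gen : ∀ L : GrothendieckTopology Scheme.{u}, Scheme.zariskiTopology ≤ L →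
    (∀ {V U : Scheme.{u}} (f : V ⟶ U), P f → Sieve.generate (Presieve.singleton f) ∈ L U) → K ≤ L

/-- Base change in degree zero for the morphisms in `P`. -/
def BC0 : Prop := ∀ {V U : Scheme.{u}} (f : V ⟶ U), P f → ∀ (F : EtCoh.Ab V) (T X' : Scheme.{u}) (t : T ⟶ U)
  (f' : X' ⟶ T) (t' : X' ⟶ V) (hp : IsPullback t' f' f t), IsIso (EtCoh.baseChange0 f t f' t' hp.w F)

section Sheaf

variable (K : GrothendieckTopology Scheme.{u}) [P.IsStableUnderBaseChange] [GenP P K] {S : Scheme.{u}}

/-- Detection of separatedness. -/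
theorem le_sepTop_of_gen (Q : (Over S)ᵒᵖ ⥤ Type w)
    (hZ : Presieve.IsSeparated (Scheme.zariskiTopology.over S) Q)
    (hP : ∀ (Y : Over S) (V : Scheme.{u}) (p : V ⟶ Y.left), P p →
      ∀ x y : Q.obj (op Y), Q.map (hm Y p).op x = Q.map (hm Y p).op y → x = y) :
    K ≤ sepTop Q := by
  apply GenP.gen (P := P) _ (le_sepTop_of_isSeparated _ _ hZ)
  intro V U f hf Y g x a b ha hb
  have h1 : ov Y ((Sieve.generate (Presieve.singleton f)).pullback g) (hm Y (pullback.snd f g)) := by
    rw [generate_pullback_iff]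
    exact ⟨𝟙 _, Category.id_comp _⟩
  apply hP Y _ (pullback.snd f g) (P.pullback_snd f g hf)
  rw [ha _ h1, hb _ h1]

/-- Detection of sheaves. -/
theorem le_shTop_of_gen (Q : (Over S)ᵒᵖ ⥤ Type w)
    (hZ : Presieve.IsSheaf (Scheme.zariskiTopology.over S) Q)
    (hP : ∀ (Y : Over S) (V : Scheme.{u}) (p : V ⟶ Y.left), P p →
      ∀ x y : Q.obj (op Y), Q.map (hm Y p).op x = Q.map (hm Y p).op y → x = y)
    (hG : ∀ (Y : Over S) (V : Scheme.{u}) (p : V ⟶ Y.left), P p →
      ∀ s : Q.obj (op (Over.mk (p ≫ Y.hom))),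
        (∀ (W : Over S) (k₁ k₂ : W ⟶ Over.mk (p ≫ Y.hom)), k₁ ≫ hm Y p = k₂ ≫ hm Y p →
          Q.map k₁.op s = Q.map k₂.op s) → ∃ a : Q.obj (op Y), Q.map (hm Y p).op a = s) :
    K ≤ shTop Q := by
  apply GenP.gen (P := P) _ (le_shTop_of_isSheaf _ _ hZ)
  intro V U f hf Y g
  let p := pullback.snd f g
  have hp : P p := P.pullback_snd f g hf
  have h0 : ∀ {Z : Over S} (l : Z ⟶ Over.mk (p ≫ Y.hom)),
      ov Y ((Sieve.generate (Presieve.singleton f)).pullback g) (l ≫ hm Y p) := by
    intro Z l
    rw [generate_pullback_iff]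
    exact ⟨l, rfl⟩
  have h1 : ov Y ((Sieve.generate (Presieve.singleton f)).pullback g) (hm Y p) := by
    rw [generate_pullback_iff]
    exact ⟨𝟙 _, Category.id_comp _⟩
  intro x hx
  have hx1 : ∀ {Z : Over S} (l : Z ⟶ Over.mk (p ≫ Y.hom)) (k : Z ⟶ Y) (hk), l ≫ hm Y p = k →
      Q.map l.op (x (hm Y p) h1) = x k hk := by
    intro Z l k hk e
    have := hx l (𝟙 Z) h1 hk (by rw [e, Category.id_comp])
    rw [this, op_id, Q.map_id]
    rfl
  obtain ⟨a, ha⟩ := hG Y _ p hp (x (hm Y p) h1) (by
    intro W k₁ k₂ e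
    rw [hx1 k₁ _ (h0 k₁) rfl, hx1 k₂ _ (h0 k₁) e.symm])
  refine ⟨a, ?_, ?_⟩
  · intro Z k hk
    obtain ⟨l, hl⟩ := (generate_pullback_iff Y f g k).1 hk
    rw [← hx1 l k hk hl, ← ha]
    have e3 : Q.map l.op (Q.map (hm Y p).op a) = Q.map (l ≫ hm Y p).op a := by
      rw [op_comp, Q.map_comp]
      rfl
    rw [e3]
    exact congrArg (fun z => Q.map (Quiver.Hom.op z) a) hl.symm
  · intro b hb
    apply hP Y _ p hp
    rw [hb _ h1, ha]

include P in
theorem le_shTop (hbc : BC0 P) (F : EtCoh.Ab S) : K ≤ shTop (tyE F) := by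
  apply le_shTop_of_gen P K
  · intro Y R hR
    apply isSheaf_tyE F
    rw [GrothendieckTopology.mem_over_iff] at hR ⊢
    exact zariski_le_etale _ hR
  · intro Y V p hp x y h
    have hs : Surjective p := GenP.surj (P := P) (K := K) p hp
    apply eq_of_jointly_surjective F
    intro z
    obtain ⟨v, hv⟩ := p.surjective z
    exact ⟨_, hm Y p, ⟨v, hv⟩, h⟩
  · intro Y V p hp s hcomp
    have hs : Surjective p := GenP.surj (P := P) (K := K) p hp
    obtain ⟨e⟩ := nonempty_iso_mapRes Y.hom F
    obtain ⟨a, ha⟩ := exists_glue p (hbc p hp)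
      ((mapResE Y.hom).obj ((aPullE S).obj F)) _ e s (by
        intro T x y
        apply hcomp ((Over.map Y.hom).obj T) ((Over.map Y.hom).map x) ((Over.map Y.hom).map y)
        ext
        have h1 : x.left ≫ p = T.hom := Over.w x
        have h2 : y.left ≫ p = T.hom := Over.w y
        exact h1.trans h2.symm)
    refine ⟨((aPullE S).obj F).obj.map (K343.GenTop.topIso Y).inv.op a, ?_⟩
    have h1 : hm Y p ≫ (K343.GenTop.topIso Y).inv = (Over.map Y.hom).map (toTop p) := by
      ext
      exact Category.comp_id _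
    exact (res_res F (K343.GenTop.topIso Y).inv (hm Y p) a).trans ((congrArg (fun k => res F k a) h1).trans ha)

include P in
/-- Small étale sheaves give `K`-sheaves. -/
theorem good_of_gen (hbc : BC0 P) : Good K where
  le := GenP.le (P := P)
  isSheaf S F := by
    rw [Presheaf.isSheaf_iff_isSheaf_forget (K.over S) _ (forget AddCommGrpCat.{u + 1}),
      isSheaf_iff_isSheaf_of_type]
    exact isSheaf_of_le_shTop K _ (le_shTop P K hbc F)

end Sheaf

variable (K : GrothendieckTopology Scheme.{u}) [Good K]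

/-- The class of sheaves satisfying descent in all degrees. -/
def Cls {X : Scheme.{u}} (G : AbK K X) : Prop :=
  ∀ (U : Scheme.{u}) (j : U ⟶ X) (V : Scheme.{u}) (f : V ⟶ U), P f → ∀ (n : ℕ)
      (x : Ext (Qf Scheme.etaleTopology f) ((mapResE j).obj ((toE K X).obj G)) n), x = 0

variable [P.IsStableUnderBaseChange] [GenP P K]

include K in
theorem isZero_of_locally_zero {X : Scheme.{u}} (E : AbE X)
    (h1 : ∀ (U : Scheme.{u}) (j : U ⟶ X) (V : Scheme.{u}) (f : V ⟶ U), P f →
      ∀ (φ : Qf Scheme.etaleTopology f ⟶ (mapResE j).obj E), φ = 0)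
    (h2 : ∀ (Y : Over X) (e : E.obj.obj (op Y)), ∃ R : Sieve Y, R ∈ K.over X Y ∧
      ∀ (Z : Over X) (k : Z ⟶ Y), R k → E.obj.map k.op e = 0) : IsZero E := by
  have hsep : K ≤ sepTop (E.obj ⋙ forget AddCommGrpCat.{u + 1}) := by
    apply le_sepTop_of_gen P K
    · have hsh : Presieve.IsSheaf (JE X) (E.obj ⋙ forget AddCommGrpCat.{u + 1}) :=
        (isSheaf_iff_isSheaf_of_type _ _).1
          (Presheaf.isSheaf_comp_of_isSheaf (JE X) E.obj (forget AddCommGrpCat.{u + 1}) E.property)
      intro Y R hR
      apply (hsh R ?_).isSeparatedFor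
      rw [GrothendieckTopology.mem_over_iff] at hR ⊢
      exact zariski_le_etale _ hR
    · intro Y V p hp x y hxy
      have h3 : ∀ z : E.obj.obj (op Y), E.obj.map (hm Y p).op z = 0 → z = 0 := by
        intro z hz
        have h4 := K343.QObj.inj_of_eq_zero (toTop p) ((mapResE Y.hom).obj E) (h1 Y.left Y.hom V p hp)
          (E.obj.map (K343.GenTop.topIso Y).hom.op z) (by
            have h5 : (Over.map Y.hom).map (toTop p) ≫ (K343.GenTop.topIso Y).hom = hm Y p := by
              ext
              exact Category.comp_id _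
            have h6 : E.obj.map ((Over.map Y.hom).map (toTop p) ≫ (K343.GenTop.topIso Y).hom).op z = 0 := by
              rw [h5]
              exact hz
            rw [op_comp, E.obj.map_comp] at h6
            exact h6)
        have h7 : z = E.obj.map (K343.GenTop.topIso Y).inv.op (E.obj.map (K343.GenTop.topIso Y).hom.op z) := by
          have h8 : E.obj.map ((K343.GenTop.topIso Y).inv ≫ (K343.GenTop.topIso Y).hom).op z = z := by
            rw [Iso.inv_hom_id, op_id, E.obj.map_id]
            rfl
          rw [op_comp, E.obj.map_comp] at h8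
          exact h8.symm
        rw [h7]
        have h9 : E.obj.map (K343.GenTop.topIso Y).hom.op z = 0 := h4
        rw [h9, map_zero]
      have h4 : ∀ x y : E.obj.obj (op Y), E.obj.map (hm Y p).op x = E.obj.map (hm Y p).op y → x = y := by
        intro x y hxy
        exact sub_eq_zero.1 (h3 (x - y) (by rw [map_sub, hxy, sub_self]))
      exact h4 x y hxy
  have hsep' := isSeparated_of_le_sepTop K _ hsep
  apply isZero_of_sections
  intro Y e
  obtain ⟨R, hR, h⟩ := h2 Y e
  refine (hsep' R hR).ext (t₁ := e) (t₂ := (0 : E.obj.obj (op Y))) ?_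
  intro Z k hk
  change E.obj.map k.op e = E.obj.map k.op 0
  rw [map_zero, h Z k hk]

theorem step {X : Scheme.{u}} (S : ShortComplex (AbK K X)) (hS : S.ShortExact) (hI : Injective S.X₂)
    (hG : Cls P K S.X₁) : Cls P K S.X₃ ∧ Epi ((toE K X).map S.g) := by
  have hS1 := hS.mono_f
  have hS3 := hS.epi_g
  have hSR : (S.map (toE K X)).Exact := by
    have h := hS.exact.map_of_mono_of_preservesKernel (toE K X) hS1 inferInstance
    exact h
  let a : (toE K X).obj S.X₁ ⟶ (toE K X).obj S.X₂ := (toE K X).map S.f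
  let b : (toE K X).obj S.X₂ ⟶ (toE K X).obj S.X₃ := (toE K X).map S.g
  have hab : a ≫ b = 0 := (S.map (toE K X)).zero
  have ha : Mono a := inferInstanceAs (Mono ((toE K X).map S.f))
  let q := cokernel.π a
  let m : cokernel a ⟶ (toE K X).obj S.X₃ := cokernel.desc a b hab
  have hqm : q ≫ m = b := cokernel.π_desc _ _ _
  have hm : Mono m := hSR.mono_cokernelDesc
  let S₁ : ShortComplex (AbE X) := ShortComplex.mk a q (cokernel.condition a)
  have hS₁ : S₁.ShortExact :=
    { exact := ShortComplex.exact_of_g_is_cokernel _ (cokernelIsCokernel a)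
      mono_f := ha
      epi_g := inferInstanceAs (Epi (cokernel.π a)) }
  let S₂ : ShortComplex (AbE X) := ShortComplex.mk m (cokernel.π m) (cokernel.condition m)
  have hS₂ : S₂.ShortExact :=
    { exact := ShortComplex.exact_of_g_is_cokernel _ (cokernelIsCokernel m)
      mono_f := hm
      epi_g := inferInstanceAs (Epi (cokernel.π m)) }
  have hc : ∀ (U : Scheme.{u}) (j : U ⟶ X) (V : Scheme.{u}) (f : V ⟶ U), P f → ∀ (n : ℕ)
      (x : Ext (Qf Scheme.etaleTopology f) ((mapResE j).obj (cokernel a)) n), x = 0 := by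
    intro U j V f hf n
    exact ext_X₃ _ (hS₁.map_of_exact (mapResE j)) n (cls_injective K S.X₂ j f (GenP.mem (P := P) f hf) n)
      (hG U j V f hf (n + 1))
  have hz : IsZero (cokernel m) := by
    apply isZero_of_locally_zero P K
    · intro U j V f hf φ
      exact hom_of_ext0 (ext_X₃ (Qf Scheme.etaleTopology f) (hS₂.map_of_exact (mapResE j)) 0
        (ext0_eq_zero (hom_eq_zero K S.X₃ j f (GenP.mem (P := P) f hf))) (hc U j V f hf 1)) φ
    · intro Y e
      -- local surjectivity of the two epimorphisms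
      have hl1 : Sheaf.IsLocallySurjective (cokernel.π m) := by
        rw [Sheaf.isLocallySurjective_iff_epi']
        infer_instance
      have hl2 : Sheaf.IsLocallySurjective S.g := by
        rw [Sheaf.isLocallySurjective_iff_epi']
        infer_instance
      have hR1 : Presheaf.imageSieve (cokernel.π m).hom e ∈ JE X Y :=
        hl1.imageSieve_mem e
      let R : Sieve Y :=
        { arrows := fun Z k => (cokernel m).obj.map k.op e = 0
          downward_closed := by
            intro Z Z' k hk l
            rw [op_comp, (cokernel m).obj.map_comp, ConcreteCategory.comp_apply, hk, map_zero] }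
      refine ⟨R, ?_, fun Z k hk => hk⟩
      refine (K.over X).transitive (le_over (K := K) X _ hR1) R ?_
      rintro Z k ⟨h, hh⟩
      have hR2 : Presheaf.imageSieve S.g.hom h ∈ K.over X Z := hl2.imageSieve_mem h
      refine (K.over X).superset_covering ?_ hR2
      rintro W l ⟨i, hi⟩
      change (cokernel m).obj.map (l ≫ k).op e = 0
      have e1 : (cokernel m).obj.map (l ≫ k).op e = (cokernel m).obj.map l.op ((cokernel m).obj.map k.op e) := by
        rw [op_comp, (cokernel m).obj.map_comp]
        rfl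
      rw [e1, ← hh]
      have e2 := ConcreteCategory.congr_hom ((cokernel.π m).hom.naturality l.op) h
      refine Eq.trans e2.symm ?_
      change (cokernel.π m).hom.app (op W) (S.X₃.obj.map l.op h) = 0
      rw [← hi]
      have e3 : b ≫ cokernel.π m = 0 := by
        rw [← hqm, Category.assoc, cokernel.condition, comp_zero]
      have e4 := congrArg (fun φ => φ.hom.app (op W)) e3
      exact ConcreteCategory.congr_hom e4 i
  have hme : Epi m := by
    apply Preadditive.epi_of_cokernel_zero
    exact hz.eq_of_tgt _ _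
  have hmi : IsIso m := isIso_of_mono_of_epi m
  refine ⟨?_, ?_⟩
  · intro U j V f hf n
    exact ext_of_iso _ ((mapResE j).map m) n (hc U j V f hf n)
  · change Epi b
    rw [← hqm]
    exact epi_comp _ _

include P in
/-- `R^q (-|_T) (a⁻¹ F) = 0` for `q > 0`. -/
theorem acy_of_ext {Y : Scheme.{u}} [ContK K Y] (F : EtCoh.Ab Y)
    (h : ∀ (U : Scheme.{u}) (j : U ⟶ Y) (V : Scheme.{u}) (f : V ⟶ U), P f → ∀ (n : ℕ)
      (x : Ext (Qf Scheme.etaleTopology f) ((aPullE U).obj ((EtCoh.pull j).obj F)) n), x = 0) : Acy K F := by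
  have hc : Cls P K ((aPullK K Y).obj F) := by
    intro U j V f hf n
    let e : (aPullE U).obj ((EtCoh.pull j).obj F) ≅ (mapResE j).obj ((toE K Y).obj ((aPullK K Y).obj F)) :=
      (pullMapIso j).app F ≪≫ (mapResE j).mapIso ((aPullIsoE K Y).app F).symm
    exact ext_of_iso _ e.hom n (h U j V f hf n)
  intro T t q hq
  refine RAcyc.isZero_rightDerived_of_class (uResK K t) (Cls P K) (fun S hS hI hG => ?_) hc q hq
  obtain ⟨h1, h2⟩ := step P K S hS hI hG
  exact ⟨h1, epi_uRes t ((toE K Y).map S.g)⟩

end K344.GenP
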