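import Groth.Agent.HTop.K344.QfFamily
import Groth.Agent.S1378
import Groth.Agent.Subtr.K835.Flatten
import Groth.Agent.Ega1.ReducedSub

/-! # Refining flat coverings and h coverings -/

set_option autoImplicit false

universe w u

open AlgebraicGeometry CategoryTheory Limits TopologicalSpace
open Groth.Agent.Flat2E Groth.Agent.EtpbcA

namespace K344.HRefine

/-- Flat surjective morphisms of finite presentation are refined by a finite surjective morphism of finite
presentation followed by a finite affine open covering. -/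
theorem exists_finite_cover_of_flat {S X : Scheme.{u}} [CompactSpace S] [QuasiSeparatedSpace S] (g : X ⟶ S)
    [Flat g] [LocallyOfFinitePresentation g] [Surjective g] :
    ∃ (Y : Scheme.{u}) (y : Y ⟶ S) (n : ℕ) (V : Fin n → Y.Opens), IsFinite y ∧ Surjective y ∧
      LocallyOfFinitePresentation y ∧ IsOpenCover V ∧ (∀ k, IsAffineOpen (V k)) ∧
      ∀ k, ∃ r : (V k : Scheme.{u}) ⟶ X, r ≫ g = (V k).ι ≫ y := by
  obtain ⟨T, π, hπ1, hπ2, hT⟩ := Groth.Agent.S1378.result g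
  obtain ⟨Y, y, n, V, h1, h2, h3, h4, h5, h6⟩ := QfCover.exists_finite_cover_of_integral π
    (PreZeroHypercover.singleton.{0} g) (fun _ => inferInstanceAs (LocallyOfFinitePresentation g)) (by
      intro t
      obtain ⟨V, r, ht, hr⟩ := hT t
      exact ⟨PUnit.unit, V, r, ht, hr⟩)
  refine ⟨Y, y, n, V, h1, h2, h3, h4, h5, fun k => ?_⟩
  obtain ⟨_, r, hr⟩ := h6 k
  exact ⟨r, hr⟩

/-- A family over `S` which after a base change `b : S' ⟶ S` is refined by a flat surjective morphism locally of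
finite presentation is refined by a finite cover of `S'` followed by a finite open covering. -/
theorem exists_finite_cover_of_flat_refinement {S S' X : Scheme.{u}} [CompactSpace S'] [QuasiSeparatedSpace S']
    (b : S' ⟶ S) (E : PreZeroHypercover.{u} S) [hE : ∀ j, LocallyOfFinitePresentation (E.f j)] (g : X ⟶ S')
    [Flat g] [LocallyOfFinitePresentation g] [Surjective g] (σ : X ⟶ ∐ E.X) (hσ : σ ≫ Sigma.desc E.f = g ≫ b) :
    ∃ (Y : Scheme.{u}) (y : Y ⟶ S') (n : ℕ) (V : Fin n → Y.Opens), IsFinite y ∧ Surjective y ∧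
      LocallyOfFinitePresentation y ∧ IsOpenCover V ∧ (∀ k, IsAffineOpen (V k)) ∧
      ∀ k, ∃ (i : E.I₀) (r : (V k : Scheme.{u}) ⟶ E.X i), r ≫ E.f i = (V k).ι ≫ y ≫ b := by
  obtain ⟨T, π, hπ1, hπ2, hT⟩ := Groth.Agent.S1378.result g
  obtain ⟨Y, y, n, V, h1, h2, h3, h4, h5, h6⟩ := QfCover.exists_finite_cover_of_integral π
    (E.pullback₁ b) (fun j => inferInstanceAs (LocallyOfFinitePresentation (pullback.fst b (E.f j)))) (by
      intro t
      obtain ⟨V, r, ht, hr⟩ := hT t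
      obtain ⟨i, V', r', ht', hr'⟩ := QfFamily.exists_factor_sigma (π ≫ b) E t ⟨V, r ≫ σ, ht, by
        rw [Category.assoc, hσ, reassoc_of% hr]⟩
      refine ⟨i, V', pullback.lift (V'.ι ≫ π) r' (by rw [Category.assoc, hr']), ht', ?_⟩
      exact pullback.lift_fst _ _ _)
  refine ⟨Y, y, n, V, h1, h2, h3, h4, h5, fun k => ?_⟩
  obtain ⟨i, r, hr⟩ := h6 k
  let r' : (V k : Scheme.{u}) ⟶ pullback b (E.f i) := r
  have hr' : r' ≫ pullback.fst b (E.f i) = (V k).ι ≫ y := hr
  refine ⟨i, r' ≫ pullback.snd b (E.f i), ?_⟩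
  rw [Category.assoc, ← pullback.condition, reassoc_of% hr']

/-- S14782, from the flat-then-proper refinement S14779. -/
theorem exists_refinement {X Y : Scheme.{u}} (f : X ⟶ Y) [CompactSpace Y] [QuasiSeparatedSpace Y]
    (H : ∃ (X' Y' : Scheme.{u}) (h : X' ⟶ X) (p : X' ⟶ Y') (q : Y' ⟶ Y), h ≫ f = p ≫ q ∧
      Flat p ∧ Surjective p ∧ LocallyOfFinitePresentation p ∧ QuasiCompact p ∧ QuasiSeparated p ∧
      IsProper q ∧ Surjective q ∧ LocallyOfFinitePresentation q) :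
    ∃ (X' Y' : Scheme.{u}) (h : X' ⟶ X) (p : X' ⟶ Y') (q : Y' ⟶ Y), h ≫ f = p ≫ q ∧
      Surjective p ∧ QuasiCompact p ∧ QuasiSeparated p ∧
      (∀ x : X', ∃ U : X'.Opens, x ∈ U ∧ IsOpenImmersion (U.ι ≫ p)) ∧
      IsProper q ∧ Surjective q ∧ LocallyOfFinitePresentation q := by
  obtain ⟨X', Y', h, p, q, e, hp1, hp2, hp3, hp4, hp5, hq1, hq2, hq3⟩ := H
  have h1 : CompactSpace Y' := QuasiCompact.compactSpace_of_compactSpace q
  have h2 : QuasiSeparatedSpace Y' := quasiSeparatedSpace_of_quasiSeparated q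
  obtain ⟨Y₁, y, n, V, h3, h4, h5, h6, h7, h8⟩ := exists_finite_cover_of_flat p
  have h9 : QuasiSeparatedSpace Y₁ := quasiSeparatedSpace_of_quasiSeparated y
  obtain ⟨X₁, k, p₁, e₁, a1, a2, a3, a4⟩ := QfCover.exists_sigma V h6 h7 y p h8
  refine ⟨X₁, Y₁, k ≫ h, p₁, y ≫ q, ?_, a1, a2, a3, a4, inferInstance, inferInstance, inferInstance⟩
  rw [Category.assoc, e, reassoc_of% e₁]

/-- the reduced closed subscheme with full support. -/
theorem exists_red (W : Scheme.{u}) : ∃ (Z : Scheme.{u}) (r : Z ⟶ W), IsClosedImmersion r ∧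
    Surjective r ∧ IsReduced Z := by
  refine ⟨(Scheme.IdealSheafData.vanishingIdeal (⊤ : Closeds W)).subscheme,
    (Scheme.IdealSheafData.vanishingIdeal (⊤ : Closeds W)).subschemeι, inferInstance, ⟨?_⟩,
    Groth.Agent.Ega1.ReducedSub.isReduced_subscheme_vanishingIdeal _⟩
  intro x
  have h : Set.range (Scheme.IdealSheafData.vanishingIdeal (⊤ : Closeds W)).subschemeι = Set.univ := by
    rw [Scheme.IdealSheafData.range_subschemeι]
    exact Scheme.IdealSheafData.coe_support_vanishingIdeal _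
  have hx : x ∈ Set.range (Scheme.IdealSheafData.vanishingIdeal (⊤ : Closeds W)).subschemeι := by
    rw [h]
    trivial
  exact hx

open Groth.Agent.Flat2C.StrictTr in
/-- S13733 -/
theorem exists_refinement_of_h {Y : Scheme.{u}} [IsNoetherian Y] (E : PreZeroHypercover.{u} Y) [Finite E.I₀]
    [∀ j, LocallyOfFiniteType (E.f j)] [∀ j, QuasiCompact (E.f j)] (hE : SGA1.UnivSubmersive (Sigma.desc E.f)) :
    ∃ (Yr Y'' Y' : Scheme.{u}) (ι : Yr ⟶ Y) (𝓘 : Yr.IdealSheafData) (b : Y'' ⟶ Yr) (q : Y' ⟶ Y'') (n : ℕ)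
      (V : Fin n → Y'.Opens), IsClosedImmersion ι ∧ Surjective ι ∧ IsReduced Yr ∧ BlowUp.IsBlowUp b 𝓘 ∧
      Surjective b ∧ IsFinite q ∧ Surjective q ∧ IsProper (q ≫ b ≫ ι) ∧ Surjective (q ≫ b ≫ ι) ∧
      ⨆ i, V i = ⊤ ∧ ∀ i, ∃ (j : E.I₀) (h : (V i : Scheme.{u}) ⟶ E.X j), h ≫ E.f j = (V i).ι ≫ q ≫ b ≫ ι := by
  have : ∀ j, CompactSpace (E.X j) := fun j => QuasiCompact.compactSpace_of_compactSpace (E.f j)
  have : CompactSpace ↥(∐ E.X) := QfFamily.compactSpace_sigma E.X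
  have hf : Subtr.UnivSSubtrusive (Sigma.desc E.f) := (K834.Tests2.univSubmersive_iff _).1 hE
  have : ∀ j, LocallyOfFinitePresentation (E.f j) := fun j => inferInstance
  have : IsLocallyNoetherian (∐ E.X) := LocallyOfFiniteType.isLocallyNoetherian (Sigma.desc E.f)
  have : QuasiSeparated (Sigma.desc E.f) := inferInstance
  obtain ⟨Yr, ι, hι1, hι2, hι3⟩ := exists_red Y
  have : CompactSpace Yr := QuasiCompact.compactSpace_of_compactSpace ι
  have : IsLocallyNoetherian Yr := LocallyOfFiniteType.isLocallyNoetherian ι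
  have : IsNoetherian Yr := {}
  let f' : pullback (Sigma.desc E.f) ι ⟶ Yr := pullback.snd _ _
  have hf' : Subtr.UnivSSubtrusive f' := K835.Basic.of_isPullback (IsPullback.of_hasPullback _ _) hf
  have hgen : IsCompact {y : Yr | K835.GenFlat.IsMaxPt y} := NoetherianSpace.isCompact _
  obtain ⟨U, 𝓘, Y'', b, -, -, -, hb, hadm, hbs, hbp, H⟩ := K835.Flatten.exists_blowUp hgen f'
  let p₁ : pullback f' b ⟶ pullback (Sigma.desc E.f) ι := pullback.fst f' b
  let p₂ : pullback f' b ⟶ Y'' := pullback.snd f' b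
  have hp : IsPullback p₁ p₂ f' b := IsPullback.of_hasPullback _ _
  let 𝒥 := killedIdeal ((𝓘.comap f').comap p₁)
  have h𝒥 : IsKilledIdeal ((𝓘.comap f').comap p₁) 𝒥 :=
    isKilledIdeal_killedIdeal (isFiniteTypeIdeal_comap (isFiniteTypeIdeal_comap hadm.1 f') p₁)
  obtain ⟨a1, a2, a3, a4⟩ := H _ p₁ p₂ hp 𝒥 h𝒥
  have a5 := K835.Flatten.surjective_strictTransform hb hadm.1 hp
    (K835.Basic.isSS (K835.Basic.of_isPullback hp hf')) h𝒥
  have hc : CompactSpace Y'' := QuasiCompact.compactSpace_of_compactSpace b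
  have hq : QuasiSeparatedSpace Y'' := quasiSeparatedSpace_of_quasiSeparated b
  obtain ⟨Y', q, n, V, h1, h2, h3, h4, h5, h6⟩ := exists_finite_cover_of_flat_refinement (b ≫ ι) E
    (𝒥.subschemeι ≫ p₂) (𝒥.subschemeι ≫ p₁ ≫ pullback.fst _ _) (by
      simp only [Category.assoc]
      rw [pullback.condition, hp.w_assoc])
  refine ⟨Yr, Y'', Y', ι, 𝓘, b, q, n, V, hι1, hι2, hι3, hb, hbs, h1, h2, inferInstance, inferInstance, h4, ?_⟩
  intro i
  obtain ⟨j, r, hr⟩ := h6 i
  exact ⟨j, r, hr⟩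

end K344.HRefine
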