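import Groth.Agent.HTop.K344.IntTop
import Groth.Agent.HTop.K344.HRefine
import Groth.Agent.S2570

/-!
# Flat and universally open surjective morphisms are coverings for the topology `Kint`
-/

set_option autoImplicit false
universe w u
open CategoryTheory CategoryTheory.Limits AlgebraicGeometry Opposite TopologicalSpace

noncomputable section

namespace K344.IntCov

open K343.Topo K344.DescCov K344.IntTop

/-- Local criterion: Zariski locally on the target, `f` has local sections after an integral surjective base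
change. -/
theorem covW_of_local {X Y : Scheme.{u}} (f : X ⟶ Y)
    (h : ∀ U : Y.Opens, IsAffineOpen U → ∃ (W : Scheme.{u}) (y : W ⟶ U), IsIntegralHom y ∧ Surjective y ∧
      ∀ w : W, ∃ (V : W.Opens) (r : (V : Scheme.{u}) ⟶ X), w ∈ V ∧ r ≫ f = V.ι ≫ y ≫ U.ι) : covW Kint f := by
  change Sieve.generate (Presieve.singleton f) ∈ Kint Y
  apply mem_of_zariski_local Kint zariski_le_Kint
  intro x
  obtain ⟨_, ⟨U, hU, rfl⟩, hx, -⟩ := Y.isBasis_affineOpens.exists_subset_of_mem_open (Set.mem_univ x) isOpen_univ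
  refine ⟨_, Scheme.Opens.ι U, inferInstance, by rwa [Scheme.Opens.range_ι], ?_⟩
  obtain ⟨W, y, h1, h2, h3⟩ := h U hU
  refine Kint.transitive (singleton_mem_Kint y ⟨h1, h2⟩) _ ?_
  rintro Z g ⟨W', k, _, ⟨⟩, rfl⟩
  rw [Sieve.pullback_comp]
  apply Kint.pullback_stable
  apply zariski_le_Kint
  rw [mem_zariski_iff]
  intro w
  obtain ⟨V, r, hw, hr⟩ := h3 w
  refine ⟨_, V.ι, ?_, inferInstance, by rwa [Scheme.Opens.range_ι]⟩
  exact ⟨X, r, f, ⟨⟩, by rw [hr, Category.assoc]⟩

/-- Flat surjective morphisms locally of finite presentation. -/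
theorem covW_of_flat {X Y : Scheme.{u}} (f : X ⟶ Y) [Flat f] [LocallyOfFinitePresentation f] [Surjective f] :
    covW Kint f := by
  apply covW_of_local
  intro U hU
  have hUaff : IsAffine (U : Scheme.{u}) := hU
  obtain ⟨W, y, n, V, h1, h2, h3, h4, h5, h6⟩ := HRefine.exists_finite_cover_of_flat (pullback.snd f U.ι)
  refine ⟨W, y, inferInstance, h2, fun w => ?_⟩
  have hw : w ∈ (⊤ : W.Opens) := trivial
  have h4' : ⨆ i, V i = ⊤ := h4
  rw [← h4', Opens.mem_iSup] at hw
  obtain ⟨k, hk⟩ := hw
  obtain ⟨r, hr⟩ := h6 k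
  refine ⟨V k, r ≫ pullback.fst f U.ι, hk, ?_⟩
  rw [Category.assoc, pullback.condition, reassoc_of% hr]

/-- Universally open surjective morphisms locally of finite type over a locally Noetherian base. -/
theorem covW_of_universallyOpen {X Y : Scheme.{u}} [IsLocallyNoetherian Y] (f : X ⟶ Y) [UniversallyOpen f]
    [LocallyOfFiniteType f] [Surjective f] : covW Kint f := by
  apply covW_of_local
  intro U hU
  have hUaff : IsAffine (U : Scheme.{u}) := hU
  have hUn : IsNoetherian (U : Scheme.{u}) := { }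
  obtain ⟨W, y, h1, h2, h3⟩ := Groth.Agent.S2570.result (pullback.snd f U.ι)
  refine ⟨W, y, inferInstance, h2, fun w => ?_⟩
  obtain ⟨V, hw, s, hs⟩ := h3 w
  refine ⟨V, s ≫ pullback.fst (pullback.snd f U.ι) y ≫ pullback.fst f U.ι, hw, ?_⟩
  rw [Category.assoc, Category.assoc, pullback.condition, pullback.condition_assoc, reassoc_of% hs]

end K344.IntCov
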