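import Groth.Agent.HTop.K344.GenP
import Groth.Agent.S0655
import Groth.Agent.S3054

/-!
# The topology generated by Zariski coverings and integral surjective morphisms

`Kint`: the topology on schemes generated by Zariski coverings and integral surjective morphisms.

* `ext_eq_zero_int`: `Ext^n (Qf f, π⁻¹ F) = 0` for `f` integral surjective and ALL abelian sheaves `F`.
* `acy_int`: `R^q (-|_T) (a⁻¹ F) = 0` for the topology `Kint`, all `F`, `q > 0`.
-/

set_option autoImplicit false
universe w u
open CategoryTheory CategoryTheory.Limits AlgebraicGeometry Opposite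
open CategoryTheory.Abelian (Ext)

noncomputable section

namespace K344.IntTop

open Groth.Agent.Etrest Groth.Agent.Etrest.BigEtSite Groth.Agent.Etrest.BigPush K343.Basic K343.Res K343.Push
open K343.BigAdj K343.ExtVan K343.Glue K343.Topo K343.GenTop K343.Van K343.EtLe K344.DescEt K344.GenP K344.DescCov

attribute [local instance] isGrothendieckAbelian_AbK

/-- Integral surjective morphisms. -/
def Pint : MorphismProperty Scheme.{u} := fun _ _ f => IsIntegralHom f ∧ Surjective f

instance : (Pint.{u}).IsStableUnderBaseChange where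
  of_isPullback {X Y Y' S f g f' g'} sq hg :=
    ⟨MorphismProperty.of_isPullback (P := @IsIntegralHom) sq hg.1,
      MorphismProperty.of_isPullback (P := @Surjective) sq hg.2⟩

/-- The topology generated by Zariski coverings and integral surjective morphisms. -/
def Kint : GrothendieckTopology Scheme.{u} :=
  sInf {L | Scheme.zariskiTopology ≤ L ∧ ∀ {V U : Scheme.{u}} (f : V ⟶ U), Pint f →
    Sieve.generate (Presieve.singleton f) ∈ L U}

theorem zariski_le_Kint : Scheme.zariskiTopology.{u} ≤ Kint.{u} := by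
  intro X S hS
  rw [Kint, GrothendieckTopology.mem_sInf]
  intro L hL
  exact hL.1 _ hS

theorem singleton_mem_Kint {V U : Scheme.{u}} (f : V ⟶ U) (hf : Pint f) :
    Sieve.generate (Presieve.singleton f) ∈ Kint.{u} U := by
  rw [Kint, GrothendieckTopology.mem_sInf]
  intro L hL
  exact hL.2 f hf

theorem Kint_le (L : GrothendieckTopology Scheme.{u}) (hZ : Scheme.zariskiTopology ≤ L)
    (h : ∀ {V U : Scheme.{u}} (f : V ⟶ U), Pint f → Sieve.generate (Presieve.singleton f) ∈ L U) : Kint ≤ L := by
  intro X S hS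
  rw [Kint, GrothendieckTopology.mem_sInf] at hS
  exact hS L ⟨hZ, h⟩

instance genP_Kint : GenP Pint.{u} Kint.{u} where
  le := etale_le _ zariski_le_Kint (fun f h1 h2 _ => singleton_mem_Kint f ⟨inferInstance, h2⟩)
  surj f hf := hf.2
  mem f hf := singleton_mem_Kint f hf
  gen L hZ hP := Kint_le L hZ hP

theorem bc0_int : BC0 Pint.{u} := by
  intro V U f hf F T X' t f' t' hp
  have := hf.1
  exact Groth.Agent.S0655.result f t f' t' hp F

instance good_Kint : Good Kint.{u} := good_of_gen Pint Kint bc0_int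

instance contK_Kint (X : Scheme.{u}) : ContK Kint.{u} X := cont_a (Good.le (K := Kint.{u})) X

section Ext

variable {U V : Scheme.{u}} (f : V ⟶ U) [IsIntegralHom f]

/-- `R^q f_{big,*} (π⁻¹ G) = 0`. -/
theorem isZero_RpushBigE (G : EtCoh.Ab V) (q : ℕ) (hq : 0 < q) :
    IsZero (((pushBigK Scheme.etaleTopology f).rightDerived q).obj
      ((aPullK Scheme.etaleTopology V).obj G)) := by
  refine isZero_RpushBig Scheme.etaleTopology f G (fun T t q hq => isZero_uResE t _ q hq) ?_ q hq
  intro T X' t f' t' hp q hq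
  have : IsIntegralHom f' := MorphismProperty.of_isPullback (P := @IsIntegralHom) hp inferInstance
  exact Groth.Agent.S3054.result f' _ q hq

/-- `Ext (Q, π⁻¹ f_* G) = 0`. -/
theorem ext_push_eq_zero (hf : Pint f) (G : EtCoh.Ab V) (n : ℕ)
    (x : Ext (Qf Scheme.etaleTopology f) ((aPullE U).obj ((EtCoh.push f).obj G)) n) : x = 0 := by
  obtain ⟨e⟩ := RAcyc.nonempty_extAddEquiv (bigAdj Scheme.etaleTopology f)
    (injective_pushBig Scheme.etaleTopology f) (isZero_RpushBigE f G) (Qf Scheme.etaleTopology f) n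
  have hz : ∀ y : Ext (Qf Scheme.etaleTopology f) ((pushBigK Scheme.etaleTopology f).obj
      ((aPullK Scheme.etaleTopology V).obj G)) n, y = 0 := by
    intro y
    apply e.injective
    rw [map_zero]
    have h1 : 𝟙 ((pullBigK Scheme.etaleTopology f).obj (Qf Scheme.etaleTopology f)) = 0 :=
      (IsZero.iff_id_eq_zero _).1 (isZero_pullBig_Qf Scheme.etaleTopology f)
    rw [← Ext.mk₀_id_comp (e y), h1, Ext.mk₀_zero, Ext.zero_comp]
  have h1 := isIso_compE f G (bc0_int f hf _)
  have h2 := hz (x.comp (Ext.mk₀ (compE f G)) (add_zero n))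
  have h3 : x = (x.comp (Ext.mk₀ (compE f G)) (add_zero n)).comp
      (Ext.mk₀ (inv (compE f G))) (add_zero n) := by
    rw [Ext.comp_assoc_of_second_deg_zero, Ext.mk₀_comp_mk₀, IsIso.hom_inv_id, Ext.comp_mk₀_id]
  rw [h3, h2, Ext.zero_comp]

/-- Cohomological descent: `Ext^n (Qf f, π⁻¹ F) = 0` for all sheaves `F`. -/
theorem ext_eq_zero_int (hf : Pint f) (n : ℕ) :
    ∀ (F : EtCoh.Ab U) (x : Ext (Qf Scheme.etaleTopology f) ((aPullE U).obj F) n), x = 0 := by
  have hs : Surjective f := hf.2
  induction n with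
  | zero =>
    intro F x
    obtain ⟨φ, rfl⟩ := (Ext.mk₀_bijective _ _).2 x
    rw [hom_Qf_eq_zero f F φ, Ext.mk₀_zero]
  | succ n ih =>
    intro F x
    let m : F ⟶ (EtCoh.push f).obj ((EtCoh.pull f).obj F) := (EtCoh.pullPushAdj f).unit.app F
    have hm : Mono m := mono_unit f F
    let S : ShortComplex (EtCoh.Ab U) := ShortComplex.mk m (cokernel.π m) (cokernel.condition m)
    have hS : S.ShortExact :=
      { exact := ShortComplex.exact_of_g_is_cokernel _ (cokernelIsCokernel m) }
    have hS' : (S.map (aPullE U)).ShortExact := hS.map_of_exact (aPullE U)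
    exact ext_eq_zero_of_shortExact (Qf Scheme.etaleTopology f) hS' n
      (fun y => ext_push_eq_zero f hf _ (n + 1) y) (fun y => ih _ y) x

end Ext

/-- `R^q (-|_T) (a⁻¹ F) = 0` for `q > 0`. -/
theorem acy_int {Y : Scheme.{u}} (F : EtCoh.Ab Y) : Acy Kint.{u} F := by
  refine acy_of_ext Pint Kint F ?_
  intro U j V f hf n x
  have := hf.1
  exact ext_eq_zero_int f hf n _ x

end K344.IntTop
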