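import Groth.Agent.HTop.K345.SheafTop
import Groth.Agent.HTop.K346.Site

/-! # The topology on schemes induced by a presheaf on schemes over `S`

For `F : (Over S)ᵒᵖ ⥤ Type w` we define the finest Grothendieck topology `top F` on `Scheme` such that `F` satisfies
the sheaf property for all sieves of `X : Over S` whose underlying sieve of `X.left` is covering.  For a sheaf for the
Zariski topology membership may be tested on affine schemes over `S`.
-/

set_option autoImplicit false
universe w w' u v₁ u₁

open CategoryTheory CategoryTheory.Limits AlgebraicGeometry HTop Opposite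

namespace K344.OverTop

section Test

variable {C : Type u₁} [Category.{v₁} C] (P : Cᵒᵖ ⥤ Type w) (Q : C → Prop)

theorem foe_congr {P : Cᵒᵖ ⥤ Type w} {X Y : C} {R : Presieve X} (x : Presieve.FamilyOfElements P R) {f g : Y ⟶ X}
    (h : f = g) (hf : R f) (hg : R g) : x f hf = x g hg := by
  subst h
  rfl

/-- The presieve of all morphisms from test objects. -/
def testPresieve (X : C) : Presieve X := fun Z => {_g : Z ⟶ X | Q Z}

/-- The sheaf property for a sieve can be tested after pullback to the test objects. -/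
theorem isSheafFor_of_test (hP : ∀ X : C, Presieve.IsSheafFor P (testPresieve Q X)) {X : C} (S : Sieve X)
    (h : ∀ (Z : C) (_ : Q Z) (g : Z ⟶ X), Presieve.IsSheafFor P (S.pullback g).arrows) :
    Presieve.IsSheafFor P S.arrows := by
  intro x hx
  -- the amalgamations over the test objects
  have hex : ∀ (Z : C) (hZ : Q Z) (g : Z ⟶ X), ∃! t : P.obj (op Z),
      (Presieve.FamilyOfElements.IsAmalgamation (x.pullback g) t) := by
    intro Z hZ g
    exact h Z hZ g (x.pullback g) (hx.pullback g)
  choose t ht htu using hex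
  -- restriction
  have hres : ∀ (Z : C) (hZ : Q Z) (g : Z ⟶ X) (Z' : C) (hZ' : Q Z') (a : Z' ⟶ Z),
      P.map a.op (t Z hZ g) = t Z' hZ' (a ≫ g) := by
    intro Z hZ g Z' hZ' a
    refine htu Z' hZ' (a ≫ g) _ ?_
    intro W b hb
    have h1 : (S.pullback g) (b ≫ a) := by
      have h2 : S (b ≫ a ≫ g) := hb
      show S ((b ≫ a) ≫ g)
      rwa [Category.assoc]
    have h2 := ht Z hZ g (b ≫ a) h1
    rw [← comp_apply, ← P.map_comp, ← op_comp, h2]
    exact foe_congr x (Category.assoc _ _ _) _ _
  let y : Presieve.FamilyOfElements P (testPresieve Q X) := fun Z g hg => t Z hg g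
  have hy : y.Compatible := by
    intro Z1 Z2 W a1 a2 g1 g2 h1 h2 e
    refine (hP W).isSeparatedFor.ext ?_
    intro V b hV
    change P.map b.op (P.map a1.op (t Z1 h1 g1)) = P.map b.op (P.map a2.op (t Z2 h2 g2))
    rw [← comp_apply, ← comp_apply, ← P.map_comp, ← P.map_comp, ← op_comp, ← op_comp,
      hres Z1 h1 g1 V hV (b ≫ a1), hres Z2 h2 g2 V hV (b ≫ a2)]
    simp only [Category.assoc, e]
  obtain ⟨s, hs, hsu⟩ := hP X y hy
  have hs' : ∀ (Z : C) (hZ : Q Z) (g : Z ⟶ X), P.map g.op s = t Z hZ g := fun Z hZ g => hs g hZ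
  refine ⟨s, ?_, ?_⟩
  · intro Y a ha
    refine (hP Y).isSeparatedFor.ext ?_
    intro V b hV
    rw [← comp_apply, ← P.map_comp, ← op_comp, hs' V hV (b ≫ a), ← hx.to_sieveCompatible a b ha]
    have h1 : (S.pullback (b ≫ a)) (𝟙 V) := by
      show S (𝟙 V ≫ b ≫ a)
      rw [Category.id_comp]
      exact S.downward_closed ha b
    have h2 := ht V hV (b ≫ a) (𝟙 V) h1
    rw [op_id, P.map_id, id_apply] at h2
    rw [h2]
    exact foe_congr x (Category.id_comp _) _ _
  · intro s' hs'
    refine hsu s' ?_
    intro Z g hZ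
    refine htu Z hZ g _ ?_
    intro W b hb
    rw [← comp_apply, ← P.map_comp, ← op_comp]
    exact hs' _ hb

end Test

variable {S : Scheme.{u}}

/-- The topology on schemes defined by a presheaf on schemes over `S`. -/
def top (F : (Over S)ᵒᵖ ⥤ Type w) : GrothendieckTopology Scheme.{u} where
  sieves T := {R | ∀ (X : Over S) (f : X.left ⟶ T),
    (Sieve.overEquiv X).symm (R.pullback f) ∈ Sheaf.finestTopologySingle F X}
  top_mem' T X f := by
    have : (Sieve.overEquiv X).symm ((⊤ : Sieve T).pullback f) = ⊤ := by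
      rw [Sieve.pullback_top, map_top]
    rw [this]
    exact (Sheaf.finestTopologySingle F).top_mem X
  pullback_stable' T T' R g hR X f := by
    rw [← Sieve.pullback_comp]
    exact hR X (f ≫ g)
  transitive' T R hR R' hR' X f := by
    refine (Sheaf.finestTopologySingle F).transitive (hR X f) _ ?_
    intro Y g hg
    rw [Sieve.overEquiv_symm_iff] at hg
    have h1 := hR' hg Y (𝟙 _)
    rw [Sieve.pullback_id, Sieve.pullback_comp, Sieve.overEquiv_symm_pullback] at h1
    exact h1

theorem mem_top_iff (F : (Over S)ᵒᵖ ⥤ Type w) {T : Scheme.{u}} (R : Sieve T) :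
    R ∈ top F T ↔ ∀ (X : Over S) (f : X.left ⟶ T),
      Presieve.IsSheafFor F ((Sieve.overEquiv X).symm (R.pullback f)).arrows := by
  constructor
  · intro h X f
    have h1 := h X f X (𝟙 X)
    rwa [Sieve.pullback_id] at h1
  · intro h X f Y g
    rw [← Sieve.overEquiv_symm_pullback, ← Sieve.pullback_comp]
    exact h Y _

theorem overEquiv_symm_generate_map {X : Over S} (R : Presieve X) (R' : Presieve X.left)
    (h : R.map (Over.forget S) = R') : (Sieve.overEquiv X).symm (Sieve.generate R') = Sieve.generate R := by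
  rw [Sieve.overEquiv_symm_generate, ← h]
  exact congrArg Sieve.generate (Presieve.functorPullback_map_overForget R)

theorem isSheafFor_of_mem_top {F : (Over S)ᵒᵖ ⥤ Type w} {X : Over S} (R : Presieve X) (R' : Presieve X.left)
    (h : R.map (Over.forget S) = R') (h' : Sieve.generate R' ∈ top F X.left) : Presieve.IsSheafFor F R := by
  rw [Presieve.isSheafFor_iff_generate]
  have h1 := (mem_top_iff F _).1 h' X (𝟙 X.left)
  rw [Sieve.pullback_id, overEquiv_symm_generate_map R _ h] at h1
  exact h1

theorem map_functorPullback {X : Over S} (R : Presieve X.left) :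
    (R.functorPullback (Over.forget S)).map (Over.forget S) = R :=
  Presieve.map_functorPullback_overForget R

/-- The sheaf property for a precoverage gives the sheaf property for the topology. -/
theorem isSheafFor_of_mem_precoverage {K : Precoverage Scheme.{u}} {F : (Over S)ᵒᵖ ⥤ Type w}
    (hF : ∀ ⦃X : Over S⦄ (R : Presieve X), R.map (Over.forget S) ∈ K X.left → Presieve.IsSheafFor F R)
    {X : Over S} {R : Presieve X.left} (hR : R ∈ K X.left) :
    Presieve.IsSheafFor F ((Sieve.overEquiv X).symm (Sieve.generate R)).arrows := by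
  rw [Sieve.overEquiv_symm_generate, ← Presieve.isSheafFor_iff_generate]
  refine hF _ ?_
  rw [map_functorPullback]
  exact hR

theorem isHCover_of_mem_zariskiPrecoverage {T : Scheme.{u}} (E : PreZeroHypercover.{w'} T)
    (h : E.presieve₀ ∈ Scheme.zariskiPrecoverage T) : IsHCover E := by
  constructor
  · intro i
    have h1 : IsOpenImmersion (E.f i) := h.2 ⟨i⟩
    infer_instance
  · exact (presieve₀_mem_vPrecoverage_iff _).1 (K345.SheafTop.zariskiPrecoverage_le_vPrecoverage T h)

theorem zariski_le_top {F : (Over S)ᵒᵖ ⥤ Type w} (hF : IsHSheafOver S F) : Scheme.zariskiTopology ≤ top F := by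
  rw [Scheme.zariskiTopology, Precoverage.toGrothendieck_le_iff_le_toPrecoverage]
  intro T R hR
  obtain ⟨E, rfl⟩ := R.exists_eq_preZeroHypercover
  change E.sieve₀ ∈ top F T
  rw [mem_top_iff]
  intro X f
  rw [← K345.SheafTop.sieve₀_pullback₁]
  refine isSheafFor_of_mem_precoverage (K := hPrecoverage) hF ?_
  rw [presieve₀_mem_hPrecoverage_iff]
  refine isHCover_of_mem_zariskiPrecoverage _ ?_
  exact (Precoverage.ZeroHypercover.pullback₁ (J := Scheme.zariskiPrecoverage) f ⟨E, hR⟩).mem₀

/-- Sieves containing an affine open cover. -/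
theorem isSheafFor_testPresieve {F : (Over S)ᵒᵖ ⥤ Type w} (hF : IsHSheafOver S F) (X : Over S) :
    Presieve.IsSheafFor F (testPresieve (fun Z : Over S => IsAffine Z.left) X) := by
  refine isSheafFor_of_mem_top _ _ rfl ?_
  refine zariski_le_top hF _ (Scheme.zariskiTopology.superset_covering ?_
    (X.left.affineCover.mem_grothendieckTopology))
  rintro Y a ⟨Z, b, _, ⟨i⟩, rfl⟩
  have h1 : IsAffine (X.left.affineCover.X i) := inferInstance
  exact ⟨_, b, _, Presieve.map.of (F := Over.forget S)
    (u := (Over.homMk (X.left.affineCover.f i) : Over.mk (X.left.affineCover.f i ≫ X.hom) ⟶ X)) h1, rfl⟩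

/-- For an h sheaf over `S`, membership in `top F` can be tested on affine schemes over `S`. -/
theorem mem_top_of_affine {F : (Over S)ᵒᵖ ⥤ Type w} (hF : IsHSheafOver S F) {T : Scheme.{u}} (R : Sieve T)
    (h : ∀ (X : Over S) (_ : IsAffine X.left) (f : X.left ⟶ T),
      Presieve.IsSheafFor F ((Sieve.overEquiv X).symm (R.pullback f)).arrows) : R ∈ top F T := by
  rw [mem_top_iff]
  intro X f
  refine isSheafFor_of_test F _ (isSheafFor_testPresieve hF) _ ?_
  intro Z hZ g
  rw [← Sieve.overEquiv_symm_pullback, ← Sieve.pullback_comp]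
  exact h Z hZ _

theorem singleton_map {X Y : Over S} (p : Y ⟶ X) :
    (Presieve.singleton p).map (Over.forget S) = Presieve.singleton p.left := by
  funext Z
  ext f
  constructor
  · rintro ⟨⟨⟩⟩
    exact ⟨⟩
  · rintro ⟨⟩
    exact Presieve.map.of (F := Over.forget S) ⟨⟩

/-- Reduction of the V sheaf property to single maps of affine schemes. -/
theorem isVSheafOver_of_singleton {F : (Over S)ᵒᵖ ⥤ Type w} (hF : IsHSheafOver S F)
    (h : ∀ (X Y : Over S) (p : Y ⟶ X), IsStandardV (PreZeroHypercover.singleton.{0} p.left) →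
      Presieve.IsSheafFor F (Presieve.singleton p)) : IsVSheafOver S F := by
  have hZ := zariski_le_top hF
  have h1 : ∀ (T V : Scheme.{u}) (p : V ⟶ T), IsStandardV (PreZeroHypercover.singleton.{0} p) →
      (PreZeroHypercover.singleton.{0} p).sieve₀ ∈ top F T := by
    intro T V p hp
    refine mem_top_of_affine hF _ ?_
    intro X _ f
    have h4 : IsStandardV (PreZeroHypercover.singleton.{0} (pullback.fst f p)) :=
      K345.SheafTop.isStandardV_pullback₁ f _ hp
    have h5 : ((PreZeroHypercover.singleton.{0} p).pullback₁ f).sieve₀ =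
        Sieve.generate (Presieve.singleton (pullback.fst f p)) :=
      K345.SheafTop.sieve₀_singleton.{0} (pullback.fst f p)
    let Y : Over S := Over.mk (pullback.fst f p ≫ X.hom)
    let q : Y ⟶ X := Over.homMk (pullback.fst f p)
    have h6 : (Sieve.overEquiv X).symm (Sieve.generate (Presieve.singleton (pullback.fst f p))) =
      Sieve.generate (Presieve.singleton q) := overEquiv_symm_generate_map (Presieve.singleton q) _ (singleton_map q)
    rw [← K345.SheafTop.sieve₀_pullback₁, h5, h6, ← Presieve.isSheafFor_iff_generate]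
    exact h X Y q h4
  have h2 : ∀ (T : Scheme.{u}) (E : PreZeroHypercover.{u} T), IsStandardV E → E.sieve₀ ∈ top F T := by
    intro T E hE
    refine K345.SheafTop.mem_of_ofArrows (h1 _ _ _ (K345.SheafTop.isStandardV_sigmaDesc.{0} E hE)) fun _ => ?_
    refine (top F).superset_covering ?_ (hZ _ (sigmaOpenCover E.X).mem_grothendieckTopology)
    rintro Y a ⟨Z, b, _, ⟨i⟩, rfl⟩
    change E.I₀ at i
    change _ ⟶ E.X i at b
    refine ⟨_, b, _, ⟨i⟩, ?_⟩
    change b ≫ E.f i = (b ≫ Sigma.ι E.X i) ≫ Sigma.desc E.f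
    rw [Category.assoc, Sigma.ι_desc]
  have h3 : ∀ (T : Scheme.{u}) (E : PreZeroHypercover.{0} T), IsStandardV E → E.sieve₀ ∈ top F T := by
    intro T E hE
    let e : ULift.{u} E.I₀ ≃ E.I₀ := Equiv.ulift
    have h4 := h2 _ _ (K345.SheafTop.isStandardV_reindex hE e)
    have h5 : (E.reindex e).sieve₀ = E.sieve₀ := congrArg Sieve.generate (PreZeroHypercover.presieve₀_reindex E e)
    rwa [h5] at h4
  intro X R hR
  let R' : Presieve X.left := R.map (Over.forget S)
  have hR' : R' ∈ vPrecoverage X.left := hR
  obtain ⟨E, hE⟩ := R'.exists_eq_preZeroHypercover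
  refine isSheafFor_of_mem_top R R' rfl ?_
  rw [hE, presieve₀_mem_vPrecoverage_iff] at hR'
  rw [hE]
  exact K345.SheafTop.mem_of_isVCover hZ h3 hR'

end K344.OverTop
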