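import Groth.Agent.HTop.K344.QfSectSch
import Groth.Agent.HTop.K346.Descend
import Groth.Agent.EtpbcA.IntLim

/-! # Descending Zariski local factorizations from an integral cover to a finite cover -/

set_option autoImplicit false

universe w u

open AlgebraicGeometry CategoryTheory Limits TopologicalSpace
open Groth.Agent.Flat2E Groth.Agent.EtpbcA

namespace K344.QfCover

/-- From an integral cover to a finite cover. -/
theorem exists_finite_cover_of_integral {S Z : Scheme.{u}} [CompactSpace S] [QuasiSeparatedSpace S] (π : Z ⟶ S)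
    [IsIntegralHom π] [Surjective π] (E : PreZeroHypercover.{w} S) (hE : ∀ i, LocallyOfFinitePresentation (E.f i))
    (h : ∀ z : Z, ∃ (i : E.I₀) (V : Z.Opens) (r : (V : Scheme.{u}) ⟶ E.X i), z ∈ V ∧ r ≫ E.f i = V.ι ≫ π) :
    ∃ (Y : Scheme.{u}) (y : Y ⟶ S) (n : ℕ) (V : Fin n → Y.Opens), IsFinite y ∧ Surjective y ∧
      LocallyOfFinitePresentation y ∧ IsOpenCover V ∧ (∀ k, IsAffineOpen (V k)) ∧
      ∀ k, ∃ (i : E.I₀) (r : (V k : Scheme.{u}) ⟶ E.X i), r ≫ E.f i = (V k).ι ≫ y := by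
  obtain ⟨J, _, _, D, c, hc, hD, ⟨e⟩⟩ := IntLim.limProp S Z π
  have hconn : IsConnected J := IsCofiltered.isConnected J
  have hpres : PreservesLimitsOfShape J (Over.forget S) :=
    inferInstanceAs (PreservesLimitsOfShape J (CostructuredArrow.proj (𝟭 Scheme.{u}) S))
  let D' : J ⥤ Scheme.{u} := D ⋙ Over.forget S
  obtain ⟨y, hy⟩ : ∃ y : ∀ j, D'.obj j ⟶ S, ∀ j, y j = (D.obj j).hom := ⟨_, fun _ => rfl⟩
  have hfin : ∀ j, IsFinite (y j) := fun j => by rw [hy]; exact (hD j).1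
  have hfp : ∀ j, LocallyOfFinitePresentation (y j) := fun j => by rw [hy]; exact (hD j).2
  let c' : Cone D' := (Over.forget S).mapCone c
  let hc' : IsLimit c' := isLimitOfPreserves (Over.forget S) hc
  have hnat : ∀ (i j : J) (a : i ⟶ j), D'.map a ≫ y j = y i ≫ 𝟙 S := by
    intro i j a
    rw [Category.comp_id, hy, hy]
    exact Over.w (D.map a)
  let t : D' ⟶ (Functor.const J).obj S := { app := y, naturality := hnat }
  let g : c'.pt ⟶ S := c.pt.hom
  let ε : c'.pt ⟶ Z := e.hom.left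
  have hε : ε ≫ π = g := Over.w e.hom
  have haff : ∀ {i j : J} (f : i ⟶ j), IsAffineHom (D'.map f) := by
    intro i j f
    have h0 : D'.map f ≫ y j = y i := (hnat _ _ f).trans (Category.comp_id _)
    have h1 : IsAffineHom (D'.map f ≫ y j) := by
      rw [h0]
      infer_instance
    exact IsAffineHom.of_comp (D'.map f) (y j)
  have hcomp : ∀ i, CompactSpace (D'.obj i) := by
    intro i
    exact QuasiCompact.compactSpace_of_compactSpace (y i)
  have hqs : ∀ i, QuasiSeparatedSpace (D'.obj i) := by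
    intro i
    exact quasiSeparatedSpace_of_quasiSeparated (y i)
  have hcpt : CompactSpace c'.pt := Scheme.compactSpace_of_isLimit D' c' hc'
  have h' : ∀ z : c'.pt, ∃ (i : E.I₀) (V : c'.pt.Opens) (r : (V : Scheme.{u}) ⟶ E.X i), z ∈ V ∧ IsAffineOpen V ∧
      r ≫ E.f i = V.ι ≫ g := by
    intro z
    obtain ⟨i, V, r, hz, hr⟩ := h (ε z)
    obtain ⟨_, ⟨W, hW, rfl⟩, hzW, hWV⟩ := c'.pt.isBasis_affineOpens.exists_subset_of_mem_open
      (show z ∈ ((ε ⁻¹ᵁ V : c'.pt.Opens) : Set c'.pt) from hz) (ε ⁻¹ᵁ V).2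
    have hWV' : W ≤ ε ⁻¹ᵁ V := hWV
    refine ⟨i, W, ε.resLE V W hWV' ≫ r, hzW, hW, ?_⟩
    rw [Category.assoc, hr, Scheme.Hom.resLE_comp_ι_assoc, hε]
  choose i V r hz hV hr using h'
  have hcov0 : IsOpenCover V := IsOpenCover.mk (eq_top_iff.2 fun z _ => Opens.mem_iSup.2 ⟨z, hz z⟩)
  obtain ⟨n, σ, hcov⟩ : ∃ (n : ℕ) (σ : Fin n → c'.pt), IsOpenCover fun k => V (σ k) := by
    obtain ⟨s, hs⟩ := isCompact_univ.elim_finite_subcover (fun z => (V z : Set c'.pt)) (fun z => (V z).2)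
      (fun z _ => Set.mem_iUnion.2 ⟨z, hz z⟩)
    refine ⟨s.card, fun k => (s.equivFin.symm k : s), IsOpenCover.mk (eq_top_iff.2 fun z _ => ?_)⟩
    obtain ⟨w, hw⟩ := Set.mem_iUnion.1 (hs (Set.mem_univ z))
    obtain ⟨hws, hw⟩ := Set.mem_iUnion.1 hw
    refine Opens.mem_iSup.2 ⟨s.equivFin ⟨w, hws⟩, ?_⟩
    change z ∈ V ((s.equivFin.symm (s.equivFin ⟨w, hws⟩) : s) : c'.pt)
    rw [Equiv.symm_apply_apply]
    exact hw
  obtain ⟨j, W, hW, hW', hr'⟩ := K346.Descend.exists_descend D' t c' hc' E hE (fun k : Fin n => V (σ k)) hcov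
    (fun k => hV _) g (fun j => (congrArg _ (hy j)).trans (Over.w (c.π.app j))) (fun k => i (σ k)) (fun k => r (σ k)) (fun k => hr _)
  refine ⟨(D.obj j).left, y j, n, W, hfin j, ?_, hfp j, hW, hW', ?_⟩
  · let p : c'.pt ⟶ (D.obj j).left := (c.π.app j).left
    have h1 : ε ≫ π = p ≫ y j := by
      rw [hε, hy]
      exact (Over.w (c.π.app j)).symm
    have h2 : IsIso ε := inferInstanceAs (IsIso ((Over.forget S).map e.hom))
    have h3 : Surjective (p ≫ y j) := by
      rw [← h1]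
      exact (MorphismProperty.cancel_left_of_respectsIso @Surjective ε π).2 inferInstance
    exact Surjective.of_comp p (y j)
  · intro k
    obtain ⟨h1, h2⟩ := hr' k
    exact ⟨_, h1, h2⟩

/-- Quasi-finite universally subtrusive morphisms of finite presentation are refined by a finite surjective
morphism of finite presentation followed by a finite affine open covering. -/
theorem exists_finite_cover_of_quasiFinite {S X : Scheme.{u}} [CompactSpace S] [QuasiSeparatedSpace S] (g : X ⟶ S)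
    [LocallyOfFinitePresentation g] [LocallyQuasiFinite g] (hg : Subtr.UnivSSubtrusive g) :
    ∃ (Y : Scheme.{u}) (y : Y ⟶ S) (n : ℕ) (V : Fin n → Y.Opens), IsFinite y ∧ Surjective y ∧
      LocallyOfFinitePresentation y ∧ IsOpenCover V ∧ (∀ k, IsAffineOpen (V k)) ∧
      ∀ k, ∃ r : (V k : Scheme.{u}) ⟶ X, r ≫ g = (V k).ι ≫ y := by
  obtain ⟨Y, y, n, V, h1, h2, h3, h4, h5, h6⟩ := exists_finite_cover_of_integral (AIC6.π S)
    (PreZeroHypercover.singleton.{0} g) (fun _ => inferInstanceAs (LocallyOfFinitePresentation g)) (by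
      intro t
      obtain ⟨V, r, ht, hr⟩ := QfSectSch.exists_local_section g hg t
      exact ⟨PUnit.unit, V, r, ht, hr⟩)
  refine ⟨Y, y, n, V, h1, h2, h3, h4, h5, fun k => ?_⟩
  obtain ⟨_, r, hr⟩ := h6 k
  exact ⟨r, hr⟩

/-- The disjoint union of a finite affine open covering. -/
theorem exists_sigma {X Y Y₀ : Scheme.{u}} [QuasiSeparatedSpace Y] {n : ℕ} (V : Fin n → Y.Opens)
    (hV : IsOpenCover V) (hVa : ∀ k, IsAffineOpen (V k)) (y : Y ⟶ Y₀) (g : X ⟶ Y₀)
    (h : ∀ k, ∃ r : (V k : Scheme.{u}) ⟶ X, r ≫ g = (V k).ι ≫ y) :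
    ∃ (X' : Scheme.{u}) (h : X' ⟶ X) (p : X' ⟶ Y), h ≫ g = p ≫ y ∧
      Surjective p ∧ QuasiCompact p ∧ QuasiSeparated p ∧
      (∀ x : X', ∃ U : X'.Opens, x ∈ U ∧ IsOpenImmersion (U.ι ≫ p)) := by
  choose r hr using h
  have : ∀ k, IsAffine (V k : Scheme.{u}) := hVa
  let p : (∐ fun k => (V k : Scheme.{u})) ⟶ Y := Sigma.desc fun k => (V k).ι
  have : IsAffine (∐ fun k => (V k : Scheme.{u})) := inferInstance
  refine ⟨∐ fun k => (V k : Scheme.{u}), Sigma.desc r, p, ?_, ⟨?_⟩, inferInstance, ?_, ?_⟩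
  · refine Sigma.hom_ext _ _ fun k => ?_
    rw [Sigma.ι_desc_assoc, Sigma.ι_desc_assoc, hr]
  · intro z
    obtain ⟨k, hk⟩ := hV.exists_mem z
    refine ⟨Sigma.ι (fun k => (V k : Scheme.{u})) k ⟨z, hk⟩, ?_⟩
    rw [← Scheme.Hom.comp_apply, Sigma.ι_desc]
    rfl
  · infer_instance
  · intro x
    obtain ⟨k, w, hw⟩ := (sigmaOpenCover fun k => (V k : Scheme.{u})).exists_eq x
    refine ⟨(Sigma.ι (fun k => (V k : Scheme.{u})) k).opensRange, ⟨w, hw⟩, ?_⟩
    have h1 : (Sigma.ι (fun k => (V k : Scheme.{u})) k).isoOpensRange.hom ≫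
        (Sigma.ι (fun k => (V k : Scheme.{u})) k).opensRange.ι ≫ p = (V k).ι := by
      rw [← Category.assoc, Scheme.Hom.isoOpensRange_hom_ι, Sigma.ι_desc]
    rw [← Iso.eq_inv_comp] at h1
    rw [h1]
    infer_instance

end K344.QfCover
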