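import Groth.Agent.HTop.K344.QfCover
import Groth.Agent.Subtr.K834.Tests2

/-! # qfh coverings -/

set_option autoImplicit false

universe w u

open AlgebraicGeometry CategoryTheory Limits TopologicalSpace
open Groth.Agent.Flat2E Groth.Agent.EtpbcA

namespace K344.QfFamily

/-- Factor a local map to a coproduct through one of the members. -/
theorem exists_factor_sigma {S T : Scheme.{u}} (π : T ⟶ S) (E : PreZeroHypercover.{u} S) (t : T)
    (h : ∃ (V : T.Opens) (r : (V : Scheme.{u}) ⟶ ∐ E.X), t ∈ V ∧ r ≫ Sigma.desc E.f = V.ι ≫ π) :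
    ∃ (i : E.I₀) (V : T.Opens) (r : (V : Scheme.{u}) ⟶ E.X i), t ∈ V ∧ r ≫ E.f i = V.ι ≫ π := by
  obtain ⟨V, r, ht, hr⟩ := h
  obtain ⟨i, w, hw⟩ := (sigmaOpenCover E.X).exists_eq (r ⟨t, ht⟩)
  let j : E.X i ⟶ ∐ E.X := Sigma.ι E.X i
  let U : V.toScheme.Opens := r ⁻¹ᵁ j.opensRange
  have htU : (⟨t, ht⟩ : V) ∈ U := ⟨w, hw⟩
  have hrange : Set.range (U.ι ≫ r) ⊆ Set.range j := by
    rintro _ ⟨x, rfl⟩
    exact x.2
  let r' : (U : Scheme.{u}) ⟶ E.X i := IsOpenImmersion.lift j (U.ι ≫ r) hrange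
  have hr' : r' ≫ j = U.ι ≫ r := IsOpenImmersion.lift_fac _ _ _
  have hj : j ≫ Sigma.desc E.f = E.f i := Sigma.ι_desc _ _
  refine ⟨i, V.ι ''ᵁ U, (V.ι.isoImage U).inv ≫ r', ⟨⟨t, ht⟩, htU, rfl⟩, ?_⟩
  rw [Category.assoc, ← hj, reassoc_of% hr', hr, Scheme.Hom.isoImage_inv_ι_assoc]

instance locallyOfFinitePresentation_sigmaDesc {S : Scheme.{u}} (E : PreZeroHypercover.{u} S)
    [∀ j, LocallyOfFinitePresentation (E.f j)] : LocallyOfFinitePresentation (Sigma.desc E.f) := by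
  rw [IsZariskiLocalAtSource.iff_of_openCover (P := @LocallyOfFinitePresentation) (sigmaOpenCover E.X)]
  intro (i : E.I₀)
  have h : (sigmaOpenCover E.X).f i ≫ Sigma.desc E.f = E.f i := Sigma.ι_desc _ _
  rw [h]
  exact ‹∀ j, LocallyOfFinitePresentation (E.f j)› i

instance locallyQuasiFinite_sigmaDesc {S : Scheme.{u}} (E : PreZeroHypercover.{u} S)
    [∀ j, LocallyQuasiFinite (E.f j)] : LocallyQuasiFinite (Sigma.desc E.f) := by
  rw [IsZariskiLocalAtSource.iff_of_openCover (P := @LocallyQuasiFinite) (sigmaOpenCover E.X)]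
  intro (i : E.I₀)
  have h : (sigmaOpenCover E.X).f i ≫ Sigma.desc E.f = E.f i := Sigma.ι_desc _ _
  rw [h]
  exact ‹∀ j, LocallyQuasiFinite (E.f j)› i

theorem compactSpace_sigma {ι : Type u} [Finite ι] (X : ι → Scheme.{u}) [h : ∀ j, CompactSpace (X j)] :
    CompactSpace ↥(∐ X) := by
  have : Finite (sigmaOpenCover X).I₀ := inferInstanceAs (Finite ι)
  have : ∀ j, CompactSpace ((sigmaOpenCover X).X j) := h
  exact (sigmaOpenCover X).compactSpace

/-- Universally subtrusive families of quasi-finite morphisms of finite presentation. -/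
theorem exists_finite_cover {S : Scheme.{u}} [CompactSpace S] [QuasiSeparatedSpace S] (E : PreZeroHypercover.{u} S)
    [∀ j, LocallyOfFinitePresentation (E.f j)] [∀ j, LocallyQuasiFinite (E.f j)]
    (hE : Subtr.UnivSSubtrusive (Sigma.desc E.f)) :
    ∃ (Y : Scheme.{u}) (y : Y ⟶ S) (n : ℕ) (V : Fin n → Y.Opens), IsFinite y ∧ Surjective y ∧
      LocallyOfFinitePresentation y ∧ IsOpenCover V ∧ (∀ k, IsAffineOpen (V k)) ∧
      ∀ k, ∃ (i : E.I₀) (r : (V k : Scheme.{u}) ⟶ E.X i), r ≫ E.f i = (V k).ι ≫ y :=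
  QfCover.exists_finite_cover_of_integral (AIC6.π S) E inferInstance fun t =>
    exists_factor_sigma _ E t (QfSectSch.exists_local_section _ hE t)

/-- S13732 -/
theorem exists_finite_cover_of_qfh {Y : Scheme.{u}} [IsNoetherian Y] (E : PreZeroHypercover.{u} Y) [Finite E.I₀]
    [∀ j, LocallyOfFiniteType (E.f j)] [∀ j, QuasiCompact (E.f j)] [∀ j, LocallyQuasiFinite (E.f j)]
    (hE : SGA1.UnivSubmersive (Sigma.desc E.f)) :
    ∃ (Y' : Scheme.{u}) (p : Y' ⟶ Y) (n : ℕ) (V : Fin n → Y'.Opens), IsFinite p ∧ Surjective p ∧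
      IsOpenCover V ∧ (∀ k, IsAffineOpen (V k)) ∧
      ∀ i, ∃ (j : E.I₀) (h : (V i : Scheme.{u}) ⟶ E.X j), h ≫ E.f j = (V i).ι ≫ p := by
  have : ∀ j, CompactSpace (E.X j) := fun j => QuasiCompact.compactSpace_of_compactSpace (E.f j)
  have : CompactSpace ↥(∐ E.X) := compactSpace_sigma E.X
  have h1 : Subtr.UnivSSubtrusive (Sigma.desc E.f) := (K834.Tests2.univSubmersive_iff _).1 hE
  have : ∀ j, LocallyOfFinitePresentation (E.f j) := fun j => inferInstance
  obtain ⟨Y', y, n, V, h1, h2, h3, h4, h5, h6⟩ := exists_finite_cover E h1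
  exact ⟨Y', y, n, V, h1, h2, h4, h5, h6⟩

end K344.QfFamily
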