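import Groth.Agent.Flat2E.AIC3
import Groth.Agent.Flat2E.AIC1
import Mathlib.RingTheory.ZariskisMainTheorem

/-! # Quasi-finite algebras have local sections over AIC rings whose local rings are domains -/

set_option autoImplicit false

universe u v w

open Groth.Agent.Flat2E.AIC1 Groth.Agent.Flat2E Polynomial

namespace K344.QfSect

/-- an element of a domain which is integral over an AIC ring comes from the ring -/
theorem exists_algebraMap_eq_of_isIntegral {B : Type u} {C : Type v} [CommRing B] [CommRing C] [IsDomain C]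
    [Algebra B C] (h : IsAIC B) {x : C} (hx : IsIntegral B x) : ∃ b, algebraMap B C b = x := by
  obtain ⟨p, hp, hpx⟩ := hx
  obtain ⟨s, rfl⟩ := h.splits p hp
  rw [← aeval_def, map_multiset_prod, Multiset.prod_eq_zero_iff, Multiset.mem_map] at hpx
  obtain ⟨q, hq, hqx⟩ := hpx
  rw [Multiset.mem_map] at hq
  obtain ⟨a, -, rfl⟩ := hq
  rw [aeval_sub, aeval_X, aeval_C, sub_eq_zero] at hqx
  exact ⟨a, hqx.symm⟩

theorem exists_algHom_of_quasiFiniteAt {B : Type u} {E : Type u} [CommRing B] [CommRing E] [Algebra B E]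
    (h : IsAIC B) (q : Ideal B) [q.IsPrime] [IsDomain (Localization.AtPrime q)]
    [Algebra.FinitePresentation B E] (Q Q₀ : Ideal E) [Q.IsPrime] [Q₀.IsPrime] (hle : Q₀ ≤ Q)
    (hQ : Q.under B = q)
    (hQ₀ : ∀ b, algebraMap B E b ∈ Q₀ → algebraMap B (Localization.AtPrime q) b = 0)
    [Algebra.QuasiFiniteAt B Q] :
    ∃ b ∉ q, Nonempty (E →ₐ[B] Localization.Away b) := by
  have : Algebra.FiniteType B E := inferInstance
  obtain ⟨r, hrQ, hr, hx⟩ := Algebra.zariskisMainProperty_iff.1
    (Algebra.ZariskisMainProperty.of_finiteType (R := B) (S := E) Q)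
  let C := E ⧸ Q₀
  let M : Submonoid C := Algebra.algebraMapSubmonoid C q.primeCompl
  let L := Localization M
  have hmem : ∀ b : B, algebraMap B C b = 0 ↔ algebraMap B E b ∈ Q₀ := by
    intro b
    rw [IsScalarTower.algebraMap_apply B E C]
    exact Ideal.Quotient.eq_zero_iff_mem
  have hM : ∀ m ∈ M, m ≠ 0 := by
    rintro _ ⟨b, hb, rfl⟩ h0
    refine hb ?_
    have h1 := (hmem b).1 h0
    rw [← hQ]
    exact hle h1
  have hu : ∀ y : q.primeCompl, IsUnit (Algebra.ofId B L (y : B)) := by
    intro y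
    change IsUnit (algebraMap B L y)
    rw [IsScalarTower.algebraMap_apply B C L]
    exact IsLocalization.map_units L (⟨algebraMap B C y, ⟨y, y.2, rfl⟩⟩ : M)
  let j : Localization.AtPrime q →ₐ[B] L := IsLocalization.liftAlgHom (M := q.primeCompl) (f := Algebra.ofId B L) hu
  have hinj : Function.Injective j := by
    rw [injective_iff_map_eq_zero]
    intro x hx0
    obtain ⟨⟨b, s⟩, hb⟩ := IsLocalization.surj q.primeCompl x
    have h1 : algebraMap B L b = 0 := by
      rw [← j.commutes b, ← hb, map_mul, hx0, zero_mul]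
    rw [IsScalarTower.algebraMap_apply B C L, IsLocalization.map_eq_zero_iff M] at h1
    obtain ⟨m, hm⟩ := h1
    have h2 : algebraMap B C b = 0 := by
      rcases mul_eq_zero.1 hm with h3 | h3
      · exact absurd h3 (hM _ m.2)
      · exact h3
    have h3 := hQ₀ b ((hmem b).1 h2)
    rw [h3] at hb
    have h4 : IsUnit (algebraMap B (Localization.AtPrime q) s) := IsLocalization.map_units _ s
    exact (h4.mul_left_eq_zero).1 hb
  have hint : ∀ x : E, IsIntegral B x → ∃ b : B, algebraMap B C b = Ideal.Quotient.mk Q₀ x := by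
    intro x hx
    exact exists_algebraMap_eq_of_isIntegral h (hx.map (Ideal.Quotient.mkₐ B Q₀))
  have hrange : ∀ x : E, ∃ y : Localization.AtPrime q, j y = algebraMap C L (Ideal.Quotient.mk Q₀ x) := by
    intro x
    obtain ⟨β, hβ⟩ := hint r hr
    obtain ⟨n, hn⟩ := hx x
    obtain ⟨γ, hγ⟩ := hint _ hn
    have hβq : β ∉ q := by
      intro hβq
      refine hrQ ?_
      have h1 : algebraMap B E β ∈ Q := by
        rw [← hQ] at hβq
        exact hβq
      have h2 : r - algebraMap B E β ∈ Q₀ := by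
        rw [← Ideal.Quotient.eq_zero_iff_mem, map_sub, ← hβ, sub_eq_zero]
        rfl
      have h3 := Q.add_mem (hle h2) h1
      rwa [sub_add_cancel] at h3
    have hβu : IsUnit (algebraMap B (Localization.AtPrime q) β) :=
      IsLocalization.map_units _ (⟨β, hβq⟩ : q.primeCompl)
    obtain ⟨v, hv⟩ := hβu
    refine ⟨algebraMap B _ γ * ((v⁻¹ : (Localization.AtPrime q)ˣ) : Localization.AtPrime q) ^ n, ?_⟩
    have h5 : j (((v⁻¹ : (Localization.AtPrime q)ˣ) : Localization.AtPrime q) ^ n) * algebraMap B L β ^ n = 1 := by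
      rw [← j.commutes β, ← map_pow, ← map_mul, ← hv, ← mul_pow, Units.inv_mul, one_pow, map_one]
    have h6 : algebraMap B L γ = algebraMap B L β ^ n * algebraMap C L (Ideal.Quotient.mk Q₀ x) := by
      rw [IsScalarTower.algebraMap_apply B C L γ, IsScalarTower.algebraMap_apply B C L β, hγ, hβ, map_mul, map_mul,
        map_pow, map_pow]
    rw [map_mul, j.commutes, h6, mul_right_comm, mul_comm (algebraMap B L β ^ n), h5, one_mul]
  have hsurj : Function.Surjective j := by
    intro y
    obtain ⟨⟨c, m⟩, hc⟩ := IsLocalization.surj M y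
    obtain ⟨x, rfl⟩ := Ideal.Quotient.mk_surjective c
    obtain ⟨z, hz⟩ := hrange x
    obtain ⟨_, s, hs, rfl⟩ := m
    have hsu : IsUnit (algebraMap B (Localization.AtPrime q) s) :=
      IsLocalization.map_units _ (⟨s, hs⟩ : q.primeCompl)
    obtain ⟨v, hv⟩ := hsu
    refine ⟨z * ((v⁻¹ : (Localization.AtPrime q)ˣ) : Localization.AtPrime q), ?_⟩
    have h1 : y * algebraMap B L s = j z := by
      rw [hz, ← hc, IsScalarTower.algebraMap_apply B C L s]
    rw [map_mul, ← h1, ← j.commutes s, ← hv, mul_assoc, ← map_mul, Units.mul_inv, map_one, mul_one]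
  let e : Localization.AtPrime q ≃ₐ[B] L := AlgEquiv.ofBijective j ⟨hinj, hsurj⟩
  let φ : E →ₐ[B] L := (IsScalarTower.toAlgHom B C L).comp (Ideal.Quotient.mkₐ B Q₀)
  exact AIC3.exists_algHom_away q (e.symm.toAlgHom.comp φ)

end K344.QfSect
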