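import Groth.Agent.HTop.K344.QfSect
import Groth.Agent.Flat2E.AIC7
import Groth.Agent.Subtr.K835.Basic
import Mathlib.AlgebraicGeometry.Morphisms.QuasiFinite

/-! # Quasi-finite universally subtrusive morphisms have Zariski local sections over an integral cover -/

set_option autoImplicit false

universe u

open AlgebraicGeometry CategoryTheory Limits
open Groth.Agent.Flat2E.AIC1 Groth.Agent.Flat2E

namespace K344.QfSectSch

theorem exists_section_of_quasiFinite {R : Type u} [CommRing R] (h : IsAIC R) (q : Spec (.of R))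
    [IsDomain (Localization.AtPrime q.asIdeal)] {E : Scheme.{u}} (e : E ⟶ Spec (.of R))
    [LocallyOfFinitePresentation e] [LocallyQuasiFinite e] (x x₀ : E) (hx : e x = q) (hx₀ : x₀ ⤳ x)
    (h0 : ∀ b ∈ (e x₀).asIdeal, algebraMap R (Localization.AtPrime q.asIdeal) b = 0) :
    ∃ (c : R) (σ : Spec (.of (Localization.Away c)) ⟶ E), c ∉ q.asIdeal ∧
      σ ≫ e = Spec.map (CommRingCat.ofHom (algebraMap R (Localization.Away c))) := by
  obtain ⟨_, ⟨U, hU, rfl⟩, hxU, -⟩ := E.isBasis_affineOpens.exists_subset_of_mem_open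
    (Set.mem_univ x) isOpen_univ
  have hx₀U : x₀ ∈ U := hx₀.mem_open U.2 hxU
  obtain ⟨φ, hφ⟩ := Spec.map_surjective (hU.fromSpec ≫ e)
  have hfp : φ.hom.FinitePresentation := by
    have : LocallyOfFinitePresentation (Spec.map φ) := by rw [hφ]; infer_instance
    exact (HasRingHomProperty.Spec_iff (P := @LocallyOfFinitePresentation)).1 this
  have hqf : φ.hom.QuasiFinite := by
    have : LocallyQuasiFinite (Spec.map φ) := by rw [hφ]; infer_instance
    exact (HasRingHomProperty.Spec_iff (P := @LocallyQuasiFinite)).1 this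
  algebraize [φ.hom]
  let Q := hU.primeIdealOf ⟨x, hxU⟩
  let Q₀ := hU.primeIdealOf ⟨x₀, hx₀U⟩
  have hQ : hU.fromSpec Q = x := hU.fromSpec_primeIdealOf ⟨x, hxU⟩
  have hQ₀ : hU.fromSpec Q₀ = x₀ := hU.fromSpec_primeIdealOf ⟨x₀, hx₀U⟩
  have hQ2 : Spec.map φ Q = q := by
    rw [hφ, Scheme.Hom.comp_apply, hQ, hx]
  have hQ₀2 : Spec.map φ Q₀ = e x₀ := by
    rw [hφ, Scheme.Hom.comp_apply, hQ₀]
  have hle : Q₀.asIdeal ≤ Q.asIdeal := by
    rw [PrimeSpectrum.asIdeal_le_asIdeal, PrimeSpectrum.le_iff_specializes]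
    refine hU.fromSpec.isOpenEmbedding.isInducing.specializes_iff.1 ?_
    rw [hQ, hQ₀]
    exact hx₀
  obtain ⟨c, hc, ⟨ψ⟩⟩ := QfSect.exists_algHom_of_quasiFiniteAt (B := R) (E := Γ(E, U)) h q.asIdeal Q.asIdeal
    Q₀.asIdeal hle (by rw [← hQ2]; rfl) (by
      intro b hb
      refine h0 b ?_
      rw [← hQ₀2]
      exact hb)
  refine ⟨c, Spec.map (CommRingCat.ofHom ψ.toRingHom) ≫ hU.fromSpec, hc, ?_⟩
  rw [Category.assoc, ← hφ, ← Spec.map_comp]
  congr 1
  ext x
  exact ψ.commutes x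

/-- Zariski local sections over the integral cover `AIC6.T S`. -/
theorem exists_local_section {S X : Scheme.{u}} (g : X ⟶ S) [LocallyOfFinitePresentation g] [LocallyQuasiFinite g]
    (hg : Subtr.UnivSSubtrusive g) (t : AIC6.T S) :
    ∃ (V : (AIC6.T S).Opens) (r : (V : Scheme.{u}) ⟶ X), t ∈ V ∧ r ≫ g = V.ι ≫ AIC6.π S := by
  obtain ⟨U, q, hq⟩ := AIC6.exists_chart S t
  have hR : IsAIC (AIC6.BR S U.1) := AIC7.isAIC_BR S U.1
  have hD : IsDomain (Localization.AtPrime q.asIdeal) := AIC7.isDomain_BR S U.1 q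
  set j := AIC6.chartι S U
  let e := pullback.snd g (j ≫ AIC6.π S)
  have he : Subtr.IsSSubtrusive e := K835.Basic.isSS (K835.Basic.of_isPullback (IsPullback.of_hasPullback _ _) hg)
  -- the generic point of the local ring
  let η : PrimeSpectrum (AIC6.BR S U.1) := ⟨RingHom.ker (algebraMap _ (Localization.AtPrime q.asIdeal)), RingHom.ker_isPrime _⟩
  let η' : Spec (.of (AIC6.BR S U.1)) := η
  have hη : η' ⤳ q := by
    refine (PrimeSpectrum.le_iff_specializes _ _).1 ?_
    change RingHom.ker (algebraMap _ (Localization.AtPrime q.asIdeal)) ≤ q.asIdeal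
    intro b hb
    by_contra hbq
    have h1 : IsUnit (algebraMap (AIC6.BR S U.1) (Localization.AtPrime q.asIdeal) b) :=
      IsLocalization.map_units _ (⟨b, hbq⟩ : q.asIdeal.primeCompl)
    rw [RingHom.mem_ker] at hb
    rw [hb] at h1
    exact not_isUnit_zero h1
  obtain ⟨x, x₀, hx, hx', hx₀'⟩ := he hη
  obtain ⟨c, σ, hc, hσ⟩ := exists_section_of_quasiFinite hR q e x x₀ hx' hx (by
    intro b hb
    rw [hx₀'] at hb
    exact hb)
  let τ := σ ≫ pullback.fst g (j ≫ AIC6.π S)
  let j₂ := Spec.map (CommRingCat.ofHom (algebraMap (AIC6.BR S U.1) (Localization.Away c))) ≫ j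
  have hτ : τ ≫ g = j₂ ≫ AIC6.π S := by
    simp only [τ, j₂, Category.assoc]
    rw [pullback.condition, reassoc_of% hσ]
  have hj₂ : IsOpenImmersion j₂ := by
    have h1 : IsOpenImmersion (Spec.map (CommRingCat.ofHom (algebraMap (AIC6.BR S U.1) (Localization.Away c)))) :=
      IsOpenImmersion.of_isLocalization c
    infer_instance
  have hmem : q ∈ Set.range (PrimeSpectrum.comap (algebraMap (AIC6.BR S U.1) (Localization.Away c))) := by
    rw [PrimeSpectrum.localization_away_comap_range (Localization.Away c) c]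
    exact hc
  obtain ⟨q', hq'⟩ := hmem
  let q'' : Spec (.of (Localization.Away c)) := q'
  have hq'' : j₂ q'' = t := by
    rw [← hq]
    simp only [j₂, Scheme.Hom.comp_apply]
    congr 1
  obtain ⟨V, r', hV, hr'⟩ := AIC7.exists_open_of_openImmersion j₂ (AIC6.π S) g q'' ⊤ trivial
    ((⊤ : (Spec (.of (Localization.Away c))).Opens).ι ≫ τ) (by rw [Category.assoc, hτ])
  exact ⟨V, r', hq'' ▸ hV, hr'⟩

end K344.QfSectSch
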