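import Groth.Prelude.Def_HTop2
import Groth.Agent.FlatA.UnivHomeo
import Mathlib.RingTheory.LocalRing.ResidueField.Instances
import Mathlib.FieldTheory.IsAlgClosed.Basic
import Mathlib.FieldTheory.IsAlgClosed.AlgebraicClosure

/-! # Ring maps inducing universal homeomorphisms -/

set_option autoImplicit false
universe u

open CategoryTheory AlgebraicGeometry

namespace K344.UH

/-- A ring-theoretic form of "Spec is a universal homeomorphism". -/
structure IsUH {A B : Type u} [CommRing A] [CommRing B] (φ : A →+* B) : Prop where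
  isIntegral : φ.IsIntegral
  ker_le : RingHom.ker φ ≤ nilradical A
  eq_of_comp_eq : ∀ (K : Type u) [Field K] (g₁ g₂ : B →+* K), g₁.comp φ = g₂.comp φ → g₁ = g₂

variable {A B C : Type u} [CommRing A] [CommRing B] [CommRing C]

lemma surjective_comap_of (φ : A →+* B) (hint : φ.IsIntegral) (hker : RingHom.ker φ ≤ nilradical A) :
    Function.Surjective (PrimeSpectrum.comap φ) := by
  have h4 : φ.kerLift.IsIntegral := by
    intro x
    obtain ⟨q, hq, hq'⟩ := hint x
    refine ⟨q.map (Ideal.Quotient.mk _), hq.map _, ?_⟩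
    rw [Polynomial.eval₂_map]
    exact hq'
  exact (PrimeSpectrum.comap_quotientMk_bijective_of_le_nilradical hker).2.comp <|
    h4.comap_surjective φ.kerLift_injective

/-- `Spec φ` is a universal homeomorphism iff `φ` is integral with nil kernel and field valued points of
the target are determined by their restriction. -/
theorem isUnivHomeo_Spec_iff (φ : A →+* B) :
    FlatMor.IsUnivHomeo (Spec.map (CommRingCat.ofHom φ)) ↔ IsUH φ := by
  rw [Groth.Agent.FlatA.UnivHomeo.isUnivHomeo_iff, IsIntegralHom.SpecMap_iff]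
  have hui : UniversallyInjective (Spec.map (CommRingCat.ofHom φ)) ↔
      ∀ (K : Type u) [Field K] (g₁ g₂ : B →+* K), g₁.comp φ = g₂.comp φ → g₁ = g₂ := by
    have h2 : UniversallyInjective (Spec.map (CommRingCat.ofHom φ)) ↔
        ∀ (K : Type u) [Field K], Function.Injective
          (fun g : Spec (.of K) ⟶ Spec (.of B) ↦ g ≫ Spec.map (CommRingCat.ofHom φ)) :=
      (tfae_universallyInjective (Spec.map (CommRingCat.ofHom φ))).out 0 1
    rw [h2]
    constructor
    · intro h K _ g₁ g₂ h12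
      have h3 : Spec.map (CommRingCat.ofHom g₁) = Spec.map (CommRingCat.ofHom g₂) := by
        apply h K
        show Spec.map (CommRingCat.ofHom g₁) ≫ Spec.map (CommRingCat.ofHom φ) =
          Spec.map (CommRingCat.ofHom g₂) ≫ Spec.map (CommRingCat.ofHom φ)
        rw [← Spec.map_comp, ← Spec.map_comp, ← CommRingCat.ofHom_comp, ← CommRingCat.ofHom_comp]
        exact congrArg _ (congrArg _ h12)
      exact congrArg CommRingCat.Hom.hom (Spec.map_injective h3)
    · intro hK K _ g₁ g₂ h12
      obtain ⟨g₁, rfl⟩ := Spec.map_surjective g₁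
      obtain ⟨g₂, rfl⟩ := Spec.map_surjective g₂
      congr 1
      dsimp only at h12
      rw [← Spec.map_comp, ← Spec.map_comp] at h12
      have h4 := hK K g₁.hom g₂.hom (congrArg CommRingCat.Hom.hom (Spec.map_injective h12))
      exact CommRingCat.hom_ext h4
  rw [hui]
  constructor
  · rintro ⟨h1, h2, h3⟩
    refine ⟨h1, ?_, h2⟩
    intro a ha
    rw [nilradical_eq_sInf, Ideal.mem_sInf]
    intro q hq
    have h3' : Function.Surjective (PrimeSpectrum.comap φ) := h3.surj
    obtain ⟨y, hy⟩ := h3' (⟨q, hq⟩ : PrimeSpectrum A)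
    have h4 : a ∈ (PrimeSpectrum.comap φ y).asIdeal := by
      rw [PrimeSpectrum.comap_asIdeal, Ideal.mem_comap, (RingHom.mem_ker).1 ha]
      exact Ideal.zero_mem _
    rwa [hy] at h4
  · rintro ⟨h1, h2, h3⟩
    exact ⟨h1, h3, ⟨surjective_comap_of φ h1 h2⟩⟩

namespace IsUH

lemma surjective_comap {φ : A →+* B} (h : IsUH φ) : Function.Surjective (PrimeSpectrum.comap φ) :=
  surjective_comap_of φ h.isIntegral h.ker_le

lemma comp {φ : A →+* B} {ψ : B →+* C} (h₁ : IsUH φ) (h₂ : IsUH ψ) : IsUH (ψ.comp φ) := by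
  refine ⟨h₁.isIntegral.trans _ _ h₂.isIntegral, ?_, ?_⟩
  · intro a ha
    have h3 : φ a ∈ nilradical B := h₂.ker_le ha
    obtain ⟨n, hn⟩ := (mem_nilradical.1 h3)
    rw [← map_pow] at hn
    obtain ⟨m, hm⟩ := mem_nilradical.1 (h₁.ker_le (RingHom.mem_ker.2 hn))
    exact mem_nilradical.2 ⟨n * m, by rw [pow_mul]; exact hm⟩
  · intro K _ g₁ g₂ h
    exact h₂.eq_of_comp_eq K _ _ (h₁.eq_of_comp_eq K _ _ (by simpa [RingHom.comp_assoc] using h))

/-- A quotient by a nil ideal (surjection with nil kernel) is a universal homeomorphism. -/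
lemma of_surjective {φ : A →+* B} (hs : Function.Surjective φ) (hk : RingHom.ker φ ≤ nilradical A) :
    IsUH φ := by
  refine ⟨RingHom.isIntegral_of_surjective φ hs, hk, ?_⟩
  intro K _ g₁ g₂ h
  ext b
  obtain ⟨a, rfl⟩ := hs b
  exact congrArg (fun f => f a) h

lemma of_ringEquiv (e : A ≃+* B) : IsUH (e : A →+* B) :=
  of_surjective e.surjective (by
    intro a ha
    have : a = 0 := e.injective (by simpa using (RingHom.mem_ker.1 ha))
    rw [this]; exact Ideal.zero_mem _)

lemma id : IsUH (RingHom.id A) := of_ringEquiv (RingEquiv.refl A)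

/-- If `ψ ∘ φ` and `φ` are universal homeomorphisms so is `ψ`. -/
lemma of_comp {φ : A →+* B} {ψ : B →+* C} (h : IsUH (ψ.comp φ)) (h₁ : IsUH φ) : IsUH ψ := by
  rw [← isUnivHomeo_Spec_iff] at *
  rw [CommRingCat.ofHom_comp, Spec.map_comp] at h
  exact Groth.Agent.FlatA.UnivHomeo.isUnivHomeo_of_postcomp _ _ h h₁

lemma of_comp' {φ : A →+* B} {ψ : B →+* C} (h : IsUH (ψ.comp φ)) (h₁ : IsUH ψ) : IsUH φ := by
  rw [← isUnivHomeo_Spec_iff] at *
  rw [CommRingCat.ofHom_comp, Spec.map_comp] at h
  exact Groth.Agent.FlatA.UnivHomeo.isUnivHomeo_of_precomp _ _ h h₁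

end IsUH

/-- A prime over the kernel of a geometric point comes from a geometric point (integral extension). -/
theorem exists_hom (φ : A →+* C) (hφ : φ.IsIntegral) {Ω : Type u} [Field Ω] [IsAlgClosed Ω] (a₀ : A →+* Ω)
    (q : PrimeSpectrum C) (hq : q.asIdeal.comap φ = RingHom.ker a₀) :
    ∃ c₀ : C →+* Ω, c₀.comp φ = a₀ ∧ RingHom.ker c₀ = q.asIdeal := by
  let _ : Algebra A C := φ.toAlgebra
  have : Algebra.IsIntegral A C := ⟨hφ⟩
  have : (RingHom.ker a₀).IsPrime := RingHom.ker_isPrime _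
  have : q.asIdeal.LiesOver (RingHom.ker a₀) := ⟨hq.symm⟩
  let _ : Algebra (Localization.AtPrime (RingHom.ker a₀)) (Localization.AtPrime q.asIdeal) :=
    Localization.AtPrime.algebraOfLiesOver _ _
  have : Localization.AtPrime.IsLiesOverAlgebra (RingHom.ker a₀) q.asIdeal := ⟨rfl⟩
  let _ : Algebra (RingHom.ker a₀).ResidueField Ω :=
    (Ideal.ResidueField.lift (RingHom.ker a₀) a₀ le_rfl
      (fun x hx => (isUnit_iff_ne_zero.mpr (fun h => hx (by simpa [RingHom.mem_ker] using h))))).toAlgebra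
  let l : q.asIdeal.ResidueField →ₐ[(RingHom.ker a₀).ResidueField] Ω := IsAlgClosed.lift
  refine ⟨l.toRingHom.comp (algebraMap C q.asIdeal.ResidueField), ?_, ?_⟩
  · ext a
    have h1 : algebraMap C q.asIdeal.ResidueField (algebraMap A C a) =
        algebraMap (RingHom.ker a₀).ResidueField q.asIdeal.ResidueField
          (algebraMap A (RingHom.ker a₀).ResidueField a) := by
      rw [← IsScalarTower.algebraMap_apply A C q.asIdeal.ResidueField,
        ← IsScalarTower.algebraMap_apply A (RingHom.ker a₀).ResidueField q.asIdeal.ResidueField]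
    show l (algebraMap C q.asIdeal.ResidueField (algebraMap A C a)) = a₀ a
    rw [h1, l.commutes]
    exact Ideal.ResidueField.lift_algebraMap _ _ _ _ _
  · ext x
    rw [RingHom.mem_ker]
    show l (algebraMap C q.asIdeal.ResidueField x) = 0 ↔ _
    rw [map_eq_zero_iff l (RingHom.injective l.toRingHom)]
    exact Ideal.algebraMap_residueField_eq_zero

/-- Geometric points lift uniquely along a universal homeomorphism. -/
theorem IsUH.existsUnique_point {φ : A →+* C} (hφ : IsUH φ) {Ω : Type u} [Field Ω] [IsAlgClosed Ω]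
    (a₀ : A →+* Ω) : ∃! c₀ : C →+* Ω, c₀.comp φ = a₀ := by
  have : (RingHom.ker a₀).IsPrime := RingHom.ker_isPrime _
  obtain ⟨q, hq⟩ := hφ.surjective_comap ⟨RingHom.ker a₀, this⟩
  obtain ⟨c₀, h1, -⟩ := exists_hom φ hφ.isIntegral a₀ q (congrArg PrimeSpectrum.asIdeal hq)
  exact ⟨c₀, h1, fun c h => hφ.eq_of_comp_eq _ _ _ (h.trans h1.symm)⟩

end K344.UH
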