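import Groth.Agent.HTop.K346.ValLift
import Mathlib.AlgebraicGeometry.AffineTransitionLimit
import Mathlib.CategoryTheory.Limits.Constructions.Over.Connected

/-! # A criterion for lifting valuation rings, and cofiltered limits -/

set_option autoImplicit false
universe w w' u

open CategoryTheory CategoryTheory.Limits AlgebraicGeometry HTop

namespace K344.VCrit

open K346.ValLift

section Ring

variable {V C : Type u} [CommRing V] [CommRing C]

/-- The algebraic criterion: no equation `r = r m c` with `r ≠ 0` and `m` in the maximal ideal. -/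
def Crit [IsLocalRing V] (γ : V →+* C) : Prop :=
  ∀ r : V, r ≠ 0 → ∀ m ∈ IsLocalRing.maximalIdeal V, ∀ c : C, γ r ≠ γ (r * m) * c

/-- Torsion modulo the maximal ideal. -/
def badIdeal [IsDomain V] [ValuationRing V] (γ : V →+* C) : Ideal C where
  carrier := {c | ∃ r : V, r ≠ 0 ∧ ∃ m ∈ IsLocalRing.maximalIdeal V, ∃ d : C, γ r * c = γ (r * m) * d}
  zero_mem' := ⟨1, one_ne_zero, 0, Ideal.zero_mem _, 0, by simp⟩
  add_mem' := by
    rintro a b ⟨r, hr, m, hm, d, h⟩ ⟨r', hr', m', hm', d', h'⟩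
    obtain ⟨v, hv⟩ := ValuationRing.cond m m'
    rcases hv with hv | hv
    · refine ⟨r * r', mul_ne_zero hr hr', m, hm, d + γ v * d', ?_⟩
      have e1 : γ (r * r') * (a + b) = γ r' * (γ r * a) + γ r * (γ r' * b) := by rw [map_mul]; ring
      rw [e1, h, h', ← hv]
      simp only [map_mul]
      ring
    · refine ⟨r * r', mul_ne_zero hr hr', m', hm', γ v * d + d', ?_⟩
      have e1 : γ (r * r') * (a + b) = γ r' * (γ r * a) + γ r * (γ r' * b) := by rw [map_mul]; ring
      rw [e1, h, h', ← hv]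
      simp only [map_mul]
      ring
  smul_mem' := by
    rintro c x ⟨r, hr, m, hm, d, h⟩
    refine ⟨r, hr, m, hm, c * d, ?_⟩
    rw [smul_eq_mul]
    linear_combination c * h

lemma exists_primes [IsDomain V] [ValuationRing V] (γ : V →+* C) (h : Crit γ) :
    ∃ q q' : PrimeSpectrum C, q ≤ q' ∧ q.asIdeal.comap γ = ⊥ ∧
      q'.asIdeal.comap γ = IsLocalRing.maximalIdeal V := by
  have h1 : badIdeal γ ≠ ⊤ := by
    intro h2
    have h3 : (1 : C) ∈ badIdeal γ := by rw [h2]; trivial
    obtain ⟨r, hr, m, hm, d, hd⟩ := h3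
    rw [mul_one] at hd
    exact h r hr m hm d hd
  obtain ⟨M, hM, hle⟩ := Ideal.exists_le_maximal _ h1
  have hMp : M.IsPrime := hM.isPrime
  have h2 : IsLocalRing.maximalIdeal V = M.comap γ := by
    refine (IsLocalRing.maximalIdeal.isMaximal V).eq_of_le (Ideal.comap_ne_top _ hMp.ne_top) ?_
    intro m hm
    exact hle ⟨1, one_ne_zero, m, hm, 1, by simp⟩
  have hdis : Disjoint ((⊥ : Ideal C) : Set C)
      (((nonZeroDivisors V).map γ ⊔ M.primeCompl : Submonoid C) : Set C) := by
    rw [Set.disjoint_left]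
    intro x hx hx'
    obtain ⟨_, ⟨r, hr, rfl⟩, s, hs, hrs⟩ := Submonoid.mem_sup.1 hx'
    apply hs
    apply hle
    refine ⟨r, nonZeroDivisors.ne_zero hr, 0, Ideal.zero_mem _, 0, ?_⟩
    have h3 : x = 0 := hx
    rw [h3] at hrs
    rw [mul_zero]
    exact hrs
  obtain ⟨q, hq, -, hqd⟩ := Ideal.exists_le_prime_disjoint _ _ hdis
  refine ⟨⟨q, hq⟩, ⟨M, hMp⟩, ?_, ?_, h2.symm⟩
  · intro x hx
    by_contra hxM
    exact Set.disjoint_left.1 hqd hx ((le_sup_right : M.primeCompl ≤ _) hxM)
  · rw [eq_bot_iff]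
    intro r hr
    by_contra hr0
    exact Set.disjoint_left.1 hqd hr
      ((le_sup_left : (nonZeroDivisors V).map γ ≤ _) ⟨r, mem_nonZeroDivisors_of_ne_zero hr0, rfl⟩)

end Ring

/-- The ring map on global sections attached to a morphism to `Spec V`. -/
noncomputable def glob (V : CommRingCat.{u}) {P : Scheme.{u}} (p : P ⟶ Spec V) : V →+* Γ(P, ⊤) :=
  ((Scheme.ΓSpecIso V).inv ≫ p.appTop).hom

lemma glob_comp (V : CommRingCat.{u}) {P Q : Scheme.{u}} (h : Q ⟶ P) (p : P ⟶ Spec V) :
    glob V (h ≫ p) = h.appTop.hom.comp (glob V p) := by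
  rw [glob, Scheme.Hom.comp_appTop, ← Category.assoc]
  rfl

lemma isoSpec_hom_SpecMap_glob (V : CommRingCat.{u}) {P : Scheme.{u}} (p : P ⟶ Spec V) :
    P.toSpecΓ ≫ Spec.map (CommRingCat.ofHom (glob V p)) = p := by
  show P.toSpecΓ ≫ Spec.map ((Scheme.ΓSpecIso V).inv ≫ p.appTop) = p
  rw [Spec.map_comp, ← Scheme.toSpecΓ_naturality_assoc, toSpecΓ_SpecMap_ΓSpecIso_inv, Category.comp_id]

lemma glob_SpecMap {V W : CommRingCat.{u}} (φ : V ⟶ W) :
    (Scheme.ΓSpecIso W).hom.hom.comp (glob V (Spec.map φ)) = φ.hom := by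
  rw [glob, ← CommRingCat.hom_comp, Category.assoc, Scheme.ΓSpecIso_naturality, Iso.inv_hom_id_assoc]

/-- For an affine scheme over `Spec V`, lifting of `Spec V` after an extension of valuation rings is
equivalent to the criterion on global sections. -/
theorem crit_iff (V : CommRingCat.{u}) [IsDomain V] [ValuationRing V] {P : Scheme.{u}} [IsAffine P]
    (p : P ⟶ Spec V) : Crit (glob V p) ↔
      ∃ (W : CommRingCat.{u}) (_ : IsDomain W) (_ : ValuationRing W) (φ : V ⟶ W), IsExtVal V W φ ∧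
        ∃ g' : Spec W ⟶ P, g' ≫ p = Spec.map φ := by
  constructor
  · intro h
    obtain ⟨q, q', hqq', hq, hq'⟩ := exists_primes (glob V p) h
    let f : Spec Γ(P, ⊤) ⟶ Spec V := Spec.map (CommRingCat.ofHom (glob V p))
    obtain ⟨W, i1, i2, φ, hφ, g', hg', -, -⟩ := exists_extVal_of_specializes V f (y := q) (x := q')
      ((PrimeSpectrum.le_iff_specializes q q').1 hqq') (PrimeSpectrum.ext hq) (PrimeSpectrum.ext hq')
    refine ⟨W, i1, i2, φ, hφ, g' ≫ P.isoSpec.inv, ?_⟩
    rw [← hg']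
    have h1 : P.isoSpec.inv ≫ p = f := by
      rw [Iso.inv_comp_eq]
      exact (isoSpec_hom_SpecMap_glob V p).symm
    rw [Category.assoc, h1]
  · rintro ⟨W, i1, i2, φ, hφ, g', hg'⟩ r hr m hm c hc
    let δ : Γ(P, ⊤) →+* W := (Scheme.ΓSpecIso W).hom.hom.comp g'.appTop.hom
    have hδ : ∀ v : V, δ (glob V p v) = φ.hom v := by
      intro v
      have e1 : δ.comp (glob V p) = φ.hom := by
        show ((Scheme.ΓSpecIso W).hom.hom.comp g'.appTop.hom).comp (glob V p) = _
        rw [RingHom.comp_assoc, ← glob_comp, hg', glob_SpecMap]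
      exact congrArg (fun f => f v) e1
    have h1 := congrArg δ hc
    rw [map_mul, hδ, hδ, map_mul, mul_assoc] at h1
    have h2 : φ.hom r ≠ 0 := by
      intro h0
      exact hr (hφ.1 (by rw [h0, map_zero]))
    have h3 : φ.hom m * δ c = 1 := by
      have h4 : φ.hom r * (φ.hom m * δ c) = φ.hom r * 1 := by rw [← h1, mul_one]
      exact mul_left_cancel₀ h2 h4
    have h5 : IsUnit (φ.hom m) := IsUnit.of_mul_eq_one _ h3
    have := hφ.2
    exact (IsLocalRing.mem_maximalIdeal m).1 hm (isUnit_of_map_unit φ.hom m h5)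

/-- The lifting property of a one-member family of affine schemes in terms of the criterion. -/
theorem hasValLift_singleton_iff {X Y : Scheme.{u}} (f : X ⟶ Y) [IsAffineHom f] :
    HasValLift (PreZeroHypercover.singleton.{w} f) ↔
      ∀ (V : CommRingCat.{u}) [IsDomain V] [ValuationRing V] (g : Spec V ⟶ Y),
        Crit (glob V (pullback.fst g f)) := by
  constructor
  · intro h V _ _ g
    obtain ⟨W, i1, i2, φ, hφ, j, g', hg'⟩ := h V g
    have : IsAffine (pullback g f) := isAffine_of_isAffineHom (pullback.fst g f)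
    rw [crit_iff]
    exact ⟨W, i1, i2, φ, hφ, pullback.lift (Spec.map φ) g' hg'.symm, pullback.lift_fst _ _ _⟩
  · intro h V _ _ g
    have : IsAffine (pullback g f) := isAffine_of_isAffineHom (pullback.fst g f)
    obtain ⟨W, i1, i2, φ, hφ, g', hg'⟩ := (crit_iff V (pullback.fst g f)).1 (h V g)
    refine ⟨W, i1, i2, φ, hφ, PUnit.unit, g' ≫ pullback.snd g f, ?_⟩
    show (g' ≫ pullback.snd g f) ≫ f = _
    rw [Category.assoc, ← pullback.condition, ← Category.assoc, hg']

end K344.VCrit
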