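import Groth.Agent.HTop.K344.VTfae
import Groth.Agent.HTop.K344.OverTop

/-! # Limit preserving h sheaves are V sheaves -/

set_option autoImplicit false
universe w w' u v₁ u₁

open CategoryTheory CategoryTheory.Limits AlgebraicGeometry HTop Opposite

namespace K344.VH

section Colim

variable {C : Type u₁} [Category.{v₁} C] {P : Cᵒᵖ ⥤ Type w} {I : Type u} [SmallCategory I] {D : I ⥤ C}
  {c : Cone D}

theorem exists_of_isColimit (hc : IsColimit (P.mapCocone c.op)) (x : P.obj (op c.pt)) :
    ∃ (i : I) (y : P.obj (op (D.obj i))), P.map (c.π.app i).op y = x := by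
  obtain ⟨i, y, hy⟩ := Types.jointly_surjective_of_isColimit hc x
  exact ⟨i.unop, y, hy⟩

theorem exists_eq_of_isColimit [IsCofiltered I] (hc : IsColimit (P.mapCocone c.op)) {i : I}
    (x y : P.obj (op (D.obj i))) (h : P.map (c.π.app i).op x = P.map (c.π.app i).op y) :
    ∃ (k : I) (a : k ⟶ i), P.map (D.map a).op x = P.map (D.map a).op y := by
  obtain ⟨k, a, ha⟩ := (Types.FilteredColimit.isColimit_eq_iff' hc (i := op i) x y).1 h
  exact ⟨k.unop, a.unop, ha⟩

end Colim

section Square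

variable {Y : Scheme.{u}} {I : Type u} [SmallCategory I] (D : I ⥤ Over Y)

/-- The self product over `Y`. -/
noncomputable def sqObj (Z : Over Y) : Over Y := Over.mk (pullback.fst Z.hom Z.hom ≫ Z.hom)

noncomputable def sqFst (Z : Over Y) : sqObj Z ⟶ Z := Over.homMk (pullback.fst Z.hom Z.hom)

noncomputable def sqSnd (Z : Over Y) : sqObj Z ⟶ Z :=
  Over.homMk (pullback.snd Z.hom Z.hom) (pullback.condition).symm

noncomputable def sqLift {W Z : Over Y} (a b : W ⟶ Z) : W ⟶ sqObj Z :=
  Over.homMk (pullback.lift a.left b.left (by rw [Over.w, Over.w])) (by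
    change pullback.lift a.left b.left _ ≫ pullback.fst Z.hom Z.hom ≫ Z.hom = _
    rw [pullback.lift_fst_assoc, Over.w])

@[reassoc (attr := simp)]
theorem sqLift_fst {W Z : Over Y} (a b : W ⟶ Z) : sqLift a b ≫ sqFst Z = a := by
  ext
  exact pullback.lift_fst _ _ _

@[reassoc (attr := simp)]
theorem sqLift_snd {W Z : Over Y} (a b : W ⟶ Z) : sqLift a b ≫ sqSnd Z = b := by
  ext
  exact pullback.lift_snd _ _ _

theorem sq_ext {W Z : Over Y} {a b : W ⟶ sqObj Z} (h1 : a ≫ sqFst Z = b ≫ sqFst Z)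
    (h2 : a ≫ sqSnd Z = b ≫ sqSnd Z) : a = b := by
  ext
  refine pullback.hom_ext ?_ ?_
  · exact congrArg (fun t => t.left) h1
  · exact congrArg (fun t => t.left) h2

/-- The diagram of self products. -/
noncomputable def sq : I ⥤ Over Y where
  obj j := sqObj (D.obj j)
  map a := sqLift (sqFst _ ≫ D.map a) (sqSnd _ ≫ D.map a)
  map_id j := sq_ext (by simp) (by simp)
  map_comp a b := sq_ext (by simp) (by simp)

/-- The cone of self products. -/
noncomputable def sqCone (c : Cone D) : Cone (sq D) where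
  pt := sqObj c.pt
  π :=
    { app j := sqLift (sqFst _ ≫ c.π.app j) (sqSnd _ ≫ c.π.app j)
      naturality i j a := by
        refine sq_ext ?_ ?_
        · simp [sq]
        · simp [sq] }

/-- The first projection from the diagram of self products. -/
noncomputable def fstTrans : sq D ⟶ D where
  app j := sqFst (D.obj j)
  naturality i j a := by simp [sq]

/-- The second projection from the diagram of self products. -/
noncomputable def sndTrans : sq D ⟶ D where
  app j := sqSnd (D.obj j)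
  naturality i j a := by simp [sq]

theorem sqCone_π_fst (c : Cone D) (j : I) {W : Over Y} (a : W ⟶ sqObj c.pt) :
    ((a ≫ (sqCone D c).π.app j : W ⟶ sqObj (D.obj j)) ≫ sqFst (D.obj j)) = a ≫ sqFst c.pt ≫ c.π.app j := by
  change ((a ≫ sqLift (sqFst _ ≫ c.π.app j) (sqSnd _ ≫ c.π.app j) : W ⟶ sqObj (D.obj j)) ≫ sqFst (D.obj j)) = _
  rw [Category.assoc, sqLift_fst]

theorem sqCone_π_snd (c : Cone D) (j : I) {W : Over Y} (a : W ⟶ sqObj c.pt) :
    ((a ≫ (sqCone D c).π.app j : W ⟶ sqObj (D.obj j)) ≫ sqSnd (D.obj j)) = a ≫ sqSnd c.pt ≫ c.π.app j := by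
  change ((a ≫ sqLift (sqFst _ ≫ c.π.app j) (sqSnd _ ≫ c.π.app j) : W ⟶ sqObj (D.obj j)) ≫ sqSnd (D.obj j)) = _
  rw [Category.assoc, sqLift_snd]

/-- The self product of a limit is the limit of the self products. -/
noncomputable def isLimitSqCone (c : Cone D) (hc : IsLimit c) : IsLimit (sqCone D c) where
  lift s := sqLift (hc.lift ((Cone.postcompose (fstTrans D)).obj s)) (hc.lift ((Cone.postcompose (sndTrans D)).obj s))
  fac s j := by
    refine sq_ext ?_ ?_
    · refine (sqCone_π_fst D c j _).trans ?_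
      rw [sqLift_fst_assoc, hc.fac]
      rfl
    · refine (sqCone_π_snd D c j _).trans ?_
      rw [sqLift_snd_assoc, hc.fac]
      rfl
  uniq s m hm := by
    refine sq_ext ?_ ?_
    · rw [sqLift_fst]
      refine hc.hom_ext fun j => ?_
      rw [hc.fac]
      have h2 : (m ≫ (sqCone D c).π.app j : s.pt ⟶ sqObj (D.obj j)) = s.π.app j := hm j
      exact (Category.assoc _ _ _).trans ((sqCone_π_fst D c j m).symm.trans (congrArg (· ≫ sqFst _) h2))
    · rw [sqLift_snd]
      refine hc.hom_ext fun j => ?_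
      rw [hc.fac]
      have h2 : (m ≫ (sqCone D c).π.app j : s.pt ⟶ sqObj (D.obj j)) = s.π.app j := hm j
      exact (Category.assoc _ _ _).trans ((sqCone_π_snd D c j m).symm.trans (congrArg (· ≫ sqSnd _) h2))

theorem nonempty_isLimit_sqCone [IsCofiltered I] (c : Cone D) (hc : IsLimit ((Over.forget Y).mapCone c)) :
    Nonempty (IsLimit ((Over.forget Y).mapCone (sqCone D c))) := by
  have : IsConnected I := IsCofiltered.isConnected I
  obtain ⟨hc'⟩ := K344.VLimit.nonempty_isLimit_over D c hc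
  have h1 : PreservesLimitsOfShape I (Over.forget Y) :=
    inferInstanceAs (PreservesLimitsOfShape I (CostructuredArrow.proj (𝟭 Scheme.{u}) Y))
  exact ⟨isLimitOfPreserves (Over.forget Y) (isLimitSqCone D c hc')⟩

theorem isAffine_sqObj (Z : Over Y) [IsAffine Y] [IsAffine Z.left] : IsAffine (sqObj Z).left :=
  inferInstanceAs (IsAffine (pullback Z.hom Z.hom))

end Square

section Main

variable {S : Scheme.{u}} {F : (Over S)ᵒᵖ ⥤ Type w}

/-- Limit preserving presheaves on schemes over `S`. -/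
def LimPres (S : Scheme.{u}) (F : (Over S)ᵒᵖ ⥤ Type w) : Prop :=
  ∀ (I : Type u) [SmallCategory I] [IsCofiltered I] (D : I ⥤ Over S),
      (∀ i, IsAffine (D.obj i).left) → ∀ (c : Cone D), IsLimit ((Over.forget S).mapCone c) →
        Nonempty (IsColimit (F.mapCocone c.op))

/-- The structure morphism of an object over `X.left`, as a morphism over `S`. -/
def q {X : Over S} (W : Over X.left) : (Over.map X.hom).obj W ⟶ X := Over.homMk W.hom

@[reassoc]
theorem map_q {X : Over S} {W W' : Over X.left} (a : W ⟶ W') : (Over.map X.hom).map a ≫ q W' = q W := by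
  ext
  exact Over.w a

theorem map_apply_of_comp {C : Type u₁} [Category.{v₁} C] {P : Cᵒᵖ ⥤ Type w} {A B E : C} {a : A ⟶ B} {b : B ⟶ E}
    {e : A ⟶ E} (h : a ≫ b = e) (x : P.obj (op E)) : P.map e.op x = P.map a.op (P.map b.op x) := by
  rw [← h, op_comp, P.map_comp, comp_apply]

/-- The morphism to the self product. -/
noncomputable def liftSq {X Z : Over S} {W : Over X.left} (p₁ p₂ : Z ⟶ (Over.map X.hom).obj W)
    (h : p₁ ≫ q W = p₂ ≫ q W) : Z ⟶ (Over.map X.hom).obj (sqObj W) :=
  have h' : (p₁.left : Z.left ⟶ W.left) ≫ W.hom = (p₂.left : Z.left ⟶ W.left) ≫ W.hom := congrArg (fun t => t.left) h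
  have h'' : (pullback.lift (p₁.left : Z.left ⟶ W.left) (p₂.left : Z.left ⟶ W.left) h' ≫
      ((Over.map X.hom).obj (sqObj W)).hom) = Z.hom := by
    change pullback.lift _ _ h' ≫ (pullback.fst W.hom W.hom ≫ W.hom) ≫ X.hom = Z.hom
    rw [Category.assoc, pullback.lift_fst_assoc]
    exact Over.w p₁
  Over.homMk _ h''

theorem liftSq_fst {X Z : Over S} {W : Over X.left} (p₁ p₂ : Z ⟶ (Over.map X.hom).obj W)
    (h : p₁ ≫ q W = p₂ ≫ q W) : liftSq p₁ p₂ h ≫ (Over.map X.hom).map (sqFst W) = p₁ := by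
  ext
  exact pullback.lift_fst _ _ _

theorem liftSq_snd {X Z : Over S} {W : Over X.left} (p₁ p₂ : Z ⟶ (Over.map X.hom).obj W)
    (h : p₁ ≫ q W = p₂ ≫ q W) : liftSq p₁ p₂ h ≫ (Over.map X.hom).map (sqSnd W) = p₂ := by
  ext
  exact pullback.lift_snd _ _ _

theorem sqFst_q {X : Over S} (W : Over X.left) :
    (Over.map X.hom).map (sqFst W) ≫ q W = (Over.map X.hom).map (sqSnd W) ≫ q W := by
  rw [map_q, map_q]

/-- The sheaf property for a single map in terms of the self product. -/
theorem isSheafFor_singleton_q_iff {X : Over S} (W : Over X.left) :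
    Presieve.IsSheafFor F (Presieve.singleton (q W)) ↔
      ∀ x : F.obj (op ((Over.map X.hom).obj W)),
        F.map ((Over.map X.hom).map (sqFst W)).op x = F.map ((Over.map X.hom).map (sqSnd W)).op x →
          ∃! y : F.obj (op X), F.map (q W).op y = x := by
  rw [Presieve.isSheafFor_singleton]
  constructor
  · intro h x hx
    refine h x ?_
    intro Z p₁ p₂ hp
    rw [map_apply_of_comp (liftSq_fst p₁ p₂ hp), map_apply_of_comp (liftSq_snd p₁ p₂ hp), hx]
  · intro h x hx
    exact h x (hx _ _ (sqFst_q W))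

/-- The morphism of self products. -/
noncomputable def sqMap {Y : Scheme.{u}} {W Z : Over Y} (a : W ⟶ Z) : sqObj W ⟶ sqObj Z :=
  sqLift (sqFst _ ≫ a) (sqSnd _ ≫ a)

theorem map_sqMap_fst {Y : Scheme.{u}} {C : Type u₁} [Category.{v₁} C] (N : Over Y ⥤ C) {W Z : Over Y} (a : W ⟶ Z) :
    N.map (sqMap a) ≫ N.map (sqFst Z) = N.map (sqFst W) ≫ N.map a := by
  rw [← N.map_comp, ← N.map_comp]
  exact congrArg N.map (sqLift_fst _ _)

theorem map_sqMap_snd {Y : Scheme.{u}} {C : Type u₁} [Category.{v₁} C] (N : Over Y ⥤ C) {W Z : Over Y} (a : W ⟶ Z) :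
    N.map (sqMap a) ≫ N.map (sqSnd Z) = N.map (sqSnd W) ≫ N.map a := by
  rw [← N.map_comp, ← N.map_comp]
  exact congrArg N.map (sqLift_snd _ _)

theorem map_map_of_eq {C : Type u₁} [Category.{v₁} C] {P : Cᵒᵖ ⥤ Type w} {A B B' E : C} {a : A ⟶ B} {b : B ⟶ E}
    {a' : A ⟶ B'} {b' : B' ⟶ E} (h : a ≫ b = a' ≫ b') (x : P.obj (op E)) :
    P.map a.op (P.map b.op x) = P.map a'.op (P.map b'.op x) := by
  rw [← map_apply_of_comp rfl, ← map_apply_of_comp rfl, h]

/-- The sheaf property for h coverings by one affine scheme. -/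
theorem isSheafFor_q_of_h (hF : IsHSheafOver S F) {X : Over S} (W : Over X.left) [IsAffine X.left]
    [IsAffine W.left] [LocallyOfFinitePresentation W.hom]
    (hW : IsStandardV (PreZeroHypercover.singleton.{0} W.hom)) :
    Presieve.IsSheafFor F (Presieve.singleton (q W)) := by
  refine hF _ ?_
  rw [K344.OverTop.singleton_map]
  let r : W.left ⟶ X.left := W.hom
  have h1 : IsHCover (PreZeroHypercover.singleton.{0} r) :=
    ⟨fun _ => inferInstanceAs (LocallyOfFinitePresentation W.hom), (K344.VTfae.isVCover_singleton_iff _).2 hW⟩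
  have h2 := (presieve₀_mem_hPrecoverage_iff _).2 h1
  rw [PreZeroHypercover.presieve₀_singleton] at h2
  exact h2

/-- Descent along a limit. -/
theorem isSheafFor_q_of_isLimit (hF : LimPres S F) {X : Over S} [IsAffine X.left] {I : Type u} [SmallCategory I]
    [IsCofiltered I] (D : I ⥤ Over X.left) (c : Cone D) (hc : IsLimit ((Over.forget X.left).mapCone c))
    [hD : ∀ i, IsAffine (D.obj i).left]
    (hsh : ∀ i, Presieve.IsSheafFor F (Presieve.singleton (q (D.obj i)))) :
    Presieve.IsSheafFor F (Presieve.singleton (q c.pt)) := by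
  let N : Over X.left ⥤ Over S := Over.map X.hom
  obtain ⟨h1⟩ := hF I (D ⋙ N) hD (N.mapCone c) hc
  obtain ⟨hc2⟩ := nonempty_isLimit_sqCone D c hc
  obtain ⟨h2⟩ := hF I (sq D ⋙ N) (fun i => isAffine_sqObj (D.obj i)) (N.mapCone (sqCone D c)) hc2
  have inj1 : ∀ (i : I) (x y : F.obj (op (N.obj (D.obj i)))),
      F.map (N.map (c.π.app i)).op x = F.map (N.map (c.π.app i)).op y →
      ∃ (k : I) (a : k ⟶ i), F.map (N.map (D.map a)).op x = F.map (N.map (D.map a)).op y :=
    fun i x y h => exists_eq_of_isColimit h1 x y h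
  have inj2 : ∀ (i : I) (x y : F.obj (op (N.obj (sqObj (D.obj i))))),
      F.map (N.map (sqMap (c.π.app i))).op x = F.map (N.map (sqMap (c.π.app i))).op y →
      ∃ (k : I) (a : k ⟶ i), F.map (N.map (sqMap (D.map a))).op x = F.map (N.map (sqMap (D.map a))).op y :=
    fun i x y h => exists_eq_of_isColimit h2 x y h
  have surj : ∀ (x : F.obj (op (N.obj c.pt))),
      ∃ (i : I) (y : F.obj (op (N.obj (D.obj i)))), F.map (N.map (c.π.app i)).op y = x :=
    fun x => exists_of_isColimit h1 x
  rw [isSheafFor_singleton_q_iff]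
  intro x hx
  have e1 : ∀ i, N.map (c.π.app i) ≫ q (D.obj i) = q c.pt := fun i => map_q _
  refine existsUnique_of_exists_of_unique ?_ ?_
  · obtain ⟨i, y, hy⟩ := surj x
    obtain ⟨k, a, hk⟩ := inj2 i (F.map (N.map (sqFst (D.obj i))).op y) (F.map (N.map (sqSnd (D.obj i))).op y) (by
      rw [map_map_of_eq (map_sqMap_fst N _), map_map_of_eq (map_sqMap_snd N _), hy]
      exact hx)
    rw [map_map_of_eq (map_sqMap_fst N _), map_map_of_eq (map_sqMap_snd N _)] at hk
    obtain ⟨z, hz, -⟩ := (isSheafFor_singleton_q_iff (D.obj k)).1 (hsh k) (F.map (N.map (D.map a)).op y) hk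
    refine ⟨z, ?_⟩
    have e2 : N.map (c.π.app k) ≫ N.map (D.map a) = N.map (c.π.app i) := by
      rw [← N.map_comp, c.w a]
    rw [map_apply_of_comp (e1 k), hz, ← map_apply_of_comp e2, hy]
  · intro y₁ y₂ hy₁ hy₂
    obtain ⟨i⟩ : Nonempty I := IsCofiltered.nonempty
    obtain ⟨k, a, hk⟩ := inj1 i (F.map (q (D.obj i)).op y₁) (F.map (q (D.obj i)).op y₂) (by
      rw [← map_apply_of_comp (e1 i), ← map_apply_of_comp (e1 i), hy₁, hy₂])
    rw [← map_apply_of_comp (map_q (D.map a)), ← map_apply_of_comp (map_q (D.map a))] at hk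
    obtain ⟨z, -, hz⟩ := (isSheafFor_singleton_q_iff (D.obj k)).1 (hsh k) (F.map (q (D.obj k)).op y₁) (by
      exact map_map_of_eq (sqFst_q _) _)
    rw [hz y₁ rfl, hz y₂ hk.symm]

/-- Invariance under isomorphism. -/
theorem isSheafFor_singleton_of_iso {X Y Z : Over S} {p : Y ⟶ X} {r : Z ⟶ X} (e : Y ≅ Z) (he : e.hom ≫ r = p)
    (h : Presieve.IsSheafFor F (Presieve.singleton p)) : Presieve.IsSheafFor F (Presieve.singleton r) := by
  rw [Presieve.isSheafFor_iff_generate] at h ⊢
  have h1 : Sieve.generate (Presieve.singleton r) = Sieve.generate (Presieve.singleton p) := by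
    apply le_antisymm
    · rw [Sieve.generate_le_iff]
      rintro _ _ ⟨⟩
      exact ⟨_, e.inv, _, ⟨⟩, by rw [← he, e.inv_hom_id_assoc]⟩
    · rw [Sieve.generate_le_iff]
      rintro _ _ ⟨⟩
      exact ⟨_, e.hom, _, ⟨⟩, he⟩
  rw [h1]
  exact h

/-- S7293. -/
theorem isVSheafOver (h1 : IsHSheafOver S F) (h2 : LimPres S F) : IsVSheafOver S F := by
  refine K344.OverTop.isVSheafOver_of_singleton h1 ?_
  intro X Z p hp
  have hX : IsAffine X.left := hp.isAffine
  have hZ : IsAffine Z.left := hp.isAffine_obj PUnit.unit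
  let p' : Z.left ⟶ X.left := p.left
  obtain ⟨I, i1, i2, D, c, hc, e, haff, hfp⟩ := K344.FpLimit.exists_limit p'
  have haff' : ∀ i, IsAffine ((D ⋙ Over.forget X.left).obj i) := haff
  have hcpt : IsAffine c.pt.left := Scheme.isAffine_of_isLimit _ hc
  have h3 : IsStandardV (PreZeroHypercover.singleton.{0} c.pt.hom) := by
    rw [K344.VTfae.isStandardV_singleton_iff_hasValLift]
    exact K344.VTfae.hasValLift_of_hom (P := Over.mk p') e.inv hp.lift
  have h4 := (K344.VLimit.isStandardV_singleton_iff D c hc).1 h3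
  have h5 := isSheafFor_q_of_isLimit h2 D c hc (fun i => by
    have := hfp i
    exact isSheafFor_q_of_h h1 _ (h4 i))
  let e1 : (Over.map X.hom).obj (Over.mk p') ≅ Z := Over.isoMk (Iso.refl _) (by
    change 𝟙 _ ≫ Z.hom = p' ≫ X.hom
    rw [Category.id_comp]
    exact (Over.w p).symm)
  refine isSheafFor_singleton_of_iso ((Over.map X.hom).mapIso e ≪≫ e1) ?_ h5
  have h6 : e1.hom ≫ p = q (Over.mk p') := by
    ext
    exact Category.id_comp _
  rw [Iso.trans_hom, Category.assoc, h6]
  exact map_q _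

end Main

end K344.VH
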